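import Groth.Prelude.Def_CAlgX
import Mathlib.RingTheory.Localization.BaseChange
import Mathlib.RingTheory.TensorProduct.MvPolynomial
import Mathlib.RingTheory.FiniteStability

/-! # Localizations of finitely presented algebras are essentially of finite presentation -/

universe u

namespace GrothLib.FibreFlat

open TensorProduct

variable {R R' A A' : Type u} [CommRing R] [CommRing R'] [CommRing A] [CommRing A'] [Algebra R R']
  [Algebra R A] [Algebra R A'] [Algebra R' A'] [Algebra A A'] [IsScalarTower R R' A']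
  [IsScalarTower R A A']

theorem isEssFinitePresentation_localization (W : Submonoid R) [IsLocalization W R']
    (T : Submonoid A) [IsLocalization T A'] [Algebra.FinitePresentation R A] :
    CAlgX.IsEssFinitePresentation R' A' := by
  let S₀ := R' ⊗[R] A
  let Φ : S₀ →ₐ[R'] A' := Algebra.TensorProduct.lift (Algebra.ofId R' A')
    (IsScalarTower.toAlgHom R A A') fun _ _ => Commute.all _ _
  letI : Algebra S₀ A' := Φ.toRingHom.toAlgebra
  haveI : IsScalarTower R' S₀ A' := IsScalarTower.of_algebraMap_eq fun r => (Φ.commutes r).symm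
  have hΦ : ∀ a : A, algebraMap S₀ A' (1 ⊗ₜ a) = algebraMap A A' a := fun a => by
    show Φ (1 ⊗ₜ a) = _
    refine (Algebra.TensorProduct.lift_tmul _ _ _ _ _).trans ?_
    simp
  let mk : A →ₗ[R] S₀ := TensorProduct.mk R R' A 1
  haveI : IsLocalizedModule W mk :=
    (isLocalizedModule_iff_isBaseChange W R' mk).mpr (TensorProduct.isBaseChange R A R')
  refine ⟨S₀, inferInstance, inferInstance, inferInstance, inferInstance,
    (IsUnit.submonoid A').comap (algebraMap S₀ A'), inferInstance, ⟨fun t => t.2, fun y => ?_,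
    fun {x x'} hxx' => ?_⟩⟩
  · obtain ⟨⟨a, t⟩, hat⟩ := IsLocalization.surj T y
    refine ⟨⟨(1 : R') ⊗ₜ a, ⟨(1 : R') ⊗ₜ (t : A), ?_⟩⟩, ?_⟩
    · show IsUnit (algebraMap S₀ A' _)
      rw [hΦ]
      exact IsLocalization.map_units A' t
    · show y * algebraMap S₀ A' ((1 : R') ⊗ₜ[R] (t : A)) = algebraMap S₀ A' ((1 : R') ⊗ₜ[R] a)
      rw [hΦ, hΦ]
      exact hat
  · obtain ⟨⟨a, w⟩, haw⟩ := IsLocalizedModule.surj W mk (x - x')
    have h0 : algebraMap A A' a = algebraMap A A' 0 := by
      rw [map_zero, ← hΦ]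
      show algebraMap S₀ A' (mk a) = 0
      rw [← haw, Submonoid.smul_def, Algebra.smul_def, map_mul, map_sub, hxx', sub_self, mul_zero]
    obtain ⟨t, ht⟩ := (IsLocalization.eq_iff_exists T A').mp h0
    refine ⟨⟨algebraMap R S₀ w * ((1 : R') ⊗ₜ (t : A)), ?_⟩, ?_⟩
    · show IsUnit (algebraMap S₀ A' _)
      rw [map_mul, hΦ, IsScalarTower.algebraMap_apply R R' S₀, ← IsScalarTower.algebraMap_apply R' S₀ A']
      exact ((IsLocalization.map_units R' w).map (algebraMap R' A')).mul
        (IsLocalization.map_units A' t)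
    · show _ * _ * x = _ * _ * x'
      rw [← sub_eq_zero, ← mul_sub, mul_comm (algebraMap R S₀ w) _, mul_assoc, ← Algebra.smul_def,
        ← Submonoid.smul_def, haw]
      show ((1 : R') ⊗ₜ[R] (t : A)) * (1 ⊗ₜ[R] a) = 0
      rw [Algebra.TensorProduct.tmul_mul_tmul, ht, mul_zero, tmul_zero]

theorem exists_generators_localization (T : Submonoid A) [IsLocalization T A']
    [Algebra.FiniteType R A] :
    ∃ (n : ℕ) (φ : MvPolynomial (Fin n) R' →ₐ[R'] A'),
      ∀ s, ∃ a t, IsUnit (φ t) ∧ s * φ t = φ a := by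
  obtain ⟨n, π, hπ⟩ := Algebra.FiniteType.iff_quotient_mvPolynomial''.mp ‹Algebra.FiniteType R A›
  refine ⟨n, MvPolynomial.aeval fun i => algebraMap A A' (π (MvPolynomial.X i)), fun s => ?_⟩
  have h : ∀ p, MvPolynomial.aeval (R := R') (fun i => algebraMap A A' (π (MvPolynomial.X i)))
      (MvPolynomial.map (algebraMap R R') p) = algebraMap A A' (π p) := fun p => by
    rw [MvPolynomial.aeval_map_algebraMap]
    suffices hc : (MvPolynomial.aeval (R := R) fun i => algebraMap A A' (π (MvPolynomial.X i))) =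
        (IsScalarTower.toAlgHom R A A').comp π from DFunLike.congr_fun hc p
    ext i
    simp
  obtain ⟨⟨a, t⟩, hat⟩ := IsLocalization.surj T s
  obtain ⟨a', rfl⟩ := hπ a
  obtain ⟨t', ht'⟩ := hπ (t : A)
  refine ⟨MvPolynomial.map (algebraMap R R') a', MvPolynomial.map (algebraMap R R') t', ?_, ?_⟩
  · rw [h, ht']
    exact IsLocalization.map_units A' t
  · rw [h, h, ht']
    exact hat

end GrothLib.FibreFlat
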