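import Groth.Agent.Lib.FibreFlat.InjLocal
import Groth.Agent.Lib.FibreFlat.StalkAlg
import Groth.Agent.Lib.FibreFlat.Open
import Groth.Agent.Lib.Flatness.InjMod
import Mathlib.RingTheory.Ideal.AssociatedPrime.Finiteness
import Mathlib.RingTheory.Flat.Localization

/-!
# Elements regular on a fibre are universally regular (EGA IV 11.3.7)
-/

set_option autoImplicit false
set_option linter.style.haveILetI false
universe u

namespace GrothLib.FibreFlat

open TensorProduct IsLocalRing

/-- An ideal without torsion on a finite module over a noetherian algebra has a regular element. -/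
theorem exists_regular_of_torsion {B B' : Type u} [CommRing B] [CommRing B'] [IsNoetherianRing B']
    [Algebra B B'] {N : Type u} [AddCommGroup N] [Module B' N] [Module.Finite B' N] (I : Ideal B)
    (h : ∀ z : N, (∀ g ∈ I, algebraMap B B' g • z = 0) → z = 0) :
    ∃ g ∈ I, ∀ z : N, algebraMap B B' g • z = 0 → z = 0 := by
  classical
  by_contra hc
  push_neg at hc
  have hsub : (I : Set B) ⊆ ⋃ P ∈ ((associatedPrimes.finite B' N).toFinset : Set (Ideal B')),
      (P.comap (algebraMap B B') : Set B) := by
    intro g hg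
    obtain ⟨z, hz, hz0⟩ := hc g hg
    have : algebraMap B B' g ∈ {r : B' | ∃ x : N, x ≠ 0 ∧ r • x = 0} := ⟨z, hz0, hz⟩
    rw [← biUnion_associatedPrimes_eq_zero_divisors] at this
    obtain ⟨P, hP, hgP⟩ := Set.mem_iUnion₂.mp this
    exact Set.mem_iUnion₂.mpr ⟨P, (associatedPrimes.finite B' N).mem_toFinset.mpr hP, hgP⟩
  obtain ⟨P, hP, hIP⟩ := (Ideal.subset_union_prime (R := B)
    (f := fun P : Ideal B' => P.comap (algebraMap B B')) ⊥ ⊥ fun P hP _ _ => by
      haveI := ((associatedPrimes.finite B' N).mem_toFinset.mp hP).1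
      infer_instance).mp hsub
  obtain ⟨hPp, z, hz⟩ := (isAssociatedPrime_iff_exists_injective_linearMap P N).mp
    ((associatedPrimes.finite B' N).mem_toFinset.mp hP)
  haveI := hPp
  have h1 : z (Ideal.Quotient.mk P 1) = 0 := h _ fun g hg => by
    rw [← map_smul, Algebra.smul_def, Ideal.Quotient.algebraMap_eq, ← map_mul, mul_one,
      Ideal.Quotient.eq_zero_iff_mem.mpr (show algebraMap B B' g ∈ P from hIP hg), map_zero]
  exact hPp.ne_top ((Ideal.eq_top_iff_one P).mpr
    (Ideal.Quotient.eq_zero_iff_mem.mp (hz (h1.trans (map_zero z).symm))))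

set_option maxHeartbeats 1000000 in
/-- **An element regular on the fibre at a point is regular after every base change, at that
point.** -/
theorem univ_regular {A B M K : Type u} [CommRing A] [CommRing B] [Algebra A B]
    [Algebra.FinitePresentation A B] [AddCommGroup M] [Module B M] [Module A M] [IsScalarTower A B M]
    [Module.FinitePresentation B M] (q : Ideal B) [q.IsPrime]
    (hflat : Module.Flat A (LocalizedModule q.primeCompl M)) [Field K] [Algebra A K]
    (hK : RingHom.ker (algebraMap A K) = q.comap (algebraMap A B)) (g : B)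
    (hg : ∀ z : M ⊗[A] K, g • z = 0 → ∃ t ∉ q, t • z = 0)
    (Q : Type u) [AddCommGroup Q] [Module A Q] :
    ∀ z : M ⊗[A] Q, g • z = 0 → ∃ t ∉ q, t • z = 0 := by
  classical
  let p := q.comap (algebraMap A B)
  obtain ⟨R, _, _, _, _⟩ := exists_atPrime p
  let S := Localization.AtPrime q
  obtain ⟨ψ, hψ, hl⟩ := exists_localHom (algebraMap A B) q R S
  letI : Algebra R S := ψ.toAlgebra
  haveI : IsScalarTower A R S := IsScalarTower.of_algebraMap_eq fun x => by
    rw [IsScalarTower.algebraMap_apply A B S]
    exact (hψ x).symm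
  haveI : IsLocalHom (algebraMap R S) := hl
  let N := LocalizedModule q.primeCompl M
  let ι : M →ₗ[B] N := LocalizedModule.mkLinearMap q.primeCompl M
  letI : Module R N := Module.compHom N (algebraMap R S)
  haveI : IsScalarTower R S N := IsScalarTower.of_algebraMap_smul fun _ _ => rfl
  haveI : IsScalarTower A R N := IsScalarTower.of_algebraMap_smul fun a x => by
    rw [← algebraMap_smul S (algebraMap A R a) x, ← IsScalarTower.algebraMap_apply,
      IsScalarTower.algebraMap_apply A B S, algebraMap_smul, algebraMap_smul]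
  haveI : IsScalarTower A S N := IsScalarTower.of_algebraMap_smul fun a x => by
    rw [IsScalarTower.algebraMap_apply A B S, algebraMap_smul, algebraMap_smul]
  haveI : Module.Flat R N := (Module.flat_iff_of_isLocalization R p.primeCompl N).mpr hflat
  haveI : Module.FinitePresentation S N := FinitePresentation.of_isBaseChange ι
    (IsLocalizedModule.isBaseChange q.primeCompl S ι)
  have hess : CAlgX.IsEssFinitePresentation R S :=
    isEssFinitePresentation_localization (R := A) (A := B) p.primeCompl q.primeCompl
  -- the field as an algebra over the local ring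
  let ρ : R →+* K := IsLocalization.lift (M := p.primeCompl) (g := algebraMap A K) fun a =>
    isUnit_iff_ne_zero.mpr fun h => a.2 (hK.le (show (a : A) ∈ RingHom.ker (algebraMap A K) from h))
  letI : Algebra R K := ρ.toAlgebra
  haveI : IsScalarTower A R K := IsScalarTower.of_algebraMap_eq fun a =>
    (IsLocalization.lift_eq _ a).symm
  let σ : (R ⧸ maximalIdeal R) →ₗ[R] K := (maximalIdeal R).liftQ (Algebra.linearMap R K) fun x hx => by
    rw [LinearMap.mem_ker, Algebra.linearMap_apply]
    rw [← IsLocalization.AtPrime.map_eq_maximalIdeal (p := p) (Rₚ := R)] at hx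
    induction hx using Submodule.span_induction with
    | mem y hy =>
      obtain ⟨a, ha, rfl⟩ := hy
      rw [← IsScalarTower.algebraMap_apply]
      exact (hK.ge ha : a ∈ RingHom.ker (algebraMap A K))
    | zero => exact map_zero _
    | add a b _ _ ha hb => rw [map_add, ha, hb, add_zero]
    | smul c y _ hy => rw [smul_eq_mul, map_mul, hy, mul_zero]
  have hσ : ∃ τ : K →ₗ[R] R ⧸ maximalIdeal R, τ 1 = 1 := by
    letI := Ideal.Quotient.field (maximalIdeal R)
    let σ' : R ⧸ maximalIdeal R →+* K := Ideal.Quotient.lift _ (algebraMap R K) fun x hx => by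
      have := (Submodule.liftQ_apply (maximalIdeal R) (Algebra.linearMap R K) x (h := _)).symm.trans
        (congrArg σ ((Submodule.Quotient.mk_eq_zero _).mpr hx) |>.trans (map_zero σ))
      exact this
    letI : Algebra (R ⧸ maximalIdeal R) K := σ'.toAlgebra
    haveI : IsScalarTower R (R ⧸ maximalIdeal R) K := IsScalarTower.of_algebraMap_eq fun _ => rfl
    obtain ⟨τ, hτ⟩ := LinearMap.exists_leftInverse_of_injective
      (Algebra.linearMap (R ⧸ maximalIdeal R) K) (LinearMap.ker_eq_bot.mpr σ'.injective)
    refine ⟨τ.restrictScalars R, ?_⟩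
    have := LinearMap.congr_fun hτ 1
    simpa using this
  obtain ⟨τ, hτ⟩ := hσ
  -- membership in `𝔪N` is read in `N ⊗ K`
  have hJ : ∀ x : N, x ∈ (maximalIdeal R).map (algebraMap R S) • (⊤ : Submodule S N) ↔
      x ⊗ₜ[A] (1 : K) = 0 := fun x => by
    constructor
    · intro hx
      have he : (maximalIdeal R).map (algebraMap R S) = p.map (algebraMap A S) := by
        rw [← IsLocalization.AtPrime.map_eq_maximalIdeal (p := p) (Rₚ := R), Ideal.map_map,
          ← IsScalarTower.algebraMap_eq]
      rw [he] at hx
      have hx' : x ∈ p • (⊤ : Submodule A N) := by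
        rw [← Submodule.restrictScalars_top A S N, ← Ideal.smul_restrictScalars]
        exact hx
      refine Submodule.smul_induction_on hx' (fun r hr y _ => ?_) fun a b ha hb => ?_
      · rw [smul_tmul, Algebra.smul_def, mul_one,
          (hK.ge hr : r ∈ RingHom.ker (algebraMap A K)), tmul_zero]
      · rw [add_tmul, ha, hb, add_zero]
    · intro hx
      have h1 : x ⊗ₜ[R] (1 : R ⧸ maximalIdeal R) = 0 := by
        have := congrArg (τ.lTensor N ∘ TensorProduct.mapOfCompatibleSMul R A A N K) hx
        simpa [hτ] using this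
      have h2 : (1 : R ⧸ maximalIdeal R) ⊗ₜ[R] x = 0 := by
        rw [← TensorProduct.comm_tmul, h1, map_zero]
      have h3 : x ∈ (((maximalIdeal R).map (algebraMap R S)) • (⊤ : Submodule S N)).restrictScalars R := by
        rw [Ideal.smul_restrictScalars, Submodule.restrictScalars_top]
        exact (Flatness.one_tmul_eq_zero_iff _ x).mp h2
      exact h3
  -- multiplication by `g`
  let φ : N →ₗ[S] N := LinearMap.lsmul S N (algebraMap B S g)
  obtain ⟨hinj, hC⟩ := injective_flat_coker_local hess φ fun x hx => by
    rw [hJ] at hx ⊢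
    have hgx : g • (x ⊗ₜ[A] (1 : K)) = 0 := by
      rw [smul_tmul', ← algebraMap_smul S g x]
      exact hx
    let fK := TensorProduct.AlgebraTensorModule.rTensor A K ι
    obtain ⟨⟨z, t⟩, hz⟩ := IsLocalizedModule.surj q.primeCompl fK (x ⊗ₜ[A] (1 : K))
    obtain ⟨s, hs⟩ := (IsLocalizedModule.eq_zero_iff q.primeCompl fK (m := g • z)).mp (by
      rw [map_smul, ← hz, smul_comm, hgx, smul_zero])
    obtain ⟨t', ht', h0⟩ := hg ((s : B) • z) (by rw [smul_comm]; exact hs)
    apply ((Module.End.isUnit_iff _).mp (IsLocalizedModule.map_units (S := q.primeCompl) fK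
      (⟨t', ht'⟩ * s * t))).1
    rw [Module.algebraMap_end_apply, Module.algebraMap_end_apply, Submonoid.coe_mul, Submonoid.coe_mul,
      smul_zero, mul_smul, show (t : B) • (x ⊗ₜ[A] (1 : K)) = fK z from hz, ← map_smul, mul_smul,
      h0, map_zero]
  haveI := hC
  haveI : Module.Flat A R := IsLocalization.flat R p.primeCompl
  haveI : Module.Flat A (N ⧸ LinearMap.range φ) := Module.Flat.trans A R _
  have hker := LinearMap.lTensor_injective_of_exact_of_flat ((LinearMap.range φ).mkQ.restrictScalars A)
    (LinearMap.range φ).mkQ_surjective (φ.restrictScalars A) hinj (LinearMap.exact_map_mkQ_range φ) Q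
  intro z hz
  let fQ := TensorProduct.AlgebraTensorModule.rTensor A Q ι
  have h0 : fQ z = 0 := (LinearMap.lTensor_inj_iff_rTensor_inj Q _).mp hker (by
    rw [map_zero, ← map_zero fQ, ← hz, map_smul]
    clear hz
    induction z using TensorProduct.induction_on with
    | zero => simp
    | add a b ha hb => simp only [map_add, smul_add, ha, hb]
    | tmul m c =>
      show φ (ι m) ⊗ₜ[A] c = (g • ι m) ⊗ₜ[A] c
      rw [← algebraMap_smul S g (ι m)]
      rfl)
  obtain ⟨t, ht⟩ := (IsLocalizedModule.eq_zero_iff q.primeCompl fQ).mp h0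
  exact ⟨t, t.2, ht⟩

/-- **Regularity on a fibre gives regularity on every base change**, in pushout squares. -/
theorem univ_regular_pushout {A B M K BK A' B' : Type u} [CommRing A] [CommRing B] [Algebra A B]
    [Algebra.FinitePresentation A B] [AddCommGroup M] [Module B M] [Module A M] [IsScalarTower A B M]
    [Module.FinitePresentation B M] (q : Ideal B) [q.IsPrime]
    (hflat : Module.Flat A (LocalizedModule q.primeCompl M)) [Field K] [Algebra A K]
    (hK : RingHom.ker (algebraMap A K) = q.comap (algebraMap A B))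
    [CommRing BK] [Algebra A BK] [Algebra K BK] [Algebra B BK] [IsScalarTower A B BK]
    [IsScalarTower A K BK] [Algebra.IsPushout A K B BK]
    [CommRing A'] [Algebra A A'] [CommRing B'] [Algebra A B'] [Algebra A' B'] [Algebra B B']
    [IsScalarTower A B B'] [IsScalarTower A A' B'] [Algebra.IsPushout A A' B B']
    (g : B) (hg : ∀ z : BK ⊗[B] M, algebraMap B BK g • z = 0 → z = 0) (n : ℕ) :
    ∀ z : B' ⊗[B] M, algebraMap B B' g ^ n • z = 0 → ∃ t ∉ q, algebraMap B B' t • z = 0 := by
  let eK : M ⊗[A] K ≃ₗ[A] BK ⊗[B] M := TensorProduct.comm A M K ≪≫ₗ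
    ((Algebra.IsPushout.cancelBaseChange A K B BK M).symm.restrictScalars A)
  let e : M ⊗[A] A' ≃ₗ[A] B' ⊗[B] M := TensorProduct.comm A M A' ≪≫ₗ
    ((Algebra.IsPushout.cancelBaseChange A A' B B' M).symm.restrictScalars A)
  have hKs : ∀ (b : B) (z : M ⊗[A] K), eK (b • z) = algebraMap B BK b • eK z := fun b z => by
    induction z using TensorProduct.induction_on with
    | zero => simp
    | add a c ha hc => simp only [smul_add, map_add, ha, hc]
    | tmul m a => simp [eK, smul_tmul', Algebra.smul_def, mul_comm, tmul_smul]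
  have hs : ∀ (b : B) (z : M ⊗[A] A'), e (b • z) = algebraMap B B' b • e z := fun b z => by
    induction z using TensorProduct.induction_on with
    | zero => simp
    | add a c ha hc => simp only [smul_add, map_add, ha, hc]
    | tmul m a => simp [e, smul_tmul', Algebra.smul_def, mul_comm, tmul_smul]
  have hg' : ∀ z : M ⊗[A] K, g • z = 0 → ∃ t ∉ q, t • z = 0 := fun z hz =>
    ⟨1, q.one_notMem, (one_smul B z).trans (eK.map_eq_zero_iff.mp (hg _ (by
      rw [← hKs, hz, map_zero])))⟩
  induction n with
  | zero =>
    intro z hz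
    rw [pow_zero, one_smul] at hz
    exact ⟨1, q.one_notMem, by rw [hz, smul_zero]⟩
  | succ n ih =>
    intro z hz
    obtain ⟨w, rfl⟩ := e.surjective z
    rw [pow_succ, mul_smul, ← hs] at hz
    obtain ⟨t, ht, h0⟩ := ih _ hz
    rw [← hs, smul_comm, e.map_eq_zero_iff] at h0
    obtain ⟨t', ht', h1⟩ := univ_regular q hflat hK g hg' A' (t • w) h0
    refine ⟨t' * t, fun h => ?_, ?_⟩
    · exact ((Ideal.IsPrime.mem_or_mem ‹_› h).elim ht' ht)
    · rw [← hs, mul_smul, h1, map_zero]

end GrothLib.FibreFlat
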