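import Groth.Agent.Lib.FibreFlat.Chase
import Groth.Agent.Lib.FlatStage.Stage
import Groth.Agent.Lib.Flatness.Criterion
import Mathlib.RingTheory.Localization.BaseChange
import Mathlib.RingTheory.IsTensorProduct

/-!
# Flatness of a localised base change from finitely many trivialised relations
-/

universe u

namespace GrothLib.FibreFlat

open TensorProduct Function GrothLib.Flatness GrothLib.FlatStage

section Quotient

variable {R M : Type u} [CommRing R] [AddCommGroup M] [Module R M]

/-- If `M ⊗ -` preserves injections of modules killed by `I` then `M/IM` is flat over `R/I`. -/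
theorem flat_quotient_of_lTensor_injective (I : Ideal R)
    (h : ∀ (A B : Type u) [AddCommGroup A] [Module R A] [AddCommGroup B] [Module R B]
      (f : A →ₗ[R] B), Module.IsTorsionBySet R A I → Module.IsTorsionBySet R B I →
      Injective f → Injective (f.lTensor M)) :
    Module.Flat (R ⧸ I) ((R ⧸ I) ⊗[R] M) := by
  rw [Module.Flat.iff_rTensor_injective']
  intro J
  have ht : ∀ (N : Type u) [AddCommGroup N] [Module R N] [Module (R ⧸ I) N]
      [IsScalarTower R (R ⧸ I) N], Module.IsTorsionBySet R N I := fun N _ _ _ _ x a => by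
    rw [← algebraMap_smul (R ⧸ I) (a : R) x,
      show algebraMap R (R ⧸ I) (a : R) = 0 from Ideal.Quotient.eq_zero_iff_mem.mpr a.2, zero_smul]
  let f := J.subtype.restrictScalars R
  have hf : Injective (f.rTensor M) := by
    have h1 := h _ _ f (ht J) (ht (R ⧸ I)) J.injective_subtype
    have h2 : f.rTensor M = (TensorProduct.comm R M (R ⧸ I)).toLinearMap ∘ₗ f.lTensor M ∘ₗ
        (TensorProduct.comm R J M).toLinearMap := TensorProduct.ext' fun a m => by simp
    rw [h2]
    exact (TensorProduct.comm R M (R ⧸ I)).injective.comp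
      (h1.comp (TensorProduct.comm R J M).injective)
  let eJ := AlgebraTensorModule.cancelBaseChange R (R ⧸ I) (R ⧸ I) J M
  let eR := AlgebraTensorModule.cancelBaseChange R (R ⧸ I) (R ⧸ I) (R ⧸ I) M
  have key : ∀ x, eR (J.subtype.rTensor _ x) = f.rTensor M (eJ x) := fun x => by
    induction x using TensorProduct.induction_on with
    | zero => simp
    | add a b ha hb => simp only [map_add, ha, hb]
    | tmul j y =>
      induction y using TensorProduct.induction_on with
      | zero => simp
      | add a b ha hb => simp only [tmul_add, map_add, ha, hb]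
      | tmul q m => simp [eR, eJ, f]
  intro x y hxy
  apply eJ.injective
  apply hf
  rw [← key, ← key, hxy]

end Quotient

variable {R₀ A₀ S AS : Type u} [CommRing R₀] [CommRing A₀] [CommRing S] [CommRing AS]
  [Algebra R₀ A₀] [Algebra R₀ S] [Algebra A₀ AS] [Algebra S AS] [Algebra R₀ AS]
  [IsScalarTower R₀ A₀ AS] [IsScalarTower R₀ S AS] [Algebra.IsPushout R₀ S A₀ AS]
  (M₀ : Type u) [AddCommGroup M₀] [Module A₀ M₀] [Module R₀ M₀] [IsScalarTower R₀ A₀ M₀]
  (𝔪 : Ideal R₀) [𝔪.IsMaximal] {r : ℕ} {c : Fin r → R₀}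

omit [𝔪.IsMaximal] in
theorem isTorsion_quotient_map (N : Type u) [AddCommGroup N] [Module S N]
    [Module R₀ N] [IsScalarTower R₀ S N]
    (hN : Module.IsTorsionBySet S N (𝔪.map (algebraMap R₀ S) : Ideal S)) :
    Module.IsTorsionBySet R₀ N 𝔪 := fun x a => by
  rw [← algebraMap_smul S (a : R₀) x]
  exact @hN x ⟨_, Ideal.mem_map_of_mem _ a.2⟩

/-- The base change of `M₀` preserves injections of modules killed by `𝔪`. -/
theorem lTensor_injective_of_isTorsion (A B : Type u) [AddCommGroup A] [Module S A]
    [AddCommGroup B] [Module S B] (f : A →ₗ[S] B)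
    (hA : Module.IsTorsionBySet S A (𝔪.map (algebraMap R₀ S) : Ideal S))
    (hB : Module.IsTorsionBySet S B (𝔪.map (algebraMap R₀ S) : Ideal S)) (hf : Injective f) :
    Injective (f.lTensor (AS ⊗[A₀] M₀)) := by
  let e := (Algebra.IsPushout.cancelBaseChange R₀ S A₀ AS M₀)
  suffices H : Injective (f.lTensor (S ⊗[R₀] M₀)) by
    have h2 : f.lTensor (AS ⊗[A₀] M₀) = (e.symm.toLinearMap.rTensor B) ∘ₗ
        f.lTensor (S ⊗[R₀] M₀) ∘ₗ (e.toLinearMap.rTensor A) :=
      TensorProduct.ext' fun m a => by simp
    rw [h2]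
    exact (e.symm.rTensor B).injective.comp (H.comp (e.rTensor A).injective)
  letI : Field (R₀ ⧸ 𝔪) := Ideal.Quotient.field 𝔪
  letI : Module R₀ A := Module.compHom A (algebraMap R₀ S)
  letI : Module R₀ B := Module.compHom B (algebraMap R₀ S)
  haveI : IsScalarTower R₀ S A := IsScalarTower.of_algebraMap_smul fun _ _ => rfl
  haveI : IsScalarTower R₀ S B := IsScalarTower.of_algebraMap_smul fun _ _ => rfl
  let g := f.restrictScalars R₀
  have hg : Injective (g.lTensor M₀) := by
    have hA' := isTorsion_quotient_map 𝔪 A hA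
    have hB' := isTorsion_quotient_map 𝔪 B hB
    exact lTensor_injective_of_flat_quotient 𝔪 inferInstance hA' hB' g hf
  let cA : (S ⊗[R₀] M₀) ⊗[S] A ≃ₗ[S] A ⊗[R₀] M₀ :=
    TensorProduct.comm S _ _ ≪≫ₗ AlgebraTensorModule.cancelBaseChange R₀ S S A M₀
  let cB : (S ⊗[R₀] M₀) ⊗[S] B ≃ₗ[S] B ⊗[R₀] M₀ :=
    TensorProduct.comm S _ _ ≪≫ₗ AlgebraTensorModule.cancelBaseChange R₀ S S B M₀
  have key : ∀ x, cB (f.lTensor _ x) = g.rTensor M₀ (cA x) := fun x => by
    induction x using TensorProduct.induction_on with
    | zero => simp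
    | add a b ha hb => simp only [map_add, ha, hb]
    | tmul y a =>
      induction y using TensorProduct.induction_on with
      | zero => simp
      | add p q hp hq => simp only [add_tmul, map_add, hp, hq]
      | tmul s m => simp [cA, cB, g]
  have hg' : Injective (g.rTensor M₀) := by
    have h2 : g.rTensor M₀ = (TensorProduct.comm R₀ M₀ B).toLinearMap ∘ₗ g.lTensor M₀ ∘ₗ
        (TensorProduct.comm R₀ A M₀).toLinearMap := TensorProduct.ext' fun a m => by simp
    rw [h2]
    exact (TensorProduct.comm R₀ M₀ B).injective.comp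
      (hg.comp (TensorProduct.comm R₀ A M₀).injective)
  intro x y hxy
  apply cA.injective
  apply hg'
  rw [← key, ← key, hxy]

/-- Finitely many trivialised relations give flatness of a localisation of the base change. -/
theorem flat_of_trivRel [Module.Finite A₀ M₀] [IsNoetherianRing S]
    [IsNoetherianRing AS] (hc : Ideal.span (Set.range c) = 𝔪) (P : Ideal AS) [P.IsPrime]
    (hP : 𝔪.map (algebraMap R₀ AS) ≤ P)
    (h : ∀ b : Fin r → M₀, ∑ i, c i • b i = 0 → ∃ u ∉ P,
      (fun i => u • ((1 : AS) ⊗ₜ[A₀] b i)) ∈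
        trivRel (AS ⊗[A₀] M₀) (fun i => algebraMap R₀ S (c i)))
    {L : Type u} [AddCommGroup L] [Module AS L] [Module S L] [IsScalarTower S AS L]
    [Module (Localization.AtPrime P) L] [IsScalarTower AS (Localization.AtPrime P) L]
    (ι : AS ⊗[A₀] M₀ →ₗ[AS] L) [IsLocalizedModule P.primeCompl ι] :
    Module.Flat S L := by
  classical
  let MS := AS ⊗[A₀] M₀
  let e := Algebra.IsPushout.cancelBaseChange R₀ S A₀ AS M₀
  set cS := fun i => algebraMap R₀ S (c i) with hcS
  let mul : AS → MS →ₗ[S] MS := fun u => (LinearMap.lsmul AS MS u).restrictScalars S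
  have hmul : ∀ (u : AS) {b : Fin r → MS}, b ∈ trivRel MS cS →
      (fun i => u • b i) ∈ trivRel MS cS := fun u b hb => map_mem_trivRel (mul u) hb
  -- the negligible relations
  let N : Submodule S (Fin r → S ⊗[R₀] M₀) :=
    { carrier := {x | ∃ u ∉ P, (fun i => u • e.symm (x i)) ∈ trivRel MS cS}
      zero_mem' := ⟨1, fun h1 => (Ideal.IsPrime.ne_top inferInstance)
        ((Ideal.eq_top_iff_one P).mpr h1), by
        convert zero_mem (trivRel MS cS) using 1
        ext i; simp⟩
      add_mem' := by
        rintro x y ⟨u, hu, hx⟩ ⟨v, hv, hy⟩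
        refine ⟨u * v, fun h' => (Ideal.IsPrime.mem_or_mem inferInstance h').elim hu hv, ?_⟩
        convert add_mem (hmul v hx) (hmul u hy) using 1
        ext i
        simp [smul_add, smul_smul, mul_comm v u]
      smul_mem' := by
        rintro s x ⟨u, hu, hx⟩
        refine ⟨u, hu, ?_⟩
        convert Submodule.smul_mem _ s hx using 1
        ext i
        simp [smul_comm s u] }
  have hle : trivRel (S ⊗[R₀] M₀) cS ≤ N := fun x hx =>
    ⟨1, fun h1 => (Ideal.IsPrime.ne_top inferInstance) ((Ideal.eq_top_iff_one P).mpr h1),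
      by simpa using map_mem_trivRel e.symm.toLinearMap hx⟩
  have hall : ∀ x : Fin r → MS, ∑ i, cS i • x i = 0 →
      ∃ u ∉ P, (fun i => u • x i) ∈ trivRel MS cS := by
    intro x hx
    have := forall_mem_of_trivRel_le S M₀ 𝔪 hc N hle (fun b hb => by
      obtain ⟨u, hu, hub⟩ := h b hb
      refine ⟨u, hu, ?_⟩
      convert hub using 1
      ext i
      simp [e]) (fun i => e (x i)) (by simp only [← map_smul, ← map_sum]; exact (congrArg e hx).trans (map_zero e))
    obtain ⟨u, hu, hux⟩ := this
    exact ⟨u, hu, by simpa using hux⟩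
  have hrel : ∀ x : Fin r → L, ∑ i, cS i • x i = 0 → x ∈ trivRel L cS := by
    intro x hx
    choose t ht using fun i => IsLocalizedModule.surj P.primeCompl ι (x i)
    let v : P.primeCompl := ∏ i, (t i).2
    let y : Fin r → MS := fun i => (∏ j ∈ Finset.univ.erase i, (t j).2 : P.primeCompl) • (t i).1
    have hy : ∀ i, ι (y i) = v • x i := fun i => by
      simp only [y, LinearMap.map_smul_of_tower, ← ht i, smul_smul]
      congr 1
      exact Finset.prod_erase_mul _ _ (Finset.mem_univ i)
    have h0 : ι (∑ i, cS i • y i) = ι 0 := by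
      rw [map_zero, map_sum]
      simp only [LinearMap.map_smul_of_tower, hy]
      rw [← smul_zero v, ← hx, Finset.smul_sum]
      exact Finset.sum_congr rfl fun i _ => smul_comm _ _ _
    obtain ⟨w, hw⟩ := (IsLocalizedModule.eq_iff_exists P.primeCompl ι).mp h0
    obtain ⟨u, hu, hux⟩ := hall (fun i => w • y i) (by
      rw [smul_zero, Finset.smul_sum] at hw
      rw [← hw]
      exact Finset.sum_congr rfl fun i _ => smul_comm _ _ _)
    let ιS : MS →ₗ[S] L := ι.restrictScalars S
    have hx1 := map_mem_trivRel ιS hux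
    let D : P.primeCompl := ⟨u, hu⟩ * w * v
    obtain ⟨inv, hinv⟩ := (IsLocalizedModule.map_units (S := P.primeCompl) ι D).exists_left_inv
    let invS : L →ₗ[S] L := LinearMap.restrictScalars S inv
    convert map_mem_trivRel invS hx1 using 1
    ext i
    show x i = inv (ι (u • w • y i))
    have hD : ι (u • w • y i) = (D : AS) • x i := by
      rw [map_smul, LinearMap.map_smul_of_tower, hy]
      simp only [D, Submonoid.coe_mul, Submonoid.smul_def, smul_smul, mul_assoc]
    rw [hD]
    have := LinearMap.congr_fun hinv (x i)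
    simp only [Module.End.mul_apply, Module.algebraMap_end_apply, Module.End.one_apply] at this
    exact this.symm
  have h1 : Injective ((𝔪.map (algebraMap R₀ S)).subtype.lTensor L) := by
    have hI : 𝔪.map (algebraMap R₀ S) = Ideal.span (Set.range cS) := by
      rw [← hc, Ideal.map_span, ← Set.range_comp]
      rfl
    rw [hI]
    exact lTensor_injective_of_forall_trivRel hrel
  have h2 : Module.Flat (S ⧸ 𝔪.map (algebraMap R₀ S)) ((S ⧸ 𝔪.map (algebraMap R₀ S)) ⊗[S] L) := by
    refine flat_quotient_of_lTensor_injective _ fun A B _ _ _ _ f hA hB hf => ?_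
    have hM := lTensor_injective_of_isTorsion (A₀ := A₀) (AS := AS) M₀ 𝔪 A B f hA hB hf
    have := IsLocalizedModule.map_injective P.primeCompl (AlgebraTensorModule.rTensor S A ι)
      (AlgebraTensorModule.rTensor S B ι) (AlgebraTensorModule.lTensor AS MS f) hM
    rwa [IsLocalizedModule.map_lTensor] at this
  haveI : Module.Finite (Localization.AtPrime P) L :=
    Module.Finite.of_isLocalizedModule P.primeCompl ι
  haveI : IsScalarTower S (Localization.AtPrime P) L := IsScalarTower.to₁₃₄ S AS (Localization.AtPrime P) L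
  haveI : IsNoetherianRing (Localization P.primeCompl) :=
    IsLocalization.isNoetherianRing P.primeCompl _ inferInstance
  refine flat_of_localCriterion (S := Localization.AtPrime P) (𝔪.map (algebraMap R₀ S)) ?_ h1 h2
  refine le_trans ?_ (IsLocalRing.maximalIdeal_le_jacobson _)
  rw [Ideal.map_map, ← IsScalarTower.algebraMap_eq,
    IsScalarTower.algebraMap_eq R₀ AS (Localization.AtPrime P), ← Ideal.map_map,
    ← Localization.AtPrime.map_eq_maximalIdeal]
  exact Ideal.map_mono hP

/-- Finitely many trivialised relations give flatness of a localisation of the base change. -/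
theorem flat_localizedModule_of_trivRel [Module.Finite A₀ M₀] [IsNoetherianRing S]
    [IsNoetherianRing AS] (hc : Ideal.span (Set.range c) = 𝔪) (P : Ideal AS) [P.IsPrime]
    (hP : 𝔪.map (algebraMap R₀ AS) ≤ P)
    (h : ∀ b : Fin r → M₀, ∑ i, c i • b i = 0 → ∃ u ∉ P,
      (fun i => u • ((1 : AS) ⊗ₜ[A₀] b i)) ∈
        trivRel (AS ⊗[A₀] M₀) (fun i => algebraMap R₀ S (c i))) :
    Module.Flat S (LocalizedModule P.primeCompl (AS ⊗[A₀] M₀)) :=
  flat_of_trivRel M₀ 𝔪 hc P hP h (L := LocalizedModule P.primeCompl (AS ⊗[A₀] M₀))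
    (LocalizedModule.mkLinearMap P.primeCompl _)

end GrothLib.FibreFlat
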