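import Groth.Agent.Lib.FibreFlat.LocCriterion
import Mathlib.RingTheory.Flat.EquationalCriterion
import Mathlib.RingTheory.Jacobson.Ideal

/-! # Flatness over a quotient ring: relations and tensors -/

universe u

namespace GrothLib.FibreFlat

open TensorProduct Function GrothLib.Flatness

variable {R M : Type u} [CommRing R] [AddCommGroup M] [Module R M]

/-- `M/IM` is flat over `R/I` when relations modulo `I` are trivial modulo `I`. -/
theorem flat_quotient_of_relations (I : Ideal R)
    (h : ∀ {l : ℕ} (b : Fin l → R) (x : Fin l → M), ∑ i, b i • x i ∈ I • (⊤ : Submodule R M) →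
      ∃ (κ : Type u) (_ : Fintype κ) (a : Fin l → κ → R) (y : κ → M),
        (∀ i, x i - ∑ j, a i j • y j ∈ I • (⊤ : Submodule R M)) ∧ ∀ j, ∑ i, b i * a i j ∈ I) :
    Module.Flat (R ⧸ I) ((R ⧸ I) ⊗[R] M) := by
  refine Module.Flat.iff_forall_isTrivialRelation.mpr fun {l f x} hfx => ?_
  choose b hb using fun i => Ideal.Quotient.mk_surjective (f i)
  choose m hm using fun i =>
    TensorProduct.mk_surjective R M (R ⧸ I) Ideal.Quotient.mk_surjective (x i)
  simp only [TensorProduct.mk_apply] at hm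
  obtain ⟨κ, _, a, y, hx, hba⟩ := h b m ((one_tmul_eq_zero_iff _ _).mp (by
    rw [tmul_sum, ← hfx]
    refine Finset.sum_congr rfl fun i _ => ?_
    rw [tmul_smul, ← hb, ← hm, ← algebraMap_smul (R ⧸ I) (b i)]
    rfl))
  let e := Fintype.equivFin κ
  refine ⟨_, fun i j => Ideal.Quotient.mk I (a i (e.symm j)),
    fun j => (1 : R ⧸ I) ⊗ₜ[R] y (e.symm j), fun i => ?_, fun j => ?_⟩
  · rw [← hm i, e.symm.sum_comp (fun j => Ideal.Quotient.mk I (a i j) • ((1 : R ⧸ I) ⊗ₜ[R] y j))]
    have h0 := (one_tmul_eq_zero_iff _ _).mpr (hx i)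
    rw [tmul_sub, sub_eq_zero, tmul_sum] at h0
    rw [h0]
    refine Finset.sum_congr rfl fun j _ => ?_
    rw [tmul_smul, ← algebraMap_smul (R ⧸ I) (a i j)]
    rfl
  · simp only [← hb, ← map_mul, ← map_sum]
    exact Ideal.Quotient.eq_zero_iff_mem.mpr (hba (e.symm j))

/-- Converse: over a flat quotient, relations modulo `I` are trivial modulo `I`. -/
theorem relations_of_flat_quotient (I : Ideal R) (hflat : Module.Flat (R ⧸ I) ((R ⧸ I) ⊗[R] M))
    {l : ℕ} (b : Fin l → R) (x : Fin l → M) (h : ∑ i, b i • x i ∈ I • (⊤ : Submodule R M)) :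
    ∃ (k : ℕ) (a : Fin l → Fin k → R) (y : Fin k → M),
      (∀ i, x i - ∑ j, a i j • y j ∈ I • (⊤ : Submodule R M)) ∧ ∀ j, ∑ i, b i * a i j ∈ I := by
  have h0 : ∑ i, Ideal.Quotient.mk I (b i) • ((1 : R ⧸ I) ⊗ₜ[R] x i) = 0 := by
    rw [← (one_tmul_eq_zero_iff _ _).mpr h, tmul_sum]
    refine Finset.sum_congr rfl fun i _ => ?_
    rw [tmul_smul, ← algebraMap_smul (R ⧸ I) (b i)]
    rfl
  obtain ⟨k, a, y, hy, ha⟩ := Module.Flat.isTrivialRelation_of_sum_smul_eq_zero h0
  choose a' ha' using fun i j => Ideal.Quotient.mk_surjective (a i j)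
  choose y' hy' using fun j =>
    TensorProduct.mk_surjective R M (R ⧸ I) Ideal.Quotient.mk_surjective (y j)
  simp only [TensorProduct.mk_apply] at hy'
  refine ⟨k, a', y', fun i => ?_, fun j => ?_⟩
  · rw [← one_tmul_eq_zero_iff, tmul_sub, sub_eq_zero, tmul_sum]
    refine (hy i).trans (Finset.sum_congr rfl fun j _ => ?_)
    rw [tmul_smul, ← ha', ← hy', ← algebraMap_smul (R ⧸ I) (a' i j)]
    rfl
  · rw [← Ideal.Quotient.eq_zero_iff_mem, map_sum]
    simp only [map_mul, ha']
    exact ha j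

/-- A flat `R ⧸ J`-module is exact on injections of `R`-modules killed by `J`. -/
theorem lTensor_injective_of_flat_of_torsion (J : Ideal R) [Module (R ⧸ J) M]
    [IsScalarTower R (R ⧸ J) M] [Module.Flat (R ⧸ J) M] (A A' : Type u) [AddCommGroup A]
    [Module R A] [AddCommGroup A'] [Module R A'] (f : A →ₗ[R] A')
    (hA : Module.IsTorsionBySet R A J) (hA' : Module.IsTorsionBySet R A' J) (hf : Injective f) :
    Injective (f.lTensor M) := by
  letI := hA.module
  haveI : IsScalarTower R (R ⧸ J) A := hA.isScalarTower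
  letI := hA'.module
  haveI : IsScalarTower R (R ⧸ J) A' := hA'.isScalarTower
  let g : A →ₗ[R ⧸ J] A' :=
    { f with
      map_smul' := fun q a => by
        obtain ⟨q, rfl⟩ := Ideal.Quotient.mk_surjective q
        exact f.map_smul q a }
  have hg := Module.Flat.lTensor_preserves_injective_linearMap (M := M) g hf
  haveI : ∀ (N : Type u) [AddCommGroup N] [Module R N] [Module (R ⧸ J) N]
      [IsScalarTower R (R ⧸ J) N], CompatibleSMul (R ⧸ J) R M N := fun N _ _ _ _ =>
    ⟨fun r m n => by rw [← algebraMap_smul (R ⧸ J) r m, ← algebraMap_smul (R ⧸ J) r n,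
      TensorProduct.smul_tmul]⟩
  haveI : ∀ (N : Type u) [AddCommGroup N] [Module R N] [Module (R ⧸ J) N]
      [IsScalarTower R (R ⧸ J) N], CompatibleSMul R (R ⧸ J) M N := fun N _ _ _ _ =>
    ⟨fun q m n => by
      obtain ⟨q, rfl⟩ := Ideal.Quotient.mk_surjective q
      show (algebraMap R (R ⧸ J) q • m) ⊗ₜ[R] n = m ⊗ₜ[R] (algebraMap R (R ⧸ J) q • n)
      rw [algebraMap_smul, algebraMap_smul, TensorProduct.smul_tmul]⟩
  let eA := TensorProduct.equivOfCompatibleSMul R (R ⧸ J) R M A
  let eA' := TensorProduct.equivOfCompatibleSMul R (R ⧸ J) R M A'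
  have key : ∀ x, f.lTensor M (eA x) = eA' (g.lTensor M x) := fun x => by
    induction x using TensorProduct.induction_on with
    | zero => simp
    | add a b ha hb => simp only [map_add, ha, hb]
    | tmul m a => rfl
  intro x y hxy
  obtain ⟨x, rfl⟩ := eA.surjective x
  obtain ⟨y, rfl⟩ := eA.surjective y
  rw [key, key] at hxy
  exact congrArg eA (hg (eA'.injective hxy))

/-- The image of an ideal of non-units lies in the Jacobson radical of a quotient of a local
ring. -/
theorem map_le_jacobson_bot {D : Type u} [CommRing D] [IsLocalRing D] (K I : Ideal D)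
    (hI : I ≤ IsLocalRing.maximalIdeal D) :
    I.map (Ideal.Quotient.mk K) ≤ Ideal.jacobson (⊥ : Ideal (D ⧸ K)) := by
  intro x hx
  obtain ⟨z, hz, rfl⟩ := (Ideal.mem_map_iff_of_surjective _ Ideal.Quotient.mk_surjective).mp hx
  rw [Ideal.mem_jacobson_bot]
  intro y
  obtain ⟨w, rfl⟩ := Ideal.Quotient.mk_surjective y
  have : IsUnit (z * w + 1) := by
    refine IsLocalRing.notMem_maximalIdeal.mp fun hmem => ?_
    have h1 : (1 : D) ∈ IsLocalRing.maximalIdeal D := by
      simpa using sub_mem hmem ((IsLocalRing.maximalIdeal D).mul_mem_right w (hI hz))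
    exact (IsLocalRing.mem_maximalIdeal _).mp h1 isUnit_one
  simpa using this.map (Ideal.Quotient.mk K)

end GrothLib.FibreFlat
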