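import Groth.Agent.Lib.Flatness.Fibre
import Groth.Agent.Lib.FibreFlat.LocCriterion
import Groth.Agent.Lib.FibreFlat.Quotient
import Groth.Agent.Lib.GenFree.Presentation
import Mathlib.RingTheory.Localization.BaseChange
import Mathlib.RingTheory.Flat.Localization
import Mathlib.RingTheory.Spectrum.Prime.Topology
import Mathlib.RingTheory.Ideal.MinimalPrime.Noetherian

/-!
# The flat locus is open over a noetherian ring (EGA IV 11.1.1)
-/

universe u

namespace GrothLib.FibreFlat

open TensorProduct Function GrothLib.Flatness

/-- A set of primes of a noetherian ring is open if it is stable under generalization and meets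
the closure of each of its points in a neighbourhood of that point. -/
theorem isOpen_of_nagata {A : Type u} [CommRing A] [IsNoetherianRing A] (U : Set (PrimeSpectrum A))
    (hgen : ∀ q q' : PrimeSpectrum A, q'.asIdeal ≤ q.asIdeal → q ∈ U → q' ∈ U)
    (hnhd : ∀ q ∈ U, ∃ g ∉ q.asIdeal, ∀ x : PrimeSpectrum A, q.asIdeal ≤ x.asIdeal →
      g ∉ x.asIdeal → x ∈ U) :
    IsOpen U := by
  classical
  set 𝔞 := PrimeSpectrum.vanishingIdeal Uᶜ
  rw [← isClosed_compl_iff, ← closure_eq_iff_isClosed]
  refine le_antisymm ?_ subset_closure
  rw [← PrimeSpectrum.zeroLocus_vanishingIdeal_eq_closure]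
  intro x hx hxU
  obtain ⟨q, hq, hqx⟩ := Ideal.exists_minimalPrimes_le (I := 𝔞) (J := x.asIdeal) hx
  let Q : PrimeSpectrum A := ⟨q, hq.1.1⟩
  have hQU : Q ∈ U := hgen x Q hqx hxU
  obtain ⟨g, hg, hgU⟩ := hnhd Q hQU
  have hfin := (Ideal.finite_minimalPrimes_of_isNoetherianRing A 𝔞).toFinset.erase q
  let F : Finset (Ideal A) := (Ideal.finite_minimalPrimes_of_isNoetherianRing A 𝔞).toFinset.erase q
  have hex : ∀ q' ∈ F, ∃ h ∈ q', h ∉ q := fun q' hq' => by
    by_contra! h
    rw [Finset.mem_erase, Set.Finite.mem_toFinset] at hq'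
    exact hq'.1 (le_antisymm h (hq.2 hq'.2.1 h))
  choose! h hh hhq using hex
  have hmem : g * ∏ q' ∈ F, h q' ∈ 𝔞 := by
    rw [PrimeSpectrum.mem_vanishingIdeal]
    intro y hy
    obtain ⟨q', hq', hq'y⟩ := Ideal.exists_minimalPrimes_le (I := 𝔞) (J := y.asIdeal) fun a ha =>
      (PrimeSpectrum.mem_vanishingIdeal _ a).mp ha y hy
    by_cases hqq : q' = q
    · refine y.asIdeal.mul_mem_right _ ?_
      by_contra hgy
      exact hy (hgU y (show q ≤ y.asIdeal from hqq ▸ hq'y) hgy)
    · have hF : q' ∈ F := Finset.mem_erase.mpr ⟨hqq, (Set.Finite.mem_toFinset _).mpr hq'⟩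
      refine y.asIdeal.mul_mem_left _ ?_
      rw [← Finset.mul_prod_erase F h hF]
      exact y.asIdeal.mul_mem_right _ (hq'y (hh q' hF))
  haveI := hq.1.1
  rcases Ideal.IsPrime.mem_or_mem inferInstance (hq.1.2 hmem) with h1 | h1
  · exact hg h1
  · obtain ⟨q', hq', hmem'⟩ := Ideal.IsPrime.prod_mem_iff.mp h1
    exact hhq q' hq' hmem'

variable {R A M : Type u} [CommRing R] [CommRing A] [Algebra R A] [AddCommGroup M] [Module A M]
  [Module R M] [IsScalarTower R A M]

/-- Localizing a flat module at primes of an algebra keeps it flat; more generally injectivity of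
`f.lTensor` passes to localizations. -/
theorem lTensor_injective_of_isLocalizedModule (T : Submonoid A) {L : Type u} [AddCommGroup L]
    [Module A L] [Module R L] [IsScalarTower R A L] (ι : M →ₗ[A] L) [IsLocalizedModule T ι]
    {N N' : Type u} [AddCommGroup N] [Module R N] [AddCommGroup N'] [Module R N'] (f : N →ₗ[R] N')
    (h : ∀ x : M ⊗[R] N, f.lTensor M x = 0 → ∃ t ∈ T, t • x = 0) : Injective (f.lTensor L) := by
  rw [injective_iff_map_eq_zero]
  intro y hy
  let ιN := TensorProduct.AlgebraTensorModule.rTensor R N ι
  let ιN' := TensorProduct.AlgebraTensorModule.rTensor R N' ι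
  have hc : ∀ x, f.lTensor L (ιN x) = ιN' (f.lTensor M x) := fun x => by
    induction x using TensorProduct.induction_on with
    | zero => simp
    | add a b ha hb => simp only [map_add, ha, hb]
    | tmul a b => rfl
  let fA : L ⊗[R] N →ₗ[A] L ⊗[R] N' := TensorProduct.AlgebraTensorModule.lTensor A L f
  obtain ⟨⟨x, s⟩, hs⟩ := IsLocalizedModule.surj T ιN y
  have h1 : ιN' (f.lTensor M x) = ιN' 0 := by
    rw [map_zero, ← hc, ← hs]
    show fA ((s : A) • y) = 0
    rw [map_smul, show fA y = 0 from hy, smul_zero]
  obtain ⟨u, hu⟩ := (IsLocalizedModule.eq_iff_exists T ιN').mp h1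
  let fM : M ⊗[R] N →ₗ[A] M ⊗[R] N' := TensorProduct.AlgebraTensorModule.lTensor A M f
  obtain ⟨t, ht, htx⟩ := h ((u : A) • x) (by
    show fM ((u : A) • x) = 0
    rw [map_smul]
    simpa [Submonoid.smul_def, fM] using hu)
  apply ((Module.End.isUnit_iff _).mp
    (IsLocalizedModule.map_units (S := T) ιN (⟨t, ht⟩ * u * s))).1
  simp only [Module.algebraMap_end_apply, smul_zero]
  show (t * (u : A) * (s : A)) • y = 0
  rw [mul_smul, ← Submonoid.smul_def, hs, ← map_smul, mul_smul, htx, map_zero]

/-- The flat locus of a finite module over a finite type algebra over a noetherian ring is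
open. -/
theorem isOpen_flat_locus_noetherian [IsNoetherianRing R] [Algebra.FiniteType R A]
    [Module.Finite A M] :
    IsOpen {q : PrimeSpectrum A | Module.Flat R (LocalizedModule q.asIdeal.primeCompl M)} := by
  haveI : IsNoetherianRing A := Algebra.FiniteType.isNoetherianRing R A
  refine isOpen_of_nagata _ (fun q q' hle hq => ?_) fun q hq => ?_
  · haveI : Module.Flat R (LocalizedModule q.asIdeal.primeCompl M) := hq
    rw [Set.mem_setOf_eq, Module.Flat.iff_lTensor_preserves_injective_linearMap]
    intro N N' _ _ _ _ f hf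
    refine lTensor_injective_of_isLocalizedModule q'.asIdeal.primeCompl
      (LocalizedModule.mkLinearMap _ M) f fun x hx => ?_
    have h0 : TensorProduct.AlgebraTensorModule.rTensor R N
        (LocalizedModule.mkLinearMap q.asIdeal.primeCompl M) x =
      TensorProduct.AlgebraTensorModule.rTensor R N
        (LocalizedModule.mkLinearMap q.asIdeal.primeCompl M) 0 := by
      apply Module.Flat.lTensor_preserves_injective_linearMap
        (M := LocalizedModule q.asIdeal.primeCompl M) f hf
      rw [map_zero, map_zero]
      have : ∀ z, f.lTensor (LocalizedModule q.asIdeal.primeCompl M)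
          (TensorProduct.AlgebraTensorModule.rTensor R N
            (LocalizedModule.mkLinearMap q.asIdeal.primeCompl M) z) =
          TensorProduct.AlgebraTensorModule.rTensor R N'
            (LocalizedModule.mkLinearMap q.asIdeal.primeCompl M) (f.lTensor M z) := fun z => by
        induction z using TensorProduct.induction_on with
        | zero => simp
        | add a b ha hb => simp only [map_add, ha, hb]
        | tmul a b => rfl
      rw [this, hx, map_zero]
    obtain ⟨t, ht⟩ := (IsLocalizedModule.eq_iff_exists q.asIdeal.primeCompl _).mp h0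
    exact ⟨t, fun h => t.2 (hle h), by simpa [Submonoid.smul_def] using ht⟩
  · set p := q.asIdeal.comap (algebraMap R A) with hp
    haveI : Module.Flat R (LocalizedModule q.asIdeal.primeCompl M) := hq
    -- the first Tor vanishes near `q`
    let K := LinearMap.ker (TensorProduct.AlgebraTensorModule.lTensor A M p.subtype)
    haveI : Module.Finite R p := Module.Finite.of_fg (IsNoetherian.noetherian p)
    haveI : Module.Finite A (M ⊗[R] p) :=
      Module.Finite.equiv (AlgebraTensorModule.cancelBaseChange R A A M p)
    obtain ⟨G, hG⟩ := IsNoetherian.noetherian K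
    have hK : ∀ z ∈ G, ∃ t ∉ q.asIdeal, t • z = 0 := fun z hz => by
      have hz' : z ∈ K := hG ▸ Submodule.subset_span hz
      have h0 : TensorProduct.AlgebraTensorModule.rTensor R p
          (LocalizedModule.mkLinearMap q.asIdeal.primeCompl M) z =
        TensorProduct.AlgebraTensorModule.rTensor R p
          (LocalizedModule.mkLinearMap q.asIdeal.primeCompl M) 0 := by
        apply Module.Flat.lTensor_preserves_injective_linearMap
          (M := LocalizedModule q.asIdeal.primeCompl M) p.subtype p.injective_subtype
        rw [map_zero, map_zero]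
        have : ∀ z, p.subtype.lTensor (LocalizedModule q.asIdeal.primeCompl M)
            (TensorProduct.AlgebraTensorModule.rTensor R p
              (LocalizedModule.mkLinearMap q.asIdeal.primeCompl M) z) =
            TensorProduct.AlgebraTensorModule.rTensor R R
              (LocalizedModule.mkLinearMap q.asIdeal.primeCompl M) (p.subtype.lTensor M z) := by
          intro z
          induction z using TensorProduct.induction_on with
          | zero => simp
          | add a b ha hb => simp only [map_add, ha, hb]
          | tmul a b => rfl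
        rw [this, show p.subtype.lTensor M z = 0 from hz', map_zero]
      obtain ⟨t, ht⟩ := (IsLocalizedModule.eq_iff_exists q.asIdeal.primeCompl _).mp h0
      exact ⟨t, t.2, by simpa [Submonoid.smul_def] using ht⟩
    choose! t ht htz using hK
    let g₁ := ∏ z ∈ G, t z
    have hg₁ : g₁ ∉ q.asIdeal := fun h => by
      obtain ⟨z, hz, h⟩ := Ideal.IsPrime.prod_mem_iff.mp h
      exact ht z hz h
    have hg₁K : ∀ z ∈ K, g₁ • z = 0 := fun z hz => by
      rw [← hG] at hz
      induction hz using Submodule.span_induction with
      | mem x hx =>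
        obtain ⟨e, he⟩ := Finset.dvd_prod_of_mem t hx
        show (∏ z ∈ G, t z) • x = 0
        rw [he, mul_comm, mul_smul, htz x hx, smul_zero]
      | zero => exact smul_zero _
      | add x y _ _ hx hy => rw [smul_add, hx, hy, add_zero]
      | smul a x _ hx => rw [smul_comm, hx, smul_zero]
    -- generic freeness over `R/p`
    let A' := (R ⧸ p) ⊗[R] A
    letI : Algebra A A' := Algebra.TensorProduct.rightAlgebra
    haveI : Algebra.IsPushout R (R ⧸ p) A A' := inferInstance
    obtain ⟨f', -, hf', hfree, -, -, -⟩ := GrothLib.GenFree.exists_free_and_finitePresentation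
      (R := R ⧸ p) A' (A' ⊗[A] M) 1 one_ne_zero
    obtain ⟨f, rfl⟩ := Ideal.Quotient.mk_surjective f'
    let Λ := Localization.Away (Ideal.Quotient.mk p f)
    haveI : Module.Free Λ (Λ ⊗[R] M) := Module.Free.of_equiv
      ((TensorProduct.AlgebraTensorModule.congr (LinearEquiv.refl Λ Λ)
          (Algebra.IsPushout.cancelBaseChange R (R ⧸ p) A A' M)).trans
        (AlgebraTensorModule.cancelBaseChange R (R ⧸ p) Λ Λ M))
    have hfq : algebraMap R A f ∉ q.asIdeal := fun h => hf' (Ideal.Quotient.eq_zero_iff_mem.mpr h)
    refine ⟨g₁ * algebraMap R A f, fun h => (Ideal.IsPrime.mem_or_mem inferInstance h).elim hg₁ hfq,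
      fun x hqx hgx => ?_⟩
    let L := LocalizedModule x.asIdeal.primeCompl M
    let Ax := Localization.AtPrime x.asIdeal
    haveI : IsNoetherianRing Ax := IsLocalization.isNoetherianRing x.asIdeal.primeCompl _ inferInstance
    haveI : Module.Finite Ax L := Module.Finite.of_isLocalizedModule x.asIdeal.primeCompl
      (LocalizedModule.mkLinearMap x.asIdeal.primeCompl M)
    haveI : IsScalarTower R Ax L := IsScalarTower.of_algebraMap_smul fun r y => by
      rw [IsScalarTower.algebraMap_apply R A Ax, algebraMap_smul, algebraMap_smul]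
    refine flat_of_localCriterion (S := Ax) p ?_ ?_
      (flat_quotient_of_lTensor_injective p fun N N' _ _ _ _ g hN hN' hg => ?_)
    · rw [IsScalarTower.algebraMap_eq R A Ax, ← Ideal.map_map, IsLocalRing.jacobson_eq_maximalIdeal _ bot_ne_top,
        ← Localization.AtPrime.map_eq_maximalIdeal]
      exact Ideal.map_mono (Ideal.map_le_iff_le_comap.mpr fun a ha => hqx ha)
    · refine lTensor_injective_of_isLocalizedModule x.asIdeal.primeCompl
        (LocalizedModule.mkLinearMap _ M) p.subtype fun z hz => ⟨g₁, ?_, hg₁K z hz⟩
      exact fun h => hgx (Ideal.mul_mem_right _ _ h)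
    · refine lTensor_injective_of_isLocalizedModule x.asIdeal.primeCompl
        (LocalizedModule.mkLinearMap _ M) g fun z hz => ?_
      -- kernel of base change to `(R/p)_f`
      have hloc : ∀ (X : Type u) [AddCommGroup X] [Module R X],
          Module.IsTorsionBySet R X p → ∀ y : X, (1 : Λ) ⊗ₜ[R] y = 0 → ∃ e : ℕ, f ^ e • y = 0 := by
        intro X _ _ hX y hy
        letI := hX.module
        haveI : IsScalarTower R (R ⧸ p) X := hX.isScalarTower
        let mk : X →ₗ[R ⧸ p] Λ ⊗[R ⧸ p] X := TensorProduct.mk (R ⧸ p) Λ X 1
        haveI : IsLocalizedModule (Submonoid.powers (Ideal.Quotient.mk p f)) mk :=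
          (isLocalizedModule_iff_isBaseChange _ Λ mk).mpr (TensorProduct.isBaseChange (R ⧸ p) X Λ)
        have h0 : mk y = 0 := by
          have := congrArg (TensorProduct.mapOfCompatibleSMul (R ⧸ p) R R Λ X) hy
          simpa [mk] using this
        obtain ⟨⟨_, e, rfl⟩, he⟩ :=
          (IsLocalizedModule.eq_zero_iff (Submonoid.powers (Ideal.Quotient.mk p f)) mk).mp h0
        refine ⟨e, ?_⟩
        rw [← algebraMap_smul (R ⧸ p) (f ^ e) y, Ideal.Quotient.algebraMap_eq, map_pow]
        exact he
      have hinjΛ : Injective (g.baseChange Λ) :=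
        haveI : Module.Flat (R ⧸ p) Λ :=
          IsLocalization.flat Λ (Submonoid.powers (Ideal.Quotient.mk p f))
        lTensor_injective_of_flat_of_torsion (M := Λ) p N N' g hN hN' hg
      have hflat : Injective ((g.baseChange Λ).lTensor (Λ ⊗[R] M)) :=
        Module.Flat.lTensor_preserves_injective_linearMap _ hinjΛ
      have h1 : (1 : Λ) ⊗ₜ[R] z = 0 := by
        apply (AlgebraTensorModule.distribBaseChange R Λ M N).injective
        apply hflat
        have : ∀ w, (g.baseChange Λ).lTensor (Λ ⊗[R] M)
            (AlgebraTensorModule.distribBaseChange R Λ M N ((1 : Λ) ⊗ₜ w)) =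
            AlgebraTensorModule.distribBaseChange R Λ M N' ((1 : Λ) ⊗ₜ g.lTensor M w) := fun w => by
          induction w using TensorProduct.induction_on with
          | zero => simp
          | add a b ha hb => simp only [tmul_add, map_add, ha, hb]
          | tmul a b => simp
        rw [this, hz, tmul_zero, map_zero, map_zero, map_zero]
      obtain ⟨e, he⟩ := hloc (M ⊗[R] N) (fun w a => by
        induction w using TensorProduct.induction_on with
        | zero => exact smul_zero _
        | add c d hc hd => rw [smul_add, hc, hd, add_zero]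
        | tmul c d => rw [← tmul_smul, @hN d a, tmul_zero]) z h1
      refine ⟨algebraMap R A f ^ e, fun h => ?_, ?_⟩
      · exact hgx (Ideal.mul_mem_left _ _ (Ideal.IsPrime.mem_of_pow_mem inferInstance e h))
      · rw [← map_pow, algebraMap_smul, he]

end GrothLib.FibreFlat
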