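import Groth.Agent.Lib.FibreFlat.StalkAlg
import Mathlib.AlgebraicGeometry.Fiber
import Mathlib.AlgebraicGeometry.FunctionField
import Mathlib.AlgebraicGeometry.Morphisms.Flat
import Mathlib.AlgebraicGeometry.Morphisms.FinitePresentation
import Mathlib.AlgebraicGeometry.Morphisms.Preimmersion

/-!
# Stalks of fibres and stalks of finitely presented morphisms
-/

universe u

namespace GrothLib.FibreFlat

open AlgebraicGeometry CategoryTheory Limits IsLocalRing

variable {X Y S : Scheme.{u}}

theorem fiberι_comp_apply (h : X ⟶ S) (s : S) (z : h.fiber s) : h (h.fiberι s z) = s := by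
  have h1 : h.fiberι s z ∈ h ⁻¹' {s} := h.range_fiberι s ▸ Set.mem_range_self z
  exact h1

set_option backward.isDefEq.respectTransparency false in
/-- The local ring of a fibre is the quotient by the maximal ideal of the base. -/
theorem fiberι_stalkMap (h : X ⟶ S) (s : S) (z : h.fiber s) :
    Function.Surjective ((h.fiberι s).stalkMap z).hom ∧
      RingHom.ker ((h.fiberι s).stalkMap z).hom =
        (maximalIdeal (S.presheaf.stalk (h (h.fiberι s z)))).map (h.stalkMap (h.fiberι s z)).hom := by
  refine ⟨(h.fiberι s).stalkMap_surjective z, le_antisymm ?_ ?_⟩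
  swap
  · refine Ideal.map_le_iff_le_comap.mpr fun a ha => ?_
    show ((h.fiberι _).stalkMap z).hom ((h.stalkMap _).hom a) = 0
    have hfac := Scheme.Hom.stalkMap_congr_hom _ _ (h.fiber_fac s) z
    rw [Scheme.Hom.stalkMap_comp, Scheme.Hom.stalkMap_comp] at hfac
    rw [← RingHom.comp_apply, ← CommRingCat.hom_comp, hfac]
    simp only [CommRingCat.hom_comp, RingHom.comp_apply]
    -- the maximal ideal goes to zero in the residue field
    set w := h.fiberToSpecResidueField s z
    set c := (S.presheaf.stalkCongr _).hom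
    suffices h0 : ((S.fromSpecResidueField s).stalkMap w).hom (c.hom a) = 0 by
      exact (congrArg ((h.fiberToSpecResidueField s).stalkMap z).hom h0).trans (map_zero _)
    have hfield : IsField ((Spec (S.residueField s)).presheaf.stalk w) := by
      have hw : w = genericPoint (Spec (S.residueField s)) := Subsingleton.elim _ _
      rw [hw]
      exact Field.toIsField (Spec (S.residueField s)).functionField
    by_contra hne
    letI := hfield.toField
    haveI : IsLocalHom ((S.fromSpecResidueField s).stalkMap w).hom := inferInstance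
    have hu := isUnit_of_map_unit ((S.fromSpecResidueField s).stalkMap w).hom _
      (IsUnit.mk0 _ hne)
    exact ha (isUnit_of_map_unit c.hom a hu)
  obtain ⟨x, hx⟩ : ∃ x, h.fiberι s z = x := ⟨_, rfl⟩
  obtain rfl : h x = s := hx ▸ fiberι_comp_apply h s z
  set m := (maximalIdeal (S.presheaf.stalk (h x))).map (h.stalkMap x).hom with hm
  have hle : m ≤ maximalIdeal (X.presheaf.stalk x) :=
    Ideal.map_le_iff_le_comap.mpr fun a ha => map_nonunit (h.stalkMap x).hom a ha
  · -- a morphism into the fibre
    haveI : Nontrivial (X.presheaf.stalk x ⧸ m) := Ideal.Quotient.nontrivial_iff.mpr fun h' =>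
      (maximalIdeal.isMaximal _).ne_top (eq_top_iff.mpr (h' ▸ hle))
    haveI : IsLocalRing (X.presheaf.stalk x ⧸ m) :=
      .of_surjective' _ Ideal.Quotient.mk_surjective
    let R := CommRingCat.of (X.presheaf.stalk x ⧸ m)
    let q : X.presheaf.stalk x ⟶ R := CommRingCat.ofHom (Ideal.Quotient.mk m)
    haveI : IsLocalHom q.hom := .of_surjective _ Ideal.Quotient.mk_surjective
    let r : S.residueField (h x) ⟶ R := CommRingCat.ofHom (Ideal.Quotient.lift _
      (q.hom.comp (h.stalkMap x).hom) fun a ha =>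
        Ideal.Quotient.eq_zero_iff_mem.mpr (Ideal.mem_map_of_mem _ ha))
    have hr : S.residue (h x) ≫ r = h.stalkMap x ≫ q := CommRingCat.hom_ext (RingHom.ext fun _ => rfl)
    let e : Spec R ⟶ X := Spec.map q ≫ X.fromSpecStalk x
    have he : e ≫ h = Spec.map r ≫ S.fromSpecResidueField (h x) := by
      rw [Category.assoc, ← Scheme.SpecMap_stalkMap_fromSpecStalk, ← Spec.map_comp_assoc, ← hr,
        Spec.map_comp_assoc]
      rfl
    let g : Spec R ⟶ h.fiber (h x) := pullback.lift e (Spec.map r) he
    have hg : g ≫ h.fiberι (h x) = e := pullback.lift_fst ..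
    have he0 : e (closedPoint R) = x := by
      rw [Scheme.Hom.comp_apply, Spec_closedPoint, Scheme.fromSpecStalk_closedPoint]
    have hgz : g (closedPoint R) = z := by
      apply (h.fiberι (h x)).isEmbedding.injective
      rw [← Scheme.Hom.comp_apply, hg, he0]
      exact hx.symm
    intro a ha
    obtain ⟨U, hU, b, rfl⟩ := X.presheaf.germ_exist a
    have hxU : x ∈ U := hx ▸ hU
    -- move to `g`'s closed point
    have h1 : ∀ z', z' = z → ∀ hU' : h.fiberι (h x) z' ∈ U,
        ((h.fiberι (h x)).stalkMap z').hom (X.presheaf.germ U _ hU' b) = 0 := by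
      rintro z' rfl hU'
      exact ha
    have h2 : ∀ e' : Spec R ⟶ X, g ≫ h.fiberι (h x) = e' → ∀ hU' : e' (closedPoint R) ∈ U,
        (Scheme.stalkClosedPointTo e').hom (X.presheaf.germ U _ hU' b) = 0 := by
      rintro e' rfl hU'
      rw [Scheme.stalkClosedPointTo_comp, CommRingCat.hom_comp, RingHom.comp_apply]
      have h0 : ((h.fiberι (h x)).stalkMap (g (closedPoint R))).hom
          (X.presheaf.germ U _ hU' b) = 0 := h1 _ hgz hU'
      exact (congrArg (Scheme.stalkClosedPointTo g).hom h0).trans (map_zero _)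
    have h3 := h2 e hg (he0.symm ▸ hxU)
    have h4 := congrArg (fun k => k.hom b)
      (Scheme.germ_stalkClosedPointTo_Spec_fromSpecStalk q U (he0.symm ▸ hxU))
    simp only [CommRingCat.hom_comp, RingHom.comp_apply] at h4
    have h5 : X.presheaf.germ U x hxU b ∈ m :=
      Ideal.Quotient.eq_zero_iff_mem.mp (h4.symm.trans h3)
    have h6 : ∀ x', x' = x → ∀ hU' : x' ∈ U, X.presheaf.germ U x' hU' b ∈
        (maximalIdeal (S.presheaf.stalk (h x'))).map (h.stalkMap x').hom := by
      rintro x' rfl hU'
      exact h5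
    exact h6 _ hx hU
/-- `fiberι_stalkMap` at a point equal to the image. -/
theorem fiberι_stalkMap' (h : X ⟶ S) (s : S) (z : h.fiber s) (x : X) (hx : h.fiberι s z = x) :
    Function.Surjective
        ((X.presheaf.stalkCongr (.of_eq hx.symm)).hom ≫ (h.fiberι s).stalkMap z).hom ∧
      RingHom.ker ((X.presheaf.stalkCongr (.of_eq hx.symm)).hom ≫ (h.fiberι s).stalkMap z).hom =
        (maximalIdeal (S.presheaf.stalk (h x))).map (h.stalkMap x).hom := by
  subst hx
  have : (X.presheaf.stalkCongr (.of_eq rfl)).hom = 𝟙 (X.presheaf.stalk (h.fiberι s z)) := by simp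
  rw [this, Category.id_comp]
  exact fiberι_stalkMap h s z

set_option backward.isDefEq.respectTransparency false in
/-- Essential finite presentation of the local rings. -/
theorem isEssFinitePresentation_stalkMap (h : X ⟶ S) [LocallyOfFinitePresentation h] (x : X) :
    letI := (h.stalkMap x).hom.toAlgebra
    CAlgX.IsEssFinitePresentation (S.presheaf.stalk (h x)) (X.presheaf.stalk x) := by
  letI := (h.stalkMap x).hom.toAlgebra
  obtain ⟨_, ⟨U, hU, rfl⟩, hxU, -⟩ :=
    S.isBasis_affineOpens.exists_subset_of_mem_open (Set.mem_univ (h x)) isOpen_univ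
  obtain ⟨_, ⟨V, hV, rfl⟩, hxV, hVU⟩ :=
    X.isBasis_affineOpens.exists_subset_of_mem_open hxU (U.2.preimage h.continuous)
  letI : Algebra Γ(S, U) Γ(X, V) := (h.appLE U V hVU).hom.toAlgebra
  haveI : Algebra.FinitePresentation Γ(S, U) Γ(X, V) := h.finitePresentation_appLE hU hV hVU
  letI := TopCat.Presheaf.algebra_section_stalk S.presheaf ⟨h x, hxU⟩
  letI := TopCat.Presheaf.algebra_section_stalk X.presheaf ⟨x, hxV⟩
  letI : Algebra Γ(S, U) (X.presheaf.stalk x) :=
    ((algebraMap Γ(X, V) (X.presheaf.stalk x)).comp (algebraMap Γ(S, U) Γ(X, V))).toAlgebra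
  haveI : IsScalarTower Γ(S, U) Γ(X, V) (X.presheaf.stalk x) :=
    IsScalarTower.of_algebraMap_eq fun _ => rfl
  haveI : IsScalarTower Γ(S, U) (S.presheaf.stalk (h x)) (X.presheaf.stalk x) :=
    IsScalarTower.of_algebraMap_eq fun a => by
      refine Eq.trans ?_ (Scheme.Hom.germ_stalkMap_apply h U x hxU a).symm
      show X.presheaf.germ V x hxV ((h.appLE U V hVU) a) = _
      rw [Scheme.Hom.appLE, CommRingCat.comp_apply]
      exact TopCat.Presheaf.germ_res_apply X.presheaf (homOfLE hVU) x hxV _
  haveI := hU.isLocalization_stalk ⟨h x, hxU⟩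
  haveI := hV.isLocalization_stalk ⟨x, hxV⟩
  exact isEssFinitePresentation_localization (R := Γ(S, U)) (A := Γ(X, V))
    (hU.primeIdealOf ⟨h x, hxU⟩).asIdeal.primeCompl (hV.primeIdealOf ⟨x, hxV⟩).asIdeal.primeCompl

set_option backward.isDefEq.respectTransparency false in
/-- The local rings of a morphism locally of finite type are localizations of quotients of
polynomial rings. -/
theorem exists_generators_stalkMap (h : X ⟶ S) [LocallyOfFiniteType h] (x : X) :
    letI := (h.stalkMap x).hom.toAlgebra
    ∃ (n : ℕ) (φ : MvPolynomial (Fin n) (S.presheaf.stalk (h x)) →ₐ[S.presheaf.stalk (h x)]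
        X.presheaf.stalk x), ∀ y, ∃ a t, IsUnit (φ t) ∧ y * φ t = φ a := by
  letI := (h.stalkMap x).hom.toAlgebra
  obtain ⟨_, ⟨U, hU, rfl⟩, hxU, -⟩ :=
    S.isBasis_affineOpens.exists_subset_of_mem_open (Set.mem_univ (h x)) isOpen_univ
  obtain ⟨_, ⟨V, hV, rfl⟩, hxV, hVU⟩ :=
    X.isBasis_affineOpens.exists_subset_of_mem_open hxU (U.2.preimage h.continuous)
  letI : Algebra Γ(S, U) Γ(X, V) := (h.appLE U V hVU).hom.toAlgebra
  haveI : Algebra.FiniteType Γ(S, U) Γ(X, V) := h.finiteType_appLE hU hV hVU
  letI := TopCat.Presheaf.algebra_section_stalk S.presheaf ⟨h x, hxU⟩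
  letI := TopCat.Presheaf.algebra_section_stalk X.presheaf ⟨x, hxV⟩
  letI : Algebra Γ(S, U) (X.presheaf.stalk x) :=
    ((algebraMap Γ(X, V) (X.presheaf.stalk x)).comp (algebraMap Γ(S, U) Γ(X, V))).toAlgebra
  haveI : IsScalarTower Γ(S, U) Γ(X, V) (X.presheaf.stalk x) :=
    IsScalarTower.of_algebraMap_eq fun _ => rfl
  haveI : IsScalarTower Γ(S, U) (S.presheaf.stalk (h x)) (X.presheaf.stalk x) :=
    IsScalarTower.of_algebraMap_eq fun a => by
      refine Eq.trans ?_ (Scheme.Hom.germ_stalkMap_apply h U x hxU a).symm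
      show X.presheaf.germ V x hxV ((h.appLE U V hVU) a) = _
      rw [Scheme.Hom.appLE, CommRingCat.comp_apply]
      exact TopCat.Presheaf.germ_res_apply X.presheaf (homOfLE hVU) x hxV _
  haveI := hV.isLocalization_stalk ⟨x, hxV⟩
  exact exists_generators_localization (R := Γ(S, U)) (A := Γ(X, V))
    (hV.primeIdealOf ⟨x, hxV⟩).asIdeal.primeCompl

end GrothLib.FibreFlat
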