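import Groth.Agent.Lib.FibreFlat.Open
import Mathlib.Algebra.Module.FinitePresentation

/-! # The flat locus is open: algebra form (EGA IV 11.3.1) -/

universe u

namespace GrothLib.FibreFlat

open TensorProduct Function MvPolynomial

variable {R A M : Type u} [CommRing R] [CommRing A] [Algebra R A] [AddCommGroup M] [Module A M]
  [Module R M] [IsScalarTower R A M]

/-- The flat locus of a finitely presented module over a finitely presented algebra is open. -/
theorem isOpen_flat_locus [Algebra.FinitePresentation R A] [Module.FinitePresentation A M] :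
    IsOpen {q : PrimeSpectrum A | Module.Flat R (LocalizedModule q.asIdeal.primeCompl M)} := by
  obtain ⟨m, π, hπ, hker⟩ := ‹Algebra.FinitePresentation R A›.out
  let B := MvPolynomial (Fin m) R
  letI : Algebra B A := π.toRingHom.toAlgebra
  haveI : IsScalarTower R B A := IsScalarTower.of_algebraMap_eq fun r => (π.commutes r).symm
  letI : Module B M := Module.compHom M (algebraMap B A)
  haveI : IsScalarTower B A M := IsScalarTower.of_algebraMap_smul fun _ _ => rfl
  haveI : IsScalarTower R B M := IsScalarTower.of_algebraMap_smul fun r x => by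
    show π (algebraMap R B r) • x = r • x
    rw [π.commutes, algebraMap_smul]
  haveI : Module.FinitePresentation B A := Module.finitePresentation_of_surjective
    (Algebra.linearMap B A) hπ hker
  haveI : Module.FinitePresentation B M := Module.FinitePresentation.trans B M A
  have hsurj : Surjective (algebraMap B A) := hπ
  -- comparison of the two localizations
  have hcmp : ∀ q : PrimeSpectrum A,
      (Module.Flat R (LocalizedModule (q.asIdeal.comap (algebraMap B A)).primeCompl M) ↔
        Module.Flat R (LocalizedModule q.asIdeal.primeCompl M)) := fun q => by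
    let P := q.asIdeal.comap (algebraMap B A)
    let ι : M →ₗ[B] LocalizedModule q.asIdeal.primeCompl M :=
      (LocalizedModule.mkLinearMap q.asIdeal.primeCompl M).restrictScalars B
    haveI : IsLocalizedModule P.primeCompl ι := by
      refine ⟨fun t => ?_, fun y => ?_, fun {a b} hab => ?_⟩
      · have hu := IsLocalizedModule.map_units (S := q.asIdeal.primeCompl)
          (LocalizedModule.mkLinearMap q.asIdeal.primeCompl M) ⟨algebraMap B A t, t.2⟩
        rw [Module.End.isUnit_iff] at hu ⊢
        convert hu using 1
        funext x
        simp only [Module.algebraMap_end_apply]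
        exact (algebraMap_smul A (t : B) x).symm
      · obtain ⟨⟨x, s⟩, hs⟩ := IsLocalizedModule.surj q.asIdeal.primeCompl
          (LocalizedModule.mkLinearMap q.asIdeal.primeCompl M) y
        obtain ⟨t, ht⟩ := hsurj (s : A)
        refine ⟨⟨x, ⟨t, show algebraMap B A t ∉ q.asIdeal from ht ▸ s.2⟩⟩, ?_⟩
        show t • y = (LocalizedModule.mkLinearMap q.asIdeal.primeCompl M) x
        rw [← algebraMap_smul A t y, ht]
        exact hs
      · obtain ⟨s, hs⟩ := (IsLocalizedModule.eq_iff_exists q.asIdeal.primeCompl
          (LocalizedModule.mkLinearMap q.asIdeal.primeCompl M)).mp hab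
        obtain ⟨t, ht⟩ := hsurj (s : A)
        refine ⟨⟨t, show algebraMap B A t ∉ q.asIdeal from ht ▸ s.2⟩, ?_⟩
        show t • a = t • b
        rw [← algebraMap_smul A t a, ← algebraMap_smul A t b, ht]
        exact hs
    let e := (IsLocalizedModule.linearEquiv P.primeCompl
      (LocalizedModule.mkLinearMap P.primeCompl M) ι).restrictScalars R
    exact ⟨fun h => Module.Flat.of_linearEquiv e.symm, fun h => Module.Flat.of_linearEquiv e⟩
  rw [PrimeSpectrum.isTopologicalBasis_basic_opens.isOpen_iff]
  intro q hq
  obtain ⟨g, hg, hgflat⟩ := flat_nhd M (q.asIdeal.comap (algebraMap B A)) ((hcmp q).mpr hq)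
  exact ⟨_, ⟨algebraMap B A g, rfl⟩, hg,
    fun q' hq' => (hcmp q').mp (hgflat ⟨q'.asIdeal.comap (algebraMap B A), inferInstance⟩ hq')⟩

end GrothLib.FibreFlat
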