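import Groth.Agent.Lib.FibreFlat.FibreMap
import Groth.Agent.Lib.DiagGrp.KernelFP
import Groth.Agent.Lib.LocProp.Stalk
import Mathlib.AlgebraicGeometry.Morphisms.SmoothFiber
import Mathlib.AlgebraicGeometry.Morphisms.FlatMono
import Mathlib.AlgebraicGeometry.Morphisms.UniversallyInjective
import Mathlib.RingTheory.Unramified.LocalRing

/-!
# Fibrewise criteria for morphisms between schemes over a base (EGA IV 17.8, 17.9)
-/

universe u

namespace GrothLib.FibreFlat

open AlgebraicGeometry CategoryTheory Limits IsLocalRing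

variable {X Y S : Scheme.{u}}

/-- The base change to a fibre is the map of fibres. -/
theorem fiberMap_comp_eq (f : X ⟶ Y) (g : Y ⟶ S) (s : S) :
    (pullbackRightPullbackFstIso g (S.fromSpecResidueField s) f).hom ≫ MoreMor.fiberMap f g s =
      pullback.snd f (g.fiberι s) := by
  refine pullback.hom_ext ?_ ?_
  · refine (Category.assoc _ _ _).trans ?_
    refine (congrArg (fun k => (pullbackRightPullbackFstIso g (S.fromSpecResidueField s) f).hom ≫ k)
      (pullback.lift_fst ..)).trans ?_
    exact (pullbackRightPullbackFstIso_hom_fst_assoc g (S.fromSpecResidueField s) f f).trans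
      pullback.condition
  · refine (Category.assoc _ _ _).trans ?_
    refine (congrArg _ (pullback.lift_snd ..)).trans ?_
    exact pullbackRightPullbackFstIso_hom_snd g (S.fromSpecResidueField s) f

theorem prop_fiberMap_iff {P : MorphismProperty Scheme.{u}} [P.IsStableUnderBaseChange] (f : X ⟶ Y)
    (g : Y ⟶ S) (s : S) : P (MoreMor.fiberMap f g s) ↔ P (pullback.snd f (g.fiberι s)) := by
  haveI : P.RespectsIso := MorphismProperty.IsStableUnderBaseChange.respectsIso
  have e := P.arrow_mk_iso_iff (Arrow.isoMk' (pullback.snd f (g.fiberι s))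
    (MoreMor.fiberMap f g s) (pullbackRightPullbackFstIso g (S.fromSpecResidueField s) f) (Iso.refl _)
    ((fiberMap_comp_eq f g s).trans (Category.comp_id _).symm))
  exact e.symm

/-- The fibres of `f` are base changes of its maps of fibres. -/
theorem prop_fiberToSpecResidueField {P : MorphismProperty Scheme.{u}} [P.IsStableUnderBaseChange]
    (f : X ⟶ Y) (g : Y ⟶ S) (hP : ∀ s, P (pullback.snd f (g.fiberι s))) (y : Y) :
    P (f.fiberToSpecResidueField y) := by
  let j : Spec (Y.residueField y) ⟶ g.fiber (g y) :=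
    pullback.lift (Y.fromSpecResidueField y) (Spec.map (g.residueFieldMap y)) (by simp)
  have hj : j ≫ g.fiberι (g y) = Y.fromSpecResidueField y := pullback.lift_fst ..
  show P (pullback.snd f (Y.fromSpecResidueField y))
  rw [← hj]
  haveI : P.RespectsIso := MorphismProperty.IsStableUnderBaseChange.respectsIso
  have e := P.arrow_mk_iso_iff (Arrow.isoMk' (pullback.snd (pullback.snd f (g.fiberι (g y))) j)
    (pullback.snd f (j ≫ g.fiberι (g y))) (pullbackLeftPullbackSndIso f (g.fiberι (g y)) j)
    (Iso.refl _) ((pullbackLeftPullbackSndIso_hom_snd _ _ _).trans (Category.comp_id _).symm))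
  exact e.mp (P.pullback_snd _ _ (hP (g y)))

/-- Flatness of `f` and of `g` at the image, from flatness of the maps of fibres. -/
theorem flat_of_fibrewise (f : X ⟶ Y) (g : Y ⟶ S) [LocallyOfFinitePresentation (f ≫ g)]
    [LocallyOfFiniteType g] [Flat (f ≫ g)] (hf : ∀ s, Flat (pullback.snd f (g.fiberι s))) (x : X) :
    (g.stalkMap (f x)).hom.Flat ∧ (f.stalkMap x).hom.Flat := by
  refine (critere_par_fibres f g x).mp ⟨Flat.stalkMap (f ≫ g) x, ?_⟩
  rw [← flat_fiberMap_stalkMap_iff f g (g (f x)) ((f ≫ g).asFiber x) x ((f ≫ g).fiberι_asFiber x)]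
  haveI : Flat (MoreMor.fiberMap f g (g (f x))) := (prop_fiberMap_iff f g _).mpr (hf _)
  exact Flat.stalkMap _ _

theorem flat_of_fibrewise' (f : X ⟶ Y) (g : Y ⟶ S) [LocallyOfFinitePresentation (f ≫ g)]
    [LocallyOfFiniteType g] [Flat (f ≫ g)] (hf : ∀ s, Flat (pullback.snd f (g.fiberι s))) :
    Flat f :=
  (Flat.iff_flat_stalkMap f).mpr fun x => (flat_of_fibrewise f g hf x).2

/-- Smoothness can be checked on fibres over the base. -/
theorem smooth_of_fibrewise (f : X ⟶ Y) (g : Y ⟶ S) [LocallyOfFinitePresentation (f ≫ g)]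
    [LocallyOfFiniteType g] [Flat (f ≫ g)]
    (hf : ∀ s, Smooth (pullback.snd f (g.fiberι s))) : Smooth f := by
  haveI : LocallyOfFinitePresentation f :=
    GrothLib.DiagGrp.lfp_of_comp_of_lft f g inferInstance inferInstance
  haveI : Flat f := flat_of_fibrewise' f g fun s => by
    haveI := hf s
    infer_instance
  exact Smooth.of_smooth_fiberToSpecResidueField f
    fun y => prop_fiberToSpecResidueField (P := @Smooth) f g hf y

/-- The local criterion of unramifiedness through the quotient by an ideal of the base. -/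
theorem formallyUnramified_of_quotient {A B : Type u} [CommRing A] [CommRing B] [IsLocalRing A]
    [IsLocalRing B] [Algebra A B] [IsLocalHom (algebraMap A B)] [Algebra.EssFiniteType A B]
    (I : Ideal A) (J : Ideal B) (hI : I ≤ maximalIdeal A) (hJ : J ≤ maximalIdeal B)
    (hIJ : I ≤ J.comap (algebraMap A B)) (hJI : J ≤ I.map (algebraMap A B))
    (h : (Ideal.quotientMap J (algebraMap A B) hIJ).FormallyUnramified) :
    Algebra.FormallyUnramified A B := by
  letI := (Ideal.quotientMap J (algebraMap A B) hIJ).toAlgebra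
  haveI : Nontrivial (A ⧸ I) := Ideal.Quotient.nontrivial_iff.mpr fun h' =>
    (maximalIdeal.isMaximal A).ne_top (eq_top_iff.mpr (h' ▸ hI))
  haveI : Nontrivial (B ⧸ J) := Ideal.Quotient.nontrivial_iff.mpr fun h' =>
    (maximalIdeal.isMaximal B).ne_top (eq_top_iff.mpr (h' ▸ hJ))
  haveI : IsLocalRing (A ⧸ I) := .of_surjective' _ Ideal.Quotient.mk_surjective
  haveI : IsLocalRing (B ⧸ J) := .of_surjective' _ Ideal.Quotient.mk_surjective
  haveI : IsScalarTower A (A ⧸ I) (B ⧸ J) := IsScalarTower.of_algebraMap_eq fun a => rfl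
  haveI : Algebra.EssFiniteType B (B ⧸ J) := inferInstance
  haveI : Algebra.EssFiniteType A (B ⧸ J) := Algebra.EssFiniteType.comp A B (B ⧸ J)
  haveI : Algebra.EssFiniteType (A ⧸ I) (B ⧸ J) := Algebra.EssFiniteType.of_comp A (A ⧸ I) (B ⧸ J)
  haveI : IsLocalHom (algebraMap (A ⧸ I) (B ⧸ J)) := ⟨fun a ha => by
    obtain ⟨a, rfl⟩ := Ideal.Quotient.mk_surjective a
    refine IsUnit.map _ (isUnit_of_map_unit (algebraMap A B) a ?_)
    haveI : IsLocalHom (Ideal.Quotient.mk J) := .of_surjective _ Ideal.Quotient.mk_surjective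
    exact isUnit_of_map_unit (Ideal.Quotient.mk J) _ ha⟩
  haveI hFU : Algebra.FormallyUnramified (A ⧸ I) (B ⧸ J) := h
  haveI : Algebra.FormallyUnramified A (A ⧸ I) := inferInstance
  haveI : Algebra.FormallyUnramified A (B ⧸ J) := Algebra.FormallyUnramified.comp A (A ⧸ I) (B ⧸ J)
  haveI : IsLocalHom (Ideal.Quotient.mk J) := .of_surjective _ Ideal.Quotient.mk_surjective
  haveI : IsLocalHom (algebraMap A (B ⧸ J)) := by
    show IsLocalHom ((Ideal.Quotient.mk J).comp (algebraMap A B))
    infer_instance
  rw [Algebra.FormallyUnramified.iff_map_maximalIdeal_eq]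
  obtain ⟨hsep, hmax⟩ := (Algebra.FormallyUnramified.iff_map_maximalIdeal_eq
    (R := A) (S := B ⧸ J)).mp inferInstance
  refine ⟨?_, le_antisymm ?_ fun b hb => ?_⟩
  · -- residue fields
    haveI := hsep
    let e : ResidueField (B ⧸ J) ≃ₐ[ResidueField A] ResidueField B :=
      (AlgEquiv.ofBijective
        (IsScalarTower.toAlgHom (ResidueField A) (ResidueField B) (ResidueField (B ⧸ J)))
        ⟨(algebraMap (ResidueField B) (ResidueField (B ⧸ J))).injective,
          fun z => by
            obtain ⟨z, rfl⟩ := residue_surjective z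
            obtain ⟨z, rfl⟩ := Ideal.Quotient.mk_surjective z
            exact ⟨residue B z, rfl⟩⟩).symm
    exact Algebra.IsSeparable.of_algHom _ _ e.symm.toAlgHom
  · exact Ideal.map_le_iff_le_comap.mpr fun a ha => map_nonunit (algebraMap A B) a ha
  · have h1 : Ideal.Quotient.mk J b ∈ maximalIdeal (B ⧸ J) := map_nonunit _ b hb
    rw [← hmax, IsScalarTower.algebraMap_eq A B (B ⧸ J), ← Ideal.map_map,
      Ideal.Quotient.algebraMap_eq,
      Ideal.mem_map_iff_of_surjective _ Ideal.Quotient.mk_surjective] at h1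
    obtain ⟨c, hc, hcb⟩ := h1
    have := (Ideal.Quotient.eq.mp hcb.symm)
    have h2 : b - c ∈ (maximalIdeal A).map (algebraMap A B) := Ideal.map_mono hI (hJI this)
    simpa using add_mem h2 hc

set_option backward.isDefEq.respectTransparency false in
/-- The stalk map is unramified when the map of fibres is. -/
theorem formallyUnramified_stalkMap_of_fibrewise (f : X ⟶ Y) (g : Y ⟶ S) [LocallyOfFiniteType f]
    (x : X) (z : (f ≫ g).fiber (g (f x))) (hz : (f ≫ g).fiberι _ z = x)
    (h : ((MoreMor.fiberMap f g (g (f x))).stalkMap z).hom.FormallyUnramified) :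
    (f.stalkMap x).hom.FormallyUnramified := by
  rw [fiberMap_stalkMap_iff RingHom.FormallyUnramified.respectsIso f g _ z x hz] at h
  letI := (f.stalkMap x).hom.toAlgebra
  haveI : IsLocalHom (algebraMap (Y.presheaf.stalk (f x)) (X.presheaf.stalk x)) :=
    inferInstanceAs (IsLocalHom (f.stalkMap x).hom)
  haveI : Algebra.EssFiniteType (Y.presheaf.stalk (f x)) (X.presheaf.stalk x) := by
    rw [← RingHom.essFiniteType_algebraMap, RingHom.algebraMap_toAlgebra]
    exact LocallyOfFiniteType.stalkMap f x
  refine formallyUnramified_of_quotient _ _ ?_ ?_ _ ?_ h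
  · exact Ideal.map_le_iff_le_comap.mpr fun a ha => map_nonunit (g.stalkMap (f x)).hom a ha
  · exact Ideal.map_le_iff_le_comap.mpr fun a ha => map_nonunit ((f ≫ g).stalkMap x).hom a ha
  · rw [Ideal.map_map]
    refine le_of_eq (congrArg (fun k => Ideal.map k _) ?_)
    rw [Scheme.Hom.stalkMap_comp]
    rfl

/-- Unramifiedness can be checked on fibres over the base. -/
theorem formallyUnramified_of_fibrewise (f : X ⟶ Y) (g : Y ⟶ S) [LocallyOfFiniteType f]
    (hf : ∀ s, FormallyUnramified (pullback.snd f (g.fiberι s))) : FormallyUnramified f := by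
  have hnhd : ∀ x : X, ∃ U : X.Opens, x ∈ U ∧ FormallyUnramified (U.ι ≫ f) := fun x => by
    rw [GrothLib.LocProp.formallyUnramified_nhd_iff f x]
    haveI : FormallyUnramified (MoreMor.fiberMap f g (g (f x))) := (prop_fiberMap_iff f g _).mpr (hf _)
    exact formallyUnramified_stalkMap_of_fibrewise f g x ((f ≫ g).asFiber x)
      ((f ≫ g).fiberι_asFiber x) (FormallyUnramified.stalkMap _ _)
  choose U hxU hU using hnhd
  haveI : IsZariskiLocalAtSource (@FormallyUnramified : MorphismProperty Scheme.{u}) :=
    HasRingHomProperty.instIsZariskiLocalAtSource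
  rw [IsZariskiLocalAtSource.iff_of_iSup_eq_top (P := @FormallyUnramified) U
    (top_le_iff.mp fun x _ => TopologicalSpace.Opens.mem_iSup.mpr ⟨x, hxU x⟩)]
  exact hU

/-- Étaleness can be checked on fibres over the base. -/
theorem etale_of_fibrewise (f : X ⟶ Y) (g : Y ⟶ S) [LocallyOfFinitePresentation (f ≫ g)]
    [LocallyOfFiniteType g] [Flat (f ≫ g)]
    (hf : ∀ s, Etale (pullback.snd f (g.fiberι s))) : Etale f := by
  haveI : LocallyOfFinitePresentation f :=
    GrothLib.DiagGrp.lfp_of_comp_of_lft f g inferInstance inferInstance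
  haveI : Flat f := flat_of_fibrewise' f g fun s => by
    haveI := hf s
    infer_instance
  haveI : FormallyUnramified f := formallyUnramified_of_fibrewise f g fun s => by
    haveI := hf s
    infer_instance
  exact Etale.of_formallyUnramified_of_flat f

/-- Being an open immersion can be checked on fibres over the base. -/
theorem isOpenImmersion_of_fibrewise (f : X ⟶ Y) (g : Y ⟶ S) [LocallyOfFinitePresentation (f ≫ g)]
    [LocallyOfFiniteType g] [Flat (f ≫ g)]
    (hf : ∀ s, IsOpenImmersion (pullback.snd f (g.fiberι s))) : IsOpenImmersion f := by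
  haveI : Etale f := etale_of_fibrewise f g fun s => by
    haveI := hf s
    infer_instance
  haveI hsurj : Surjective (pullback.diagonal f) := ⟨fun p => by
    let q := (pullback f f).fromSpecResidueField p
    let s := g ((pullback.fst f f ≫ f) p)
    -- both projections factor through the fibre over `s`
    let j : Spec ((pullback f f).residueField p) ⟶ g.fiber s :=
      pullback.lift (q ≫ pullback.fst f f ≫ f)
        (Spec.map ((pullback.fst f f ≫ f ≫ g).residueFieldMap p))
        (by simp [q, s])
    have hj : j ≫ g.fiberι s = q ≫ pullback.fst f f ≫ f := pullback.lift_fst ..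
    let a : Spec ((pullback f f).residueField p) ⟶ pullback f (g.fiberι s) :=
      pullback.lift (q ≫ pullback.fst f f) j (by rw [hj, Category.assoc])
    let b : Spec ((pullback f f).residueField p) ⟶ pullback f (g.fiberι s) :=
      pullback.lift (q ≫ pullback.snd f f) j (by
        rw [hj, Category.assoc, pullback.condition])
    haveI := hf s
    have hab : a = b := by
      rw [← cancel_mono (pullback.snd f (g.fiberι s))]
      exact (pullback.lift_snd _ _ _).trans (pullback.lift_snd _ _ _).symm
    have h1 : q ≫ pullback.fst f f = q ≫ pullback.snd f f := by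
      exact ((pullback.lift_fst _ _ _).symm.trans
        (congrArg (· ≫ pullback.fst f (g.fiberι s)) hab)).trans (pullback.lift_fst _ _ _)
    have h2 : (q ≫ pullback.fst f f) ≫ pullback.diagonal f = q := by
      refine pullback.hom_ext (by simp) ?_
      simp [h1]
    obtain ⟨c⟩ : Nonempty (Spec ((pullback f f).residueField p)) := inferInstance
    exact ⟨(q ≫ pullback.fst f f) c, by
      rw [← Scheme.Hom.comp_apply, h2]
      exact Scheme.fromSpecResidueField_apply _ c⟩⟩
  haveI : IsIso (pullback.diagonal f) :=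
    (isIso_iff_isOpenImmersion_and_surjective _).mpr ⟨inferInstance, hsurj⟩
  haveI : Mono f := (pullback.isIso_diagonal_iff f).mp inferInstance
  exact IsOpenImmersion.of_flat_of_mono f

/-- Being an isomorphism can be checked on fibres over the base. -/
theorem isIso_of_fibrewise (f : X ⟶ Y) (g : Y ⟶ S) [LocallyOfFinitePresentation (f ≫ g)]
    [LocallyOfFiniteType g] [Flat (f ≫ g)]
    (hf : ∀ s, IsIso (pullback.snd f (g.fiberι s))) : IsIso f := by
  refine (isIso_iff_isOpenImmersion_and_surjective f).mpr
    ⟨isOpenImmersion_of_fibrewise f g fun s => by haveI := hf s; infer_instance, ⟨fun y => ?_⟩⟩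
  obtain ⟨w, hw⟩ : y ∈ Set.range (g.fiberι (g y)) := by rw [g.range_fiberι]; rfl
  haveI := hf (g y)
  obtain ⟨v, rfl⟩ := (pullback.snd f (g.fiberι (g y))).surjective w
  refine ⟨pullback.fst f (g.fiberι (g y)) v, Eq.trans ?_ hw⟩
  rw [← Scheme.Hom.comp_apply, pullback.condition, Scheme.Hom.comp_apply]

end GrothLib.FibreFlat
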