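import Groth.Agent.Lib.FibreFlat.OpenLocus
import Mathlib.AlgebraicGeometry.Morphisms.Flat
import Mathlib.AlgebraicGeometry.Morphisms.FinitePresentation
import Mathlib.RingTheory.Flat.Localization
import Mathlib.Algebra.Module.LocalizedModule.IsLocalization

/-! # The flat locus is open: scheme form -/

universe u

namespace GrothLib.FibreFlat

open AlgebraicGeometry CategoryTheory

/-- Flatness of the map of local rings, in algebraic terms. -/
theorem flat_localRingHom_iff {R A : Type u} [CommRing R] [CommRing A] [Algebra R A] (q : Ideal A)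
    [q.IsPrime] (p : Ideal R) [p.IsPrime] [q.LiesOver p] :
    letI := Localization.AtPrime.algebraOfLiesOver p q
    Module.Flat (Localization.AtPrime p) (Localization.AtPrime q) ↔
      Module.Flat R (LocalizedModule q.primeCompl A) := by
  letI := Localization.AtPrime.algebraOfLiesOver p q
  exact Module.flat_iff_of_isLocalization (Localization.AtPrime p) p.primeCompl (Localization.AtPrime q)

set_option backward.isDefEq.respectTransparency false in
/-- The flat locus of a morphism locally of finite presentation is open. -/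
theorem isOpen_flat_stalkMap {X S : Scheme.{u}} (f : X ⟶ S) [LocallyOfFinitePresentation f] :
    IsOpen {x : X | (f.stalkMap x).hom.Flat} := by
  rw [isOpen_iff_mem_nhds]
  intro x hx
  obtain ⟨_, ⟨U, hU, rfl⟩, hxU, -⟩ :=
    S.isBasis_affineOpens.exists_subset_of_mem_open (Set.mem_univ (f x)) isOpen_univ
  obtain ⟨_, ⟨V, hV, rfl⟩, hxV, hVU⟩ :=
    X.isBasis_affineOpens.exists_subset_of_mem_open hxU (U.2.preimage f.continuous)
  have hfp := f.finitePresentation_appLE hU hV hVU
  algebraize [(f.appLE U V hVU).hom]
  have key : ∀ y : V, (f.stalkMap y.1).hom.Flat ↔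
      Module.Flat Γ(S, U) (LocalizedModule (hV.primeIdealOf y).asIdeal.primeCompl Γ(X, V)) := by
    intro y
    let p := (hU.primeIdealOf ⟨f y.1, hVU y.2⟩).asIdeal
    let q := (hV.primeIdealOf y).asIdeal
    have : q.LiesOver p :=
      ⟨congr($(IsAffineOpen.comap_primeIdealOf_appLE U hU V hV hVU y.2).1).symm⟩
    letI := Localization.AtPrime.algebraOfLiesOver p q
    rw [← flat_localRingHom_iff q p, ← RingHom.flat_algebraMap_iff]
    exact RingHom.Flat.respectsIso.arrow_mk_iso_iff
      (IsAffineOpen.arrowStalkMapIso f U hU V hV hVU y.2)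
  have hopen := GrothLib.FibreFlat.isOpen_flat_locus (R := Γ(S, U)) (A := Γ(X, V)) (M := Γ(X, V))
  have hcont : Continuous hV.primeIdealOf := hV.isoSpec.hom.continuous
  refine Filter.mem_of_superset ((V.2.isOpenMap_subtype_val _ (hopen.preimage hcont)).mem_nhds
    ⟨⟨x, hxV⟩, (key ⟨x, hxV⟩).mp hx, rfl⟩) ?_
  rintro _ ⟨y, hy, rfl⟩
  exact (key y).mpr hy

end GrothLib.FibreFlat
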