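import Groth.Agent.Lib.FibreFlat.EssFP
import Groth.Agent.Lib.FibreFlat.StalkAlg
import Groth.Agent.Lib.FibreFlat.Open
import Mathlib.RingTheory.LocalRing.ResidueField.Ideal
import Mathlib.RingTheory.Flat.Localization
import Mathlib.RingTheory.Flat.Stability

/-!
# The fibre criterion of flatness for finitely presented algebras
-/

universe u

namespace GrothLib.FibreFlat

open TensorProduct Function IsLocalRing

/-- Flatness of `M/𝔞M` over `S/𝔞` in the two forms. -/
theorem flat_smul_top_of_flat_tensor {A M : Type u} [CommRing A] [AddCommGroup M] [Module A M]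
    (𝔞 : Ideal A) (h : Module.Flat (A ⧸ 𝔞) ((A ⧸ 𝔞) ⊗[A] M)) :
    Module.Flat (A ⧸ 𝔞) (M ⧸ 𝔞 • (⊤ : Submodule A M)) := by
  let e : ((A ⧸ 𝔞) ⊗[A] M) ≃ₗ[A ⧸ 𝔞] (M ⧸ 𝔞 • (⊤ : Submodule A M)) :=
    AddEquiv.toLinearEquiv (quotTensorEquivQuotSMul M 𝔞).toAddEquiv fun a y => by
      obtain ⟨a, rfl⟩ := Ideal.Quotient.mk_surjective a
      obtain ⟨b, rfl⟩ := TensorProduct.mk_surjective A M (A ⧸ 𝔞) Ideal.Quotient.mk_surjective y
      rw [TensorProduct.mk_apply,
        show Ideal.Quotient.mk 𝔞 a • ((1 : A ⧸ 𝔞) ⊗ₜ[A] b) =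
            Ideal.Quotient.mk 𝔞 1 ⊗ₜ[A] (a • b) by
          rw [tmul_smul, ← algebraMap_smul (A ⧸ 𝔞) a]; rfl]
      show quotTensorEquivQuotSMul M 𝔞 ((Ideal.Quotient.mk 𝔞 1) ⊗ₜ[A] (a • b)) =
        Ideal.Quotient.mk 𝔞 a • quotTensorEquivQuotSMul M 𝔞 ((Ideal.Quotient.mk 𝔞 1) ⊗ₜ[A] b)
      rw [quotTensorEquivQuotSMul_mk_tmul, quotTensorEquivQuotSMul_mk_tmul, one_smul, one_smul]
      rfl
  exact Module.Flat.of_linearEquiv e.symm

set_option maxHeartbeats 400000 in
/-- The fibre criterion of flatness, global algebraic form: `S` of finite type and `S'` of finite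
presentation over `R`. -/
theorem flat_of_fibres {R S S' M : Type u} [CommRing R] [CommRing S] [CommRing S'] [Algebra R S]
    [Algebra S S'] [Algebra R S'] [IsScalarTower R S S'] [Algebra.FiniteType R S]
    [Algebra.FinitePresentation R S'] [AddCommGroup M] [Module S' M] [Module S M] [Module R M]
    [IsScalarTower S S' M] [IsScalarTower R S M] [Module.FinitePresentation S' M] [Module.Flat R M]
    (h : ∀ (p : Ideal R) [p.IsPrime],
      Module.Flat (S ⊗[R] p.ResidueField) ((S ⊗[R] p.ResidueField) ⊗[S] M)) :
    Module.Flat S M := by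
  haveI : IsScalarTower R S' M := IsScalarTower.of_algebraMap_smul fun r x => by
    rw [IsScalarTower.algebraMap_apply R S S', algebraMap_smul, algebraMap_smul]
  refine Module.flat_of_isLocalized_maximal S' M (fun Q _ => Localization.AtPrime Q ⊗[S'] M)
    (fun Q _ => TensorProduct.mk S' (Localization.AtPrime Q) M 1) fun q _ => ?_
  -- opaque local rings
  let r := q.comap (algebraMap S S')
  let p := r.comap (algebraMap R S)
  obtain ⟨Rp, _, _, _, _⟩ := exists_atPrime p
  obtain ⟨Sr, _, _, _, _⟩ := exists_atPrime r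
  let Bq := Localization.AtPrime q
  obtain ⟨ψ₁, hψ₁, hl₁⟩ := exists_localHom (algebraMap R S) r Rp Sr
  obtain ⟨ψ₂, hψ₂, hl₂⟩ := exists_localHom (algebraMap S S') q Sr Bq
  letI : Algebra Rp Sr := ψ₁.toAlgebra
  letI : Algebra Sr Bq := ψ₂.toAlgebra
  letI : Algebra Rp Bq := (ψ₂.comp ψ₁).toAlgebra
  haveI : IsScalarTower Rp Sr Bq := IsScalarTower.of_algebraMap_eq fun _ => rfl
  letI : Algebra R Sr := ((algebraMap S Sr).comp (algebraMap R S)).toAlgebra
  haveI : IsScalarTower R S Sr := IsScalarTower.of_algebraMap_eq fun _ => rfl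
  haveI : IsScalarTower R Rp Sr := IsScalarTower.of_algebraMap_eq fun x => (hψ₁ x).symm
  haveI : IsScalarTower S Sr Bq := IsScalarTower.of_algebraMap_eq fun x => by
    rw [IsScalarTower.algebraMap_apply S S' Bq]
    exact (hψ₂ x).symm
  haveI : IsScalarTower R Rp Bq := IsScalarTower.of_algebraMap_eq fun x => by
    show algebraMap R Bq x = ψ₂ (ψ₁ (algebraMap R Rp x))
    rw [hψ₁, hψ₂, IsScalarTower.algebraMap_apply R S' Bq, IsScalarTower.algebraMap_apply R S S']
  haveI : IsLocalHom (algebraMap Rp Bq) := by
    show IsLocalHom (ψ₂.comp ψ₁)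
    infer_instance
  let Mq := Bq ⊗[S'] M
  let ι : M →ₗ[S'] Mq := TensorProduct.mk S' Bq M 1
  haveI : IsLocalizedModule q.primeCompl ι :=
    (isLocalizedModule_iff_isBaseChange q.primeCompl Bq ι).mpr (TensorProduct.isBaseChange S' M Bq)
  -- flatness over `R_p`
  haveI : Module.Flat R Mq := Module.Flat.iff_lTensor_preserves_injective_linearMap.mpr
    fun N N' _ _ _ _ f hf => lTensor_injective_of_isLocalizedModule q.primeCompl ι f
      fun x hx => ⟨1, one_mem _, by
        rw [one_smul]
        exact Module.Flat.lTensor_preserves_injective_linearMap (M := M) f hf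
          (hx.trans (map_zero _).symm)⟩
  haveI : Module.Flat Rp Mq := (Module.flat_iff_of_isLocalization Rp p.primeCompl Mq).mpr inferInstance
  haveI : Module.FinitePresentation Bq Mq := inferInstance
  obtain ⟨n, φ, hφ⟩ := exists_generators_localization (R := R) (R' := Rp) (A := S) (A' := Sr) r.primeCompl
  have hess : CAlgX.IsEssFinitePresentation Rp Bq :=
    isEssFinitePresentation_localization (R := R) (A := S') p.primeCompl q.primeCompl
  haveI : Module.Flat Sr Mq := by
    refine flat_of_fibre_localized hess φ hφ (flat_smul_top_of_flat_tensor _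
      (flat_quotient_of_lTensor_injective _ fun N N' _ _ _ _ f hN hN' hf => ?_))
    let m := (maximalIdeal Rp).map (algebraMap Rp Sr)
    letI : Module S N := Module.compHom N (algebraMap S Sr)
    letI : Module S N' := Module.compHom N' (algebraMap S Sr)
    haveI : IsScalarTower S Sr N := IsScalarTower.of_algebraMap_smul fun _ _ => rfl
    haveI : IsScalarTower S Sr N' := IsScalarTower.of_algebraMap_smul fun _ _ => rfl
    -- `κ(p) ⊗ S` acts on `N` and `N'`
    let θ : p.ResidueField →+* Sr ⧸ m := Ideal.ResidueField.lift p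
      ((Ideal.Quotient.mk m).comp (algebraMap R Sr))
      (fun x hx => Ideal.Quotient.eq_zero_iff_mem.mpr (by
        rw [IsScalarTower.algebraMap_apply R Rp Sr]
        exact Ideal.mem_map_of_mem _ ((IsLocalization.AtPrime.to_map_mem_maximal_iff Rp p x).mpr hx)))
      (fun x hx => by
        show IsUnit (Ideal.Quotient.mk m (algebraMap R Sr x))
        rw [IsScalarTower.algebraMap_apply R Rp Sr]
        exact ((IsLocalization.map_units Rp (⟨x, hx⟩ : p.primeCompl)).map _).map _)
    have hθ : ∀ x, θ (algebraMap R p.ResidueField x) = algebraMap R (Sr ⧸ m) x := fun x =>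
      Ideal.ResidueField.lift_algebraMap _ _ _ _ x
    let θ' : p.ResidueField →ₐ[R] Sr ⧸ m := { θ with commutes' := hθ }
    let Φ : S ⊗[R] p.ResidueField →ₐ[S] Sr ⧸ m :=
      Algebra.TensorProduct.lift (Algebra.ofId S (Sr ⧸ m)) θ' fun _ _ => Commute.all _ _
    letI := hN.module
    haveI : IsScalarTower Sr (Sr ⧸ m) N := hN.isScalarTower
    letI := hN'.module
    haveI : IsScalarTower Sr (Sr ⧸ m) N' := hN'.isScalarTower
    letI : Module (S ⊗[R] p.ResidueField) N := Module.compHom N Φ.toRingHom
    letI : Module (S ⊗[R] p.ResidueField) N' := Module.compHom N' Φ.toRingHom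
    have hact : ∀ (K : Type u) [AddCommGroup K] [Module Sr K] [Module S K] [IsScalarTower S Sr K]
        [Module (Sr ⧸ m) K] [IsScalarTower Sr (Sr ⧸ m) K] (a : S) (x : K),
        Φ (algebraMap S (S ⊗[R] p.ResidueField) a) • x = a • x := fun K _ _ _ _ _ _ a x => by
      rw [Φ.commutes, IsScalarTower.algebraMap_apply S Sr (Sr ⧸ m), algebraMap_smul, algebraMap_smul]
    haveI : IsScalarTower S (S ⊗[R] p.ResidueField) N := IsScalarTower.of_algebraMap_smul (hact N)
    haveI : IsScalarTower S (S ⊗[R] p.ResidueField) N' := IsScalarTower.of_algebraMap_smul (hact N')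
    let fS : N →ₗ[S] N' := f.restrictScalars S
    let fQ : N →ₗ[S ⊗[R] p.ResidueField] N' :=
      { f with
        map_smul' := fun c x => by
          show f (Φ c • x) = Φ c • f x
          obtain ⟨d, hd⟩ := Ideal.Quotient.mk_surjective (Φ c)
          rw [← hd, ← Ideal.Quotient.algebraMap_eq, algebraMap_smul, algebraMap_smul, map_smul] }
    -- injectivity for `M`
    have hM : Injective (fS.lTensor M) := by
      haveI := h p
      let eN := (TensorProduct.comm (S ⊗[R] p.ResidueField) ((S ⊗[R] p.ResidueField) ⊗[S] M) N).trans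
        (AlgebraTensorModule.cancelBaseChange S (S ⊗[R] p.ResidueField) (S ⊗[R] p.ResidueField) N M)
      let eN' := (TensorProduct.comm (S ⊗[R] p.ResidueField) ((S ⊗[R] p.ResidueField) ⊗[S] M) N').trans
        (AlgebraTensorModule.cancelBaseChange S (S ⊗[R] p.ResidueField) (S ⊗[R] p.ResidueField) N' M)
      have key : ∀ x, eN' (fQ.lTensor ((S ⊗[R] p.ResidueField) ⊗[S] M) x) =
          TensorProduct.comm S M N' (fS.lTensor M ((TensorProduct.comm S M N).symm (eN x))) := fun x => by
        induction x using TensorProduct.induction_on with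
        | zero => simp
        | add a b ha hb => simp only [map_add, ha, hb]
        | tmul a b =>
          induction a using TensorProduct.induction_on with
          | zero => simp
          | add a a' ha ha' => simp only [add_tmul, map_add, ha, ha']
          | tmul c y =>
            simp only [eN, eN', LinearMap.lTensor_tmul, LinearEquiv.trans_apply, TensorProduct.comm_tmul,
              AlgebraTensorModule.cancelBaseChange_tmul, TensorProduct.comm_symm_tmul]
            rw [← map_smul]
            rfl
      intro x y hxy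
      obtain ⟨x', hx'⟩ := eN.surjective (TensorProduct.comm S M N x)
      obtain ⟨y', hy'⟩ := eN.surjective (TensorProduct.comm S M N y)
      have : x' = y' := Module.Flat.lTensor_preserves_injective_linearMap
        (M := (S ⊗[R] p.ResidueField) ⊗[S] M) fQ hf (eN'.injective (by
          rw [key, key, hx', hy', LinearEquiv.symm_apply_apply, LinearEquiv.symm_apply_apply, hxy]))
      apply (TensorProduct.comm S M N).injective
      rw [← hx', ← hy', this]
    have hMq : Injective (fS.lTensor Mq) :=
      lTensor_injective_of_isLocalizedModule q.primeCompl ι fS fun x hx => ⟨1, one_mem _, by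
        rw [one_smul]
        exact hM (hx.trans (map_zero _).symm)⟩
    haveI : ∀ (K : Type u) [AddCommGroup K] [Module Sr K] [Module S K] [IsScalarTower S Sr K],
        CompatibleSMul S Sr Mq K := fun K _ _ _ _ =>
      IsLocalization.tensorProduct_compatibleSMul r.primeCompl Sr Mq K
    let eK := TensorProduct.equivOfCompatibleSMul S Sr S Mq N
    let eK' := TensorProduct.equivOfCompatibleSMul S Sr S Mq N'
    have hc : ∀ z, fS.lTensor Mq (eK z) = eK' (f.lTensor Mq z) := fun z => by
      induction z using TensorProduct.induction_on with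
      | zero => simp
      | add a b ha hb => simp only [map_add, ha, hb]
      | tmul a b => rfl
    intro x y hxy
    exact eK.injective (hMq (by rw [hc, hc, hxy]))
  haveI : Module.Flat S Sr := IsLocalization.flat Sr r.primeCompl
  exact Module.Flat.trans S Sr Mq

end GrothLib.FibreFlat
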