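import Groth.Agent.Lib.FibreFlat.EssFP
import Groth.Agent.Lib.FibreFlat.Global
import Groth.Agent.Lib.FibreFlat.OpenLocus
import Groth.Agent.Lib.Flatness.Criterion
import Mathlib.RingTheory.Regular.RegularSequence
import Mathlib.RingTheory.Regular.Flat
import Mathlib.RingTheory.Polynomial.Quotient
import Mathlib.RingTheory.RingHom.Flat

/-!
# Regular sequences and flatness over polynomial rings

A weakly regular sequence of a noetherian local algebra `L` over a ring `P` on which the sequence is
weakly regular, with field quotient, makes `L` flat over `P`. With the fibre criterion of flatness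
this turns a fibrewise regular sequence `a` of a flat algebra of finite presentation into flatness
over `R[X₁, …, X_r]`, `X ↦ a`.
-/

universe u

namespace GrothLib.FibreFlat

open TensorProduct Function IsLocalRing RingTheory.Sequence MvPolynomial

/-- A ring map from a noetherian ring whose target consists of fractions is noetherian. -/
theorem isNoetherianRing_of_fractions {B L : Type*} [CommRing B] [CommRing L] [IsNoetherianRing B]
    (ψ : B →+* L) (h : ∀ y : L, ∃ a t, IsUnit (ψ t) ∧ y * ψ t = ψ a) : IsNoetherianRing L := by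
  refine isNoetherianRing_iff_ideal_fg L |>.mpr fun J => ?_
  have : J = (J.comap ψ).map ψ := le_antisymm (fun y hy => by
    obtain ⟨a, t, ht, e⟩ := h y
    have hψa : ψ a ∈ J := e ▸ J.mul_mem_right _ hy
    have : y * ψ t ∈ (J.comap ψ).map ψ := e.symm ▸ Ideal.mem_map_of_mem ψ (Ideal.mem_comap.mpr hψa)
    exact (Ideal.mul_unit_mem_iff_mem _ ht).mp this) Ideal.map_comap_le
  rw [this]
  exact Ideal.FG.map (IsNoetherian.noetherian (J.comap ψ)) ψ

/-- Flatness over a ring from a regular sequence with field quotient. -/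
theorem flat_of_weaklyRegular {P L : Type u} [CommRing P] [CommRing L] [IsNoetherianRing P]
    [IsNoetherianRing L] [IsLocalRing L] [Algebra P L] (ts : List P)
    (hP : IsWeaklyRegular P ts) (hL : IsWeaklyRegular L ts)
    (hm : ∀ t ∈ ts, algebraMap P L t ∈ maximalIdeal L)
    (hk : IsField (P ⧸ Ideal.ofList ts)) : Module.Flat P L := by
  induction hn : ts.length generalizing P L ts with
  | zero =>
    obtain rfl : ts = [] := List.length_eq_zero_iff.mp hn
    rw [Ideal.ofList_nil] at hk
    letI := (MulEquiv.isField hk (RingEquiv.quotientBot P).symm.toMulEquiv).toField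
    infer_instance
  | succ n ih =>
    obtain ⟨t, rest, rfl⟩ : ∃ t rest, ts = t :: rest := by
      cases ts with
      | nil => simp at hn
      | cons t rest => exact ⟨t, rest, rfl⟩
    let J : Ideal P := Ideal.span {t}
    let K : Ideal L := J.map (algebraMap P L)
    have hKm : K ≤ maximalIdeal L := by
      rw [show K = Ideal.span {algebraMap P L t} by simp [K, J, Ideal.map_span],
        Ideal.span_singleton_le_iff_mem]
      exact hm t List.mem_cons_self
    haveI : Nontrivial (L ⧸ K) := Ideal.Quotient.nontrivial_iff.mpr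
      (ne_top_of_le_ne_top (maximalIdeal.isMaximal L).ne_top hKm)
    haveI : IsLocalRing (L ⧸ K) := .of_surjective' (Ideal.Quotient.mk K) Ideal.Quotient.mk_surjective
    letI : Algebra (P ⧸ J) (L ⧸ K) := Ideal.Quotient.algebraQuotientOfLEComap
      (Ideal.le_comap_map : J ≤ K.comap (algebraMap P L))
    haveI : IsScalarTower P (P ⧸ J) (L ⧸ K) := IsScalarTower.of_algebraMap_eq fun _ => rfl
    let eK : QuotSMulTop t L ≃ₗ[P] L ⧸ K := Submodule.quotEquivOfEq _ (K.restrictScalars P) (by
        rw [← Submodule.ideal_span_singleton_smul, Ideal.smul_top_eq_map]) ≪≫ₗ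
      Submodule.Quotient.restrictScalarsEquiv P K
    let eJ : QuotSMulTop t P ≃ₗ[P] P ⧸ J := Submodule.quotEquivOfEq _ J (by
      rw [← Submodule.ideal_span_singleton_smul, smul_eq_mul, Ideal.mul_top])
    obtain ⟨hL1, hL2⟩ := (isWeaklyRegular_cons_iff L t rest).mp hL
    obtain ⟨hP1, hP2⟩ := (isWeaklyRegular_cons_iff P t rest).mp hP
    have hP3 : IsWeaklyRegular (P ⧸ J) (rest.map (algebraMap P (P ⧸ J))) :=
      (isWeaklyRegular_map_algebraMap_iff (P ⧸ J) (P ⧸ J) rest).mpr
        ((LinearEquiv.isWeaklyRegular_congr eJ rest).mp hP2)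
    have hL3 : IsWeaklyRegular (L ⧸ K) (rest.map (algebraMap P (P ⧸ J))) :=
      (isWeaklyRegular_map_algebraMap_iff (P ⧸ J) (L ⧸ K) rest).mpr
        ((LinearEquiv.isWeaklyRegular_congr eK rest).mp hL2)
    haveI : Module.Flat (P ⧸ J) (L ⧸ K) := by
      refine ih (rest.map (algebraMap P (P ⧸ J))) hP3 hL3 (fun s hs => ?_) ?_ (by simpa using hn)
      · obtain ⟨r, hr, rfl⟩ := List.mem_map.mp hs
        have : algebraMap (P ⧸ J) (L ⧸ K) (algebraMap P (P ⧸ J) r) =
            Ideal.Quotient.mk K (algebraMap P L r) := rfl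
        rw [this, mem_maximalIdeal, mem_nonunits_iff]
        intro hu
        haveI : IsLocalHom (Ideal.Quotient.mk K) := .of_surjective _ Ideal.Quotient.mk_surjective
        exact (mem_maximalIdeal _).mp (hm r (List.mem_cons_of_mem _ hr))
          ((isUnit_map_iff (Ideal.Quotient.mk K) _).mp hu)
      · refine MulEquiv.isField hk ?_
        refine ((DoubleQuot.quotQuotEquivQuotSup J (Ideal.ofList rest)).trans
          (Ideal.quotEquivOfEq (Ideal.ofList_cons t rest).symm)).toMulEquiv.symm |>.trans ?_ |>.symm
        exact (Ideal.quotEquivOfEq (Ideal.map_ofList _ rest)).toMulEquiv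
    refine GrothLib.Flatness.flat_of_localCriterion (S := L) (M := L) J
      (hKm.trans (maximalIdeal_le_jacobson _)) ?_ ?_
    · -- `J ⊗ L → L` is injective
      rw [injective_iff_map_eq_zero]
      intro z hz
      have hgen : ∀ z : L ⊗[P] J, ∃ l : L, z = l ⊗ₜ ⟨t, Ideal.mem_span_singleton_self t⟩ := by
        intro z
        induction z using TensorProduct.induction_on with
        | zero => exact ⟨0, (zero_tmul _ _).symm⟩
        | add a b ha hb =>
          obtain ⟨l, rfl⟩ := ha; obtain ⟨l', rfl⟩ := hb
          exact ⟨l + l', (add_tmul _ _ _).symm⟩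
        | tmul l j =>
          obtain ⟨c, hc⟩ := Ideal.mem_span_singleton.mp j.2
          refine ⟨c • l, ?_⟩
          rw [smul_tmul]
          exact congrArg _ (Subtype.ext (hc.trans (mul_comm _ _)))
      obtain ⟨l, rfl⟩ := hgen z
      have h0 : t • l = t • (0 : L) := by
        have := congrArg (TensorProduct.rid P L) hz
        simpa using this
      rw [hL1 h0, zero_tmul]
    · exact Module.Flat.of_linearEquiv
        (LinearEquiv.extendScalarsOfSurjective Ideal.Quotient.mk_surjective
          (TensorProduct.quotTensorEquivQuotSMul L J ≪≫ₗ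
            Submodule.quotEquivOfEq _ (K.restrictScalars P) (Ideal.smul_top_eq_map J) ≪≫ₗ
            Submodule.Quotient.restrictScalarsEquiv P K) : (P ⧸ J) ⊗[P] L ≃ₗ[P ⧸ J] L ⧸ K)

/-- The variables form a weakly regular sequence of the polynomial ring. -/
theorem isWeaklyRegular_X (R : Type u) [CommRing R] (r : ℕ) :
    IsWeaklyRegular (MvPolynomial (Fin r) R) (List.ofFn (X : Fin r → MvPolynomial (Fin r) R)) := by
  induction r with
  | zero => simp
  | succ n ih =>
    let π : MvPolynomial (Fin (n + 1)) R →ₐ[R] MvPolynomial (Fin n) R :=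
      aeval (Fin.cases (0 : MvPolynomial (Fin n) R) X)
    let σ : MvPolynomial (Fin n) R →ₐ[R] MvPolynomial (Fin (n + 1)) R := rename Fin.succ
    have hπσ : ∀ p, π (σ p) = p := fun p => by
      have : π.comp σ = AlgHom.id R (MvPolynomial (Fin n) R) := algHom_ext fun i => by simp [π, σ]
      exact DFunLike.congr_fun this p
    have hσπ : ∀ p, p - σ (π p) ∈ Ideal.span {(X 0 : MvPolynomial (Fin (n + 1)) R)} := fun p => by
      induction p using MvPolynomial.induction_on with
      | C a => simp [π, σ]
      | add a b ha hb =>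
        rw [map_add, map_add, add_sub_add_comm]
        exact add_mem ha hb
      | mul_X a i ha =>
        refine Fin.cases ?_ (fun j => ?_) i
        · simp only [map_mul, aeval_X, Fin.cases_zero, π, mul_zero, map_zero, sub_zero]
          exact Ideal.mul_mem_left _ _ (Ideal.mem_span_singleton_self _)
        · have hX : σ (π (X j.succ)) = X j.succ := by simp [π, σ]
          rw [map_mul, map_mul, hX, ← sub_mul]
          exact Ideal.mul_mem_right _ _ ha
    rw [List.ofFn_succ, isWeaklyRegular_cons_iff]
    refine ⟨?_, ?_⟩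
    · intro a b hab
      exact (isRegular_X (n := (0 : Fin (n + 1))) (R := R)).left hab
    · let f : QuotSMulTop (X 0 : MvPolynomial (Fin (n + 1)) R) (MvPolynomial (Fin (n + 1)) R) →+ MvPolynomial (Fin n) R :=
        QuotientAddGroup.lift _ π.toRingHom.toAddMonoidHom fun x hx => by
          obtain ⟨y, -, rfl⟩ := (Submodule.mem_smul_pointwise_iff_exists _ _ _).mp hx
          simp [π]
      have hf : ∀ p, f (Submodule.Quotient.mk p) = π p := fun _ => rfl
      have hbij : Bijective f := by
        refine ⟨(injective_iff_map_eq_zero f).mpr fun q => ?_, fun p => ⟨Submodule.Quotient.mk (σ p), hπσ p⟩⟩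
        obtain ⟨p, rfl⟩ := Submodule.Quotient.mk_surjective _ q
        intro hp
        rw [hf] at hp
        rw [Submodule.Quotient.mk_eq_zero, ← Submodule.ideal_span_singleton_smul, smul_eq_mul,
          Ideal.mul_top]
        have := hσπ p
        rwa [hp, map_zero, sub_zero] at this
      refine ((AddEquiv.ofBijective f hbij).isWeaklyRegular_congr ?_).mpr ih
      rw [List.forall₂_iff_get]
      refine ⟨by simp, fun i h₁ h₂ x => ?_⟩
      obtain ⟨p, rfl⟩ := Submodule.Quotient.mk_surjective _ x
      simp only [List.get_eq_getElem, List.getElem_ofFn, AddEquiv.coe_toEquiv, AddEquiv.ofBijective_apply,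
        ← Submodule.Quotient.mk_smul, hf, smul_eq_mul, map_mul]
      simp [π]

/-- The quotient by all the variables. -/
theorem ofList_X_eq_ker (R : Type u) [CommRing R] (r : ℕ) :
    Ideal.ofList (List.ofFn (X : Fin r → MvPolynomial (Fin r) R)) =
      RingHom.ker (MvPolynomial.aeval (R := R) (0 : Fin r → R)).toRingHom := by
  refine le_antisymm ?_ fun p hp => ?_
  · rw [Ideal.ofList, Ideal.span_le]
    rintro q hq
    obtain ⟨i, rfl⟩ := List.mem_ofFn.mp hq
    simp [RingHom.mem_ker]
  · have : ∀ q : MvPolynomial (Fin r) R,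
        q - C (MvPolynomial.aeval (0 : Fin r → R) q) ∈
          Ideal.ofList (List.ofFn (X : Fin r → MvPolynomial (Fin r) R)) := fun q => by
      induction q using MvPolynomial.induction_on with
      | C a => simp
      | add a b ha hb =>
        rw [map_add, C_add, add_sub_add_comm]
        exact add_mem ha hb
      | mul_X a i ha =>
        simp only [map_mul, aeval_X, Pi.zero_apply, mul_zero, map_zero, sub_zero]
        exact Ideal.mul_mem_left _ _ (Ideal.subset_span (List.mem_ofFn.mpr ⟨i, rfl⟩))
    have h := this p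
    rw [show MvPolynomial.aeval (0 : Fin r → R) p = 0 from hp, map_zero, sub_zero] at h
    exact h

/-- A fibrewise regular sequence makes a flat algebra flat over the polynomial ring. -/
theorem flat_aeval_of_fibre_regular {R S : Type u} [CommRing R] [CommRing S] [IsLocalRing R]
    [IsLocalRing S] [Algebra R S] [IsLocalHom (algebraMap R S)]
    (hS : CAlgX.IsEssFinitePresentation R S) [Module.Flat R S] {r : ℕ} (a : Fin r → S)
    (hreg : IsRegular (S ⧸ (maximalIdeal R).map (algebraMap R S))
      ((List.ofFn a).map (Ideal.Quotient.mk ((maximalIdeal R).map (algebraMap R S))))) :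
    (MvPolynomial.aeval (R := R) a).toRingHom.Flat := by
  let mS := (maximalIdeal R).map (algebraMap R S)
  let α : (MvPolynomial (Fin r) R) →ₐ[R] S := MvPolynomial.aeval a
  letI : Algebra (MvPolynomial (Fin r) R) S := α.toRingHom.toAlgebra
  haveI : IsScalarTower R (MvPolynomial (Fin r) R) S := IsScalarTower.of_algebraMap_eq fun x => (α.commutes x).symm
  show Module.Flat (MvPolynomial (Fin r) R) S
  haveI : Nontrivial (S ⧸ mS) := Ideal.Quotient.nontrivial_iff.mpr
    (ne_top_of_le_ne_top (maximalIdeal.isMaximal S).ne_top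
      GrothLib.Flatness.map_maximalIdeal_le)
  haveI : IsLocalRing (S ⧸ mS) := .of_surjective' (Ideal.Quotient.mk mS) Ideal.Quotient.mk_surjective
  let m := (maximalIdeal R).map (algebraMap R (MvPolynomial (Fin r) R))
  have hm : m = (maximalIdeal R).map (algebraMap R (MvPolynomial (Fin r) R)) := rfl
  have hmS : m.map (algebraMap (MvPolynomial (Fin r) R) S) = mS := by
    rw [hm, Ideal.map_map, ← IsScalarTower.algebraMap_eq]
  -- the fibre ring
  let e : (MvPolynomial (Fin r) R) ⧸ m ≃+* (MvPolynomial (Fin r) (ResidueField R)) := (MvPolynomial.quotientEquivQuotientMvPolynomial (σ := Fin r) (maximalIdeal R)).toRingEquiv.symm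
  let ι : (ResidueField R) →+* S ⧸ mS := Ideal.quotientMap mS (algebraMap R S) Ideal.le_comap_map
  let ψ : (MvPolynomial (Fin r) (ResidueField R)) →+* S ⧸ mS := MvPolynomial.eval₂Hom ι fun i => Ideal.Quotient.mk mS (a i)
  have hψ : ∀ p : (MvPolynomial (Fin r) R), ψ (MvPolynomial.map (residue R) p) = Ideal.Quotient.mk mS (α p) := fun p => by
    have : ψ.comp (MvPolynomial.map (residue R)) = (Ideal.Quotient.mk mS).comp α.toRingHom := by
      refine MvPolynomial.ringHom_ext (fun x => ?_) fun i => ?_
      · rw [RingHom.comp_apply, RingHom.comp_apply, MvPolynomial.map_C, MvPolynomial.eval₂Hom_C]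
        exact congrArg _ (α.commutes x).symm
      · simp [ψ, α]
    exact DFunLike.congr_fun this p
  obtain ⟨k, φ, hφ⟩ := exists_generators hS
  haveI : IsNoetherianRing (S ⧸ mS) := by
    refine isNoetherianRing_of_fractions (B := MvPolynomial (Fin k) (ResidueField R))
      (MvPolynomial.eval₂Hom ι fun i => Ideal.Quotient.mk mS (φ (X i))) fun y => ?_
    obtain ⟨s, rfl⟩ := Ideal.Quotient.mk_surjective y
    obtain ⟨b, t, ht, e'⟩ := hφ s
    have hc : ∀ q, MvPolynomial.eval₂Hom ι (fun i => Ideal.Quotient.mk mS (φ (X i)))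
        (MvPolynomial.map (residue R) q) = Ideal.Quotient.mk mS (φ q) := fun q => by
      have : (MvPolynomial.eval₂Hom ι fun i => Ideal.Quotient.mk mS (φ (X i))).comp
          (MvPolynomial.map (residue R)) = (Ideal.Quotient.mk mS).comp φ.toRingHom := by
        refine MvPolynomial.ringHom_ext (fun x => ?_) fun i => ?_
        · rw [RingHom.comp_apply, RingHom.comp_apply, MvPolynomial.map_C, MvPolynomial.eval₂Hom_C]
          exact congrArg _ (φ.commutes x).symm
        · simp
      exact DFunLike.congr_fun this q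
    refine ⟨MvPolynomial.map (residue R) b, MvPolynomial.map (residue R) t, ?_, ?_⟩
    · rw [hc]; exact ht.map _
    · rw [hc, hc, ← map_mul, e']
  have hψflat : ψ.Flat := by
    letI : Algebra (MvPolynomial (Fin r) (ResidueField R)) (S ⧸ mS) := ψ.toAlgebra
    show Module.Flat (MvPolynomial (Fin r) (ResidueField R)) (S ⧸ mS)
    have hmap : (List.ofFn (X : Fin r → (MvPolynomial (Fin r) (ResidueField R)))).map (algebraMap (MvPolynomial (Fin r) (ResidueField R)) (S ⧸ mS)) =
        (List.ofFn a).map (Ideal.Quotient.mk mS) := by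
      rw [List.map_ofFn, List.map_ofFn]
      exact congrArg _ (funext fun i => by simp [RingHom.algebraMap_toAlgebra, ψ])
    refine flat_of_weaklyRegular (List.ofFn X) (isWeaklyRegular_X (ResidueField R) r) ?_ ?_ ?_
    · rw [← isWeaklyRegular_map_algebraMap_iff (S ⧸ mS) (S ⧸ mS), hmap]
      exact hreg.toIsWeaklyRegular
    · intro t ht
      refine le_maximalIdeal (fun he => hreg.top_ne_smul ?_) (Ideal.subset_span
        (hmap ▸ List.mem_map_of_mem (f := algebraMap (MvPolynomial (Fin r) (ResidueField R)) (S ⧸ mS)) ht :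
          algebraMap (MvPolynomial (Fin r) (ResidueField R)) (S ⧸ mS) t ∈ {x | x ∈ (List.ofFn a).map (Ideal.Quotient.mk mS)}))
      rw [show Ideal.ofList ((List.ofFn a).map (Ideal.Quotient.mk mS)) = ⊤ from he, Submodule.top_smul]
    · rw [ofList_X_eq_ker]
      exact MulEquiv.isField (Field.toIsField (ResidueField R)) (RingHom.quotientKerEquivOfSurjective
        (f := (MvPolynomial.aeval (R := (ResidueField R)) (0 : Fin r → (ResidueField R))).toRingHom) fun c => ⟨C c, by simp⟩).toMulEquiv
  haveI : Module.FinitePresentation S S := inferInstance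
  refine flat_of_fibre_localized (R := R) (S := (MvPolynomial (Fin r) R)) (S' := S) (M := S) hS (AlgHom.id R (MvPolynomial (Fin r) R))
    (fun s => ⟨s, 1, by simp, by simp⟩) ?_
  letI : Algebra ((MvPolynomial (Fin r) R) ⧸ m) (S ⧸ mS) := (ψ.comp e.toRingHom).toAlgebra
  haveI : Module.Flat ((MvPolynomial (Fin r) R) ⧸ m) (S ⧸ mS) := RingHom.Flat.comp (RingHom.Flat.of_bijective e.bijective) hψflat
  have he : ∀ p : (MvPolynomial (Fin r) R), e (Ideal.Quotient.mk m p) = MvPolynomial.map (residue R) p := fun p => by
    have : ((e : _ →+* MvPolynomial (Fin r) (ResidueField R))).comp (Ideal.Quotient.mk m) =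
        MvPolynomial.map (residue R) :=
      MvPolynomial.ringHom_ext
        (fun x => by
          show MvPolynomial.eval₂Hom ((C : _ →+* MvPolynomial (Fin r) (R ⧸ maximalIdeal R)).comp (Ideal.Quotient.mk _)) X (C x) = _
          erw [MvPolynomial.map_C, MvPolynomial.eval₂Hom_C]; rfl)
        (fun i => by
          show MvPolynomial.eval₂Hom ((C : _ →+* MvPolynomial (Fin r) (R ⧸ maximalIdeal R)).comp (Ideal.Quotient.mk _)) X (X i) = _
          erw [MvPolynomial.map_X, MvPolynomial.eval₂Hom_X']; rfl)
    exact DFunLike.congr_fun this p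
  haveI : IsScalarTower (MvPolynomial (Fin r) R) (MvPolynomial (Fin r) R ⧸ m) (S ⧸ mS) :=
    ⟨fun p c y => by
      obtain ⟨c, rfl⟩ := Ideal.Quotient.mk_surjective c
      obtain ⟨y, rfl⟩ := Ideal.Quotient.mk_surjective y
      show ψ (e (Ideal.Quotient.mk m (p * c))) * Ideal.Quotient.mk mS y =
        p • (ψ (e (Ideal.Quotient.mk m c)) * Ideal.Quotient.mk mS y)
      rw [he, he, hψ, hψ, ← map_mul, ← map_mul]
      show _ = Ideal.Quotient.mk mS (α p * (α c * y))
      rw [map_mul α, mul_assoc]⟩
  exact Module.Flat.of_linearEquiv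
    (LinearEquiv.extendScalarsOfSurjective Ideal.Quotient.mk_surjective
      (Submodule.quotEquivOfEq _ (mS.restrictScalars (MvPolynomial (Fin r) R))
          ((Ideal.smul_top_eq_map m).trans (congrArg _ hmS)) ≪≫ₗ
        Submodule.Quotient.restrictScalarsEquiv (MvPolynomial (Fin r) R) mS) :
      (S ⧸ m • (⊤ : Submodule (MvPolynomial (Fin r) R) S)) ≃ₗ[(MvPolynomial (Fin r) R) ⧸ m] S ⧸ mS)

/-- Flatness at a prime spreads to a basic neighbourhood. -/
theorem exists_flat_away {P A : Type u} [CommRing P] [CommRing A] [Algebra P A]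
    [Algebra.FinitePresentation P A] (q : Ideal A) [q.IsPrime]
    (h : Module.Flat P (LocalizedModule q.primeCompl A)) :
    ∃ g ∉ q, Module.Flat P (Localization.Away g) := by
  have hopen := isOpen_flat_locus (R := P) (A := A) (M := A)
  obtain ⟨_, ⟨g, rfl⟩, hg, hsub⟩ := PrimeSpectrum.isTopologicalBasis_basic_opens.exists_subset_of_mem_open
    (a := ⟨q, inferInstance⟩) h hopen
  refine ⟨g, hg, ?_⟩
  refine Module.flat_of_isLocalized_maximal (Localization.Away g) (Localization.Away g)
    (fun Q _ => Localization.AtPrime Q) (fun Q _ => Algebra.linearMap _ _) fun Q _ => ?_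
  let q' : Ideal A := Q.comap (algebraMap A (Localization.Away g))
  have hgQ : g ∉ q' := fun hmem => Ideal.IsPrime.ne_top' (I := Q)
    (Ideal.eq_top_of_isUnit_mem _ hmem (IsLocalization.Away.algebraMap_isUnit g))
  have hq' : Module.Flat P (LocalizedModule q'.primeCompl A) := @hsub ⟨q', inferInstance⟩ hgQ
  haveI : IsLocalization.AtPrime (Localization.AtPrime Q) q' :=
    IsLocalization.isLocalization_isLocalization_atPrime_isLocalization (Submonoid.powers g) _ Q
  let e := IsLocalization.algEquiv q'.primeCompl (Localization.AtPrime Q) (Localization.AtPrime q')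
  exact Module.Flat.of_linearEquiv (e.toLinearEquiv.restrictScalars P)

end GrothLib.FibreFlat
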