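import Groth.Agent.Lib.FibreFlat.LocCriterion
import Mathlib.RingTheory.TensorProduct.MvPolynomial
import Mathlib.RingTheory.TensorProduct.DirectLimitFG
import Mathlib.RingTheory.Polynomial.Basic
import Mathlib.RingTheory.Flat.EquationalCriterion

/-!
# Flatness of a finitely presented module descends to a noetherian stage (EGA IV 11.2.6)
-/

universe u

namespace GrothLib.FibreFlat

open TensorProduct Function IsLocalRing MvPolynomial GrothLib.FlatStage
open Algebra (IsPushout)

attribute [local instance] MvPolynomial.algebraMvPolynomial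

variable {R₀ : Type u} [CommRing R₀] {m : ℕ} (M₀ : Type u) [AddCommGroup M₀]
  [Module (MvPolynomial (Fin m) R₀) M₀] [Module R₀ M₀]
  [IsScalarTower R₀ (MvPolynomial (Fin m) R₀) M₀]

section Functorial

variable {T T' : Type u} [CommRing T] [CommRing T'] [Algebra R₀ T] [Algebra R₀ T']

/-- The map on polynomial rings, linear over the polynomial ring of the ground ring. -/
noncomputable def polyMap (ψ : T →ₐ[R₀] T') :
    MvPolynomial (Fin m) T →ₗ[MvPolynomial (Fin m) R₀] MvPolynomial (Fin m) T' where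
  toFun := MvPolynomial.map ψ.toRingHom
  map_add' := map_add _
  map_smul' a p := by
    simp only [Algebra.smul_def, map_mul, RingHom.id_apply]
    congr 1
    show MvPolynomial.map ψ.toRingHom (MvPolynomial.map (algebraMap R₀ T) a) =
      MvPolynomial.map (algebraMap R₀ T') a
    rw [MvPolynomial.map_map]
    exact congrArg (fun k => MvPolynomial.map k a) ψ.comp_algebraMap

/-- The map on base changes of `M₀`. -/
noncomputable def modMap (ψ : T →ₐ[R₀] T') :
    MvPolynomial (Fin m) T ⊗[MvPolynomial (Fin m) R₀] M₀ →ₗ[MvPolynomial (Fin m) R₀]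
      MvPolynomial (Fin m) T' ⊗[MvPolynomial (Fin m) R₀] M₀ :=
  (polyMap ψ).rTensor M₀

theorem modMap_smul (ψ : T →ₐ[R₀] T') (p : MvPolynomial (Fin m) T)
    (x : MvPolynomial (Fin m) T ⊗[MvPolynomial (Fin m) R₀] M₀) :
    modMap M₀ ψ (p • x) = MvPolynomial.map ψ.toRingHom p • modMap M₀ ψ x := by
  induction x using TensorProduct.induction_on with
  | zero => simp
  | add a b ha hb => simp only [smul_add, map_add, ha, hb]
  | tmul q n =>
    simp only [smul_tmul', smul_eq_mul, modMap, LinearMap.rTensor_tmul]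
    congr 1
    exact map_mul (MvPolynomial.map ψ.toRingHom) p q

theorem modMap_smul_C (ψ : T →ₐ[R₀] T') (t : T)
    (x : MvPolynomial (Fin m) T ⊗[MvPolynomial (Fin m) R₀] M₀) :
    modMap M₀ ψ (t • x) = ψ t • modMap M₀ ψ x := by
  rw [← algebraMap_smul (MvPolynomial (Fin m) T) t x, modMap_smul,
    ← algebraMap_smul (MvPolynomial (Fin m) T') (ψ t) (modMap M₀ ψ x)]
  simp [MvPolynomial.algebraMap_eq]

theorem modMap_one_tmul (ψ : T →ₐ[R₀] T') (n : M₀) :
    modMap M₀ ψ ((1 : MvPolynomial (Fin m) T) ⊗ₜ n) = 1 ⊗ₜ n := by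
  simp only [modMap, LinearMap.rTensor_tmul]
  congr 1
  exact map_one (MvPolynomial.map ψ.toRingHom)

variable (T) in
/-- `T[z] ⊗ M₀ ≅ T ⊗ M₀`. -/
noncomputable def cancel :
    MvPolynomial (Fin m) T ⊗[MvPolynomial (Fin m) R₀] M₀ ≃ₗ[T] T ⊗[R₀] M₀ :=
  IsPushout.cancelBaseChange R₀ T (MvPolynomial (Fin m) R₀) (MvPolynomial (Fin m) T) M₀

theorem cancel_modMap (ψ : T →ₐ[R₀] T')
    (x : MvPolynomial (Fin m) T ⊗[MvPolynomial (Fin m) R₀] M₀) :
    cancel M₀ T' (modMap M₀ ψ x) = ψ.toLinearMap.rTensor M₀ (cancel M₀ T x) := by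
  obtain ⟨y, rfl⟩ := (cancel M₀ T).symm.surjective x
  rw [LinearEquiv.apply_symm_apply]
  induction y using TensorProduct.induction_on with
  | zero => simp
  | add a b ha hb => simp only [map_add, ha, hb]
  | tmul s n =>
    apply (cancel (m := m) M₀ T').symm.injective
    rw [LinearEquiv.symm_apply_apply]
    simp only [cancel, IsPushout.cancelBaseChange_symm_tmul, modMap, LinearMap.rTensor_tmul,
      AlgHom.toLinearMap_apply]
    congr 1
    exact MvPolynomial.map_C _ s

end Functorial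

variable {R : Type u} [CommRing R] [Algebra R₀ R]

/-- Finitely many elements of `R ⊗ M₀` come from a finitely generated subalgebra. -/
theorem exists_subalgebra_lift {ι : Type*} [Finite ι] (x : ι → R ⊗[R₀] M₀) (T : Set R)
    (hT : T.Finite) :
    ∃ A : Subalgebra R₀ R, A.FG ∧ T ⊆ A ∧ ∀ i, x i ∈ LinearMap.range (A.val.toLinearMap.rTensor M₀) := by
  classical
  haveI := Fintype.ofFinite ι
  choose B hB hx using fun i => TensorProduct.Algebra.exists_of_fg (x i)
  refine ⟨Algebra.adjoin R₀ T ⊔ Finset.univ.sup B,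
    (Subalgebra.fg_def.mpr ⟨T, hT, rfl⟩).sup (Finset.sup_induction Subalgebra.fg_bot
      (fun _ h₁ _ h₂ => h₁.sup h₂) fun i _ => hB i),
    Algebra.subset_adjoin.trans (le_sup_left (a := Algebra.adjoin R₀ T)), fun i => ?_⟩
  have hle : B i ≤ Algebra.adjoin R₀ T ⊔ Finset.univ.sup B :=
    (Finset.le_sup (Finset.mem_univ i)).trans le_sup_right
  obtain ⟨y, hy⟩ := hx i
  refine ⟨(Subalgebra.inclusion hle).toLinearMap.rTensor M₀ y, ?_⟩
  rw [← LinearMap.comp_apply, ← LinearMap.rTensor_comp, ← hy]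
  rfl

/-- Finitely many elements vanishing in `R ⊗ M₀` vanish over a finitely generated subalgebra. -/
theorem exists_subalgebra_zero {ι : Type*} [Finite ι] {A : Subalgebra R₀ R} (hA : A.FG)
    (x : ι → A ⊗[R₀] M₀) (hx : ∀ i, A.val.toLinearMap.rTensor M₀ (x i) = 0) :
    ∃ (B : Subalgebra R₀ R) (hAB : A ≤ B), B.FG ∧
      ∀ i, (Subalgebra.inclusion hAB).toLinearMap.rTensor M₀ (x i) = 0 := by
  classical
  haveI := Fintype.ofFinite ι
  choose B hAB hB hx' using fun i => TensorProduct.Algebra.eq_of_fg_of_subtype_eq hA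
    (t := x i) (t' := 0) ((hx i).trans (map_zero _).symm)
  refine ⟨A ⊔ Finset.univ.sup B, le_sup_left, hA.sup (Finset.sup_induction Subalgebra.fg_bot
    (fun _ h₁ _ h₂ => h₁.sup h₂) fun i _ => hB i), fun i => ?_⟩
  have hle : B i ≤ A ⊔ Finset.univ.sup B := (Finset.le_sup (Finset.mem_univ i)).trans le_sup_right
  have : (Subalgebra.inclusion hle).comp (Subalgebra.inclusion (hAB i)) =
      Subalgebra.inclusion le_sup_left := AlgHom.ext fun a => rfl
  rw [← this, AlgHom.comp_toLinearMap, LinearMap.rTensor_comp_apply, hx' i, map_zero, map_zero]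

/-- A noetherian subring of a local ring lies in a local subring made of its fractions. -/
theorem exists_stage_loc {R : Type u} [CommRing R] [IsLocalRing R] {B : Type u}
    [CommRing B] [IsNoetherianRing B] (ι : B →+* R) (hι : Injective ι) :
    ∃ (S : Type u) (_ : CommRing S) (_ : IsLocalRing S) (_ : IsNoetherianRing S) (g : B →+* S)
      (h : S →+* R), h.comp g = ι ∧ Injective h ∧ IsLocalHom h ∧
      ∀ x, ∃ a t, IsUnit (ι t) ∧ h x * ι t = ι a := by
  let p : Ideal B := (maximalIdeal R).comap ι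
  haveI : p.IsPrime := Ideal.IsPrime.comap _
  haveI : IsNoetherianRing (Localization.AtPrime p) :=
    IsLocalization.isNoetherianRing p.primeCompl _ inferInstance
  have hu : ∀ y : p.primeCompl, IsUnit (ι y) := fun y => by
    by_contra h'
    exact y.2 ((mem_maximalIdeal _).mpr h')
  let h : Localization.AtPrime p →+* R := IsLocalization.lift hu
  have hh : ∀ b : B, h (algebraMap B _ b) = ι b := fun b => IsLocalization.lift_eq hu b
  have hval : ∀ (b : B) (s : p.primeCompl),
      h (IsLocalization.mk' _ b s) * ι s = ι b := fun b s => by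
    rw [← hh (s : B), ← map_mul, IsLocalization.mk'_spec, hh]
  refine ⟨Localization.AtPrime p, inferInstance, inferInstance, inferInstance,
    algebraMap B _, h, RingHom.ext hh, ?_, ?_, fun x => ?_⟩
  · rw [injective_iff_map_eq_zero]
    intro x hx
    obtain ⟨b, s, rfl⟩ := IsLocalization.exists_mk'_eq p.primeCompl x
    have hb : b = 0 := hι (by rw [map_zero, ← hval b s, hx, zero_mul])
    rw [hb, IsLocalization.mk'_zero]
  · refine ⟨fun x hx => ?_⟩
    obtain ⟨b, s, rfl⟩ := IsLocalization.exists_mk'_eq p.primeCompl x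
    have hb : b ∈ p.primeCompl := fun hbp =>
      (mem_maximalIdeal _).mp (show ι b ∈ maximalIdeal R from hbp)
        (by rw [← hval b s]; exact hx.mul (hu s))
    exact IsUnit.of_mul_eq_one (IsLocalization.mk' _ (s : B) ⟨b, hb⟩)
      (IsLocalization.mk'_mul_mk'_eq_one' b s hb)
  · obtain ⟨b, s, rfl⟩ := IsLocalization.exists_mk'_eq p.primeCompl x
    exact ⟨b, s, hu s, hval b s⟩

/-- **Flatness at a finite stage**, with the stage made of fractions of a finitely generated
subalgebra. -/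
theorem exists_flat_stage' [IsLocalRing R] [IsLocalRing R₀] [IsNoetherianRing R₀]
    [IsLocalHom (algebraMap R₀ R)] [Module.Finite (MvPolynomial (Fin m) R₀) M₀]
    (P : Ideal (MvPolynomial (Fin m) R)) [P.IsPrime] (hP : P.comap C = maximalIdeal R)
    {L : Type u} [AddCommGroup L] [Module (MvPolynomial (Fin m) R) L] [Module R L]
    [IsScalarTower R (MvPolynomial (Fin m) R) L]
    (ι : MvPolynomial (Fin m) R ⊗[MvPolynomial (Fin m) R₀] M₀ →ₗ[MvPolynomial (Fin m) R] L)
    [IsLocalizedModule P.primeCompl ι] [Module.Flat R L] (T : Set R) (hT : T.Finite) :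
    ∃ (S : Type u) (_ : CommRing S) (_ : IsLocalRing S) (_ : IsNoetherianRing S) (_ : Algebra R₀ S)
      (h : S →ₐ[R₀] R), IsLocalHom h.toRingHom ∧ IsLocalHom (algebraMap R₀ S) ∧ Injective h ∧
      T ⊆ Set.range h ∧
      (∃ B : Subalgebra R₀ R, B.FG ∧ ∀ x, ∃ a ∈ B, ∃ t ∈ B, IsUnit t ∧ h x * t = a) ∧
      ∀ (LS : Type u) [AddCommGroup LS] [Module (MvPolynomial (Fin m) S) LS] [Module S LS]
        [IsScalarTower S (MvPolynomial (Fin m) S) LS]
        [Module (Localization.AtPrime (P.comap (MvPolynomial.map h.toRingHom))) LS]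
        [IsScalarTower (MvPolynomial (Fin m) S)
          (Localization.AtPrime (P.comap (MvPolynomial.map h.toRingHom))) LS]
        (ιS : MvPolynomial (Fin m) S ⊗[MvPolynomial (Fin m) R₀] M₀ →ₗ[MvPolynomial (Fin m) S] LS)
        [IsLocalizedModule (P.comap (MvPolynomial.map h.toRingHom)).primeCompl ιS],
        Module.Flat S LS := by
  classical
  obtain ⟨r, c, hc⟩ := Submodule.fg_iff_exists_fin_generating_family.mp
    (IsNoetherian.noetherian (maximalIdeal R₀))
  have hc' : Ideal.span (Set.range c) = maximalIdeal R₀ := hc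
  let Rel : (Fin r → M₀) →ₗ[MvPolynomial (Fin m) R₀] M₀ := ∑ i, algebraMap R₀ (MvPolynomial (Fin m) R₀) (c i) • LinearMap.proj i
  obtain ⟨G, hG⟩ := IsNoetherian.noetherian (LinearMap.ker Rel)
  have hrel : ∀ b : ↥G, ∑ i, c i • b.1 i = 0 := fun b => by
    have hb : b.1 ∈ LinearMap.ker Rel := hG ▸ Submodule.subset_span b.2
    have h := LinearMap.mem_ker.mp hb
    simp [Rel] at h
    exact (Finset.sum_congr rfl fun i _ =>
      (algebraMap_smul (MvPolynomial (Fin m) R₀) (c i) (b.1 i)).symm).trans h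
  -- trivialise the relations over `R`
  let MR := MvPolynomial (Fin m) R ⊗[MvPolynomial (Fin m) R₀] M₀
  have htriv : ∀ b : ↥G, ∃ (k : ℕ) (a : Fin r → Fin k → R) (u : MvPolynomial (Fin m) R)
      (z : Fin k → MR), u ∉ P ∧ (∀ j, ∑ i, algebraMap R₀ R (c i) * a i j = 0) ∧
      ∀ i, u • ((1 : MvPolynomial (Fin m) R) ⊗ₜ[MvPolynomial (Fin m) R₀] b.1 i) = ∑ j, a i j • z j := by
    intro b
    have h0 : ∑ i, algebraMap R₀ R (c i) • ι ((1 : MvPolynomial (Fin m) R) ⊗ₜ[MvPolynomial (Fin m) R₀] b.1 i) = 0 := by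
      simp only [← LinearMap.map_smul_of_tower, ← map_sum]
      rw [← map_zero ι]
      congr 1
      rw [← tmul_zero M₀ (1 : MvPolynomial (Fin m) R), ← hrel b, tmul_sum]
      refine Finset.sum_congr rfl fun i _ => ?_
      rw [← algebraMap_smul (MvPolynomial (Fin m) R₀) (c i) (b.1 i), tmul_smul, smul_tmul',
        smul_tmul']
      congr 1
      simp only [Algebra.smul_def, mul_one]
      exact (MvPolynomial.map_C (algebraMap R₀ R) (c i)).symm
    obtain ⟨k, a, y, hy, ha⟩ := Module.Flat.isTrivialRelation_of_sum_smul_eq_zero h0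
    choose t ht using fun j => IsLocalizedModule.surj P.primeCompl ι (y j)
    let v : P.primeCompl := ∏ j, (t j).2
    let z : Fin k → MR := fun j => (∏ l ∈ Finset.univ.erase j, (t l).2 : P.primeCompl) • (t j).1
    have hz : ∀ j, ι (z j) = v • y j := fun j => by
      simp only [z, LinearMap.map_smul_of_tower, ← ht j, smul_smul]
      congr 1
      exact Finset.prod_erase_mul _ _ (Finset.mem_univ j)
    have heq : ∀ i, ∃ w : P.primeCompl,
        w • (v • ((1 : MvPolynomial (Fin m) R) ⊗ₜ[MvPolynomial (Fin m) R₀] b.1 i)) = w • ∑ j, a i j • z j := by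
      intro i
      apply (IsLocalizedModule.eq_iff_exists P.primeCompl ι).mp
      rw [LinearMap.map_smul_of_tower, show ι (1 ⊗ₜ b.1 i) = ∑ j, a i j • y j from hy i, map_sum,
        Finset.smul_sum]
      exact Finset.sum_congr rfl fun j _ => by rw [LinearMap.map_smul_of_tower, hz, smul_comm]
    choose w hw using heq
    let W : P.primeCompl := ∏ i, w i
    refine ⟨k, a, (W : MvPolynomial (Fin m) R) * v, fun j => (W : MvPolynomial (Fin m) R) • z j,
      (W * v).2, ha, fun i => ?_⟩
    obtain ⟨e, he⟩ := Finset.dvd_prod_of_mem w (Finset.mem_univ i)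
    have := congrArg (fun x => (e : MvPolynomial (Fin m) R) • x) (hw i)
    simp only [Submonoid.smul_def, smul_smul, mul_comm _ (w i : MvPolynomial (Fin m) R)] at this
    rw [show (W : MvPolynomial (Fin m) R) = (w i : MvPolynomial (Fin m) R) * e from
      congrArg Subtype.val he]
    simp only [Finset.smul_sum, smul_smul] at this ⊢
    rw [show (w i : MvPolynomial (Fin m) R) * e * v = e * (w i * v) by ring, this]
    refine Finset.sum_congr rfl fun j _ => ?_
    exact smul_comm _ _ _
  choose k a u z hu ha hz using htriv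
  -- a finitely generated subalgebra containing everything
  let T₀ : Set R := T ∪ ((⋃ b : ↥G, ↑(u b).coeffs) ∪
    ⋃ (b : ↥G) (i : Fin r) (j : Fin (k b)), ({a b i j} : Set R))
  obtain ⟨A, hA, hTA, hzA⟩ := exists_subalgebra_lift M₀
    (fun x : Σ b : ↥G, Fin (k b) => cancel (m := m) M₀ R (z x.1 x.2)) T₀
    (hT.union (.union (Set.finite_iUnion fun b => Finset.finite_toSet _)
      (Set.finite_iUnion fun b => Set.finite_iUnion fun i => Set.finite_iUnion fun j =>
        Set.finite_singleton _)))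
  choose ζ' hζ' using fun b j => hzA ⟨b, j⟩
  let ζ := fun b j => (cancel (m := m) M₀ A).symm (ζ' b j)
  have hζ : ∀ b j, modMap M₀ A.val (ζ b j) = z b j := fun b j => by
    apply (cancel (m := m) M₀ R).injective
    rw [cancel_modMap, LinearEquiv.apply_symm_apply]
    exact hζ' b j
  choose uA huA using fun b => exists_map_eq A.val.toRingHom (p := u b) fun x hx =>
    ⟨⟨x, hTA (Or.inr (Or.inl (Set.mem_iUnion_of_mem b hx)))⟩, rfl⟩
  let aA : ∀ b : ↥G, Fin r → Fin (k b) → A := fun b i j =>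
    ⟨a b i j, hTA (Or.inr (Or.inr (Set.mem_iUnion_of_mem b
      (Set.mem_iUnion_of_mem i (Set.mem_iUnion_of_mem j rfl)))))⟩
  let w : (↥G × Fin r) → MvPolynomial (Fin m) A ⊗[MvPolynomial (Fin m) R₀] M₀ := fun x =>
    uA x.1 • ((1 : MvPolynomial (Fin m) A) ⊗ₜ[MvPolynomial (Fin m) R₀] x.1.1 x.2) - ∑ j, aA x.1 x.2 j • ζ x.1 j
  obtain ⟨B, hAB, hB, hw⟩ := exists_subalgebra_zero M₀ hA (fun x => cancel (m := m) M₀ A (w x)) fun x => by
    rw [← cancel_modMap, map_sub, modMap_smul, huA, modMap_one_tmul, map_sum, hz, ← map_zero (cancel (m := m) M₀ R),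
      ← sub_self (∑ j, a x.1 x.2 j • z x.1 j)]
    congr 2
    exact Finset.sum_congr rfl fun j _ => by rw [modMap_smul_C, hζ]; rfl
  -- the stage
  haveI : IsNoetherianRing B := isNoetherianRing_of_fg hB
  obtain ⟨S, _, _, _, g, hS, hg, hinj, hloc, hfrac⟩ :=
    exists_stage_loc B.val.toRingHom Subtype.val_injective
  letI : Algebra R₀ S := (g.comp (algebraMap R₀ B)).toAlgebra
  let h : S →ₐ[R₀] R := { hS with commutes' := fun x => RingHom.congr_fun hg (algebraMap R₀ B x) }
  let ψ : A →ₐ[R₀] S :=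
    { g.comp (Subalgebra.inclusion hAB).toRingHom with commutes' := fun x => rfl }
  have hψ : ∀ x, hS (ψ x) = x := fun x => RingHom.congr_fun hg (Subalgebra.inclusion hAB x)
  haveI hlS : IsLocalHom (algebraMap R₀ S) := by
    refine ⟨fun x hx => isUnit_of_map_unit (algebraMap R₀ R) x ?_⟩
    rw [← h.commutes x]
    exact hx.map h
  refine ⟨S, inferInstance, inferInstance, inferInstance, inferInstance, h, hloc, hlS, hinj,
    fun x hx => ⟨ψ ⟨x, hTA (Or.inl hx)⟩, hψ _⟩, ⟨B, hB, fun x => ?_⟩, ?_⟩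
  · obtain ⟨a, t, ht, hat⟩ := hfrac x
    exact ⟨a, a.2, t, t.2, ht, hat⟩
  intro LS _ _ _ _ _ _ ιS _
  set Q := P.comap (MvPolynomial.map h.toRingHom) with hQdef
  refine flat_of_trivRel M₀ (maximalIdeal R₀) hc' Q ?_ ?_ ιS
  · rw [hQdef, ← Ideal.map_le_iff_le_comap, Ideal.map_map, Ideal.map_le_iff_le_comap]
    intro x hx
    show MvPolynomial.map h.toRingHom (algebraMap R₀ (MvPolynomial (Fin m) S) x) ∈ P
    rw [IsScalarTower.algebraMap_apply R₀ S (MvPolynomial (Fin m) S), MvPolynomial.algebraMap_eq,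
      map_C]
    show h (algebraMap R₀ S x) ∈ P.comap C
    rw [hP, h.commutes]
    exact map_nonunit _ x hx
  · intro b hb
    suffices H : ∀ b ∈ Submodule.span (MvPolynomial (Fin m) R₀) (G : Set (Fin r → M₀)), ∃ v ∉ Q,
        (fun i => v • ((1 : MvPolynomial (Fin m) S) ⊗ₜ[MvPolynomial (Fin m) R₀] b i)) ∈
          trivRel (MvPolynomial (Fin m) S ⊗[MvPolynomial (Fin m) R₀] M₀) (fun i => algebraMap R₀ S (c i)) by
      refine H b ?_
      rw [hG]
      rw [LinearMap.mem_ker, ← hb]
      simp [Rel]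
      exact Finset.sum_congr rfl fun i _ => algebraMap_smul (MvPolynomial (Fin m) R₀) (c i) (b i)
    intro b hb
    induction hb using Submodule.span_induction with
    | mem b hb =>
      refine ⟨MvPolynomial.map ψ.toRingHom (uA ⟨b, hb⟩), fun hmem => hu ⟨b, hb⟩ ?_, ?_⟩
      · have := Ideal.mem_comap.mp hmem
        rwa [MvPolynomial.map_map,
          show h.toRingHom.comp ψ.toRingHom = A.val.toRingHom from RingHom.ext hψ, huA] at this
      have heq : ∀ i, MvPolynomial.map ψ.toRingHom (uA ⟨b, hb⟩) •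
          ((1 : MvPolynomial (Fin m) S) ⊗ₜ[MvPolynomial (Fin m) R₀] b i) =
            ∑ j, ψ (aA ⟨b, hb⟩ i j) • modMap M₀ ψ (ζ ⟨b, hb⟩ j) := fun i => by
        have h1 : modMap M₀ ψ (w (⟨b, hb⟩, i)) = 0 := by
          apply (cancel (m := m) M₀ S).injective
          let gA : B →ₐ[R₀] S := { g with commutes' := fun x => rfl }
          rw [cancel_modMap, map_zero, show ψ = gA.comp (Subalgebra.inclusion hAB) from rfl,
            AlgHom.comp_toLinearMap, LinearMap.rTensor_comp_apply, hw, map_zero]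
        simp only [w, map_sub, modMap_smul, modMap_one_tmul, map_sum, modMap_smul_C] at h1
        exact sub_eq_zero.mp h1
      simp only [heq]
      rw [show (fun i => ∑ j, ψ (aA ⟨b, hb⟩ i j) • modMap M₀ ψ (ζ ⟨b, hb⟩ j)) =
        ∑ j, fun i => ψ (aA ⟨b, hb⟩ i j) • modMap M₀ ψ (ζ ⟨b, hb⟩ j) by ext i; simp]
      refine Submodule.sum_mem _ fun j _ => mem_trivRel_of _ _ ?_ fun i => rfl
      apply hinj
      simp only [map_sum, map_mul, map_zero, h.commutes]
      rw [← ha ⟨b, hb⟩ j]
      exact Finset.sum_congr rfl fun i _ => by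
        show h (algebraMap R₀ S (c i)) * hS (ψ (aA ⟨b, hb⟩ i j)) = _
        rw [hψ, h.commutes]
    | zero =>
      refine ⟨1, fun h1 => Ideal.IsPrime.ne_top inferInstance ((Ideal.eq_top_iff_one Q).mpr h1), ?_⟩
      convert zero_mem (trivRel (MvPolynomial (Fin m) S ⊗[MvPolynomial (Fin m) R₀] M₀)
        fun i => algebraMap R₀ S (c i)) using 1
      ext i
      simp
    | add x y _ _ hx hy =>
      obtain ⟨v₁, hv₁, hx⟩ := hx
      obtain ⟨v₂, hv₂, hy⟩ := hy
      refine ⟨v₁ * v₂, fun h' => (Ideal.IsPrime.mem_or_mem inferInstance h').elim hv₁ hv₂, ?_⟩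
      convert add_mem
        (map_mem_trivRel ((LinearMap.lsmul (MvPolynomial (Fin m) S) _ v₂).restrictScalars S) hx)
        (map_mem_trivRel ((LinearMap.lsmul (MvPolynomial (Fin m) S) _ v₁).restrictScalars S) hy)
        using 1
      ext i
      simp [tmul_add, smul_add, smul_smul, mul_comm v₁ v₂]
    | smul t x _ hx =>
      obtain ⟨v, hv, hx⟩ := hx
      refine ⟨v, hv, ?_⟩
      convert map_mem_trivRel ((LinearMap.lsmul (MvPolynomial (Fin m) S) _
        (algebraMap (MvPolynomial (Fin m) R₀) (MvPolynomial (Fin m) S) t)).restrictScalars S) hx using 1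
      ext i
      simp only [Pi.smul_apply, LinearMap.coe_restrictScalars, LinearMap.lsmul_apply, tmul_smul,
        algebraMap_smul]
      exact smul_comm _ _ _

/-- **Flatness at a finite stage.** -/
theorem exists_flat_stage [IsLocalRing R] [IsLocalRing R₀] [IsNoetherianRing R₀]
    [IsLocalHom (algebraMap R₀ R)] [Module.Finite (MvPolynomial (Fin m) R₀) M₀]
    (P : Ideal (MvPolynomial (Fin m) R)) [P.IsPrime] (hP : P.comap C = maximalIdeal R)
    {L : Type u} [AddCommGroup L] [Module (MvPolynomial (Fin m) R) L] [Module R L]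
    [IsScalarTower R (MvPolynomial (Fin m) R) L]
    (ι : MvPolynomial (Fin m) R ⊗[MvPolynomial (Fin m) R₀] M₀ →ₗ[MvPolynomial (Fin m) R] L)
    [IsLocalizedModule P.primeCompl ι] [Module.Flat R L] (T : Set R) (hT : T.Finite) :
    ∃ (S : Type u) (_ : CommRing S) (_ : IsLocalRing S) (_ : IsNoetherianRing S) (_ : Algebra R₀ S)
      (h : S →ₐ[R₀] R), IsLocalHom h.toRingHom ∧ IsLocalHom (algebraMap R₀ S) ∧ Injective h ∧
      T ⊆ Set.range h ∧
      ∀ (LS : Type u) [AddCommGroup LS] [Module (MvPolynomial (Fin m) S) LS] [Module S LS]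
        [IsScalarTower S (MvPolynomial (Fin m) S) LS]
        [Module (Localization.AtPrime (P.comap (MvPolynomial.map h.toRingHom))) LS]
        [IsScalarTower (MvPolynomial (Fin m) S)
          (Localization.AtPrime (P.comap (MvPolynomial.map h.toRingHom))) LS]
        (ιS : MvPolynomial (Fin m) S ⊗[MvPolynomial (Fin m) R₀] M₀ →ₗ[MvPolynomial (Fin m) S] LS)
        [IsLocalizedModule (P.comap (MvPolynomial.map h.toRingHom)).primeCompl ιS],
        Module.Flat S LS := by
  obtain ⟨S, i₁, i₂, i₃, i₄, h, h₁, h₂, h₃, h₄, -, h₅⟩ := exists_flat_stage' M₀ P hP ι T hT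
  exact ⟨S, i₁, i₂, i₃, i₄, h, h₁, h₂, h₃, h₄, h₅⟩

end GrothLib.FibreFlat
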