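import Groth.Agent.Lib.FibreFlat.Core
import Groth.Prelude.Def_CAlgX
import Mathlib.LinearAlgebra.TensorProduct.Quotient
import Mathlib.RingTheory.Flat.Stability

/-!
# The fibre criterion for algebras essentially of finite presentation
-/

universe u

namespace GrothLib.FibreFlat

open TensorProduct Function IsLocalRing MvPolynomial GrothLib.Flatness

/-- A finitely presented module over a localization `A'` of `A/𝔞`, `𝔞` finitely generated, is a
localization of a finitely presented `A`-module. -/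
theorem exists_fp_localized {A A' : Type u} [CommRing A] [CommRing A'] [Algebra A A']
    (T : Submonoid A) (hu : ∀ t ∈ T, IsUnit (algebraMap A A' t))
    (hs : ∀ y : A', ∃ a, ∃ t ∈ T, y * algebraMap A A' t = algebraMap A A' a)
    (𝔞 : Ideal A) (h𝔞 : 𝔞.FG) (h0 : ∀ a ∈ 𝔞, algebraMap A A' a = 0)
    (hk : ∀ a, algebraMap A A' a = 0 → ∃ t ∈ T, t * a ∈ 𝔞)
    (M : Type u) [AddCommGroup M] [Module A' M] [Module A M] [IsScalarTower A A' M]
    [Module.FinitePresentation A' M] :
    ∃ (M₁ : Type u) (_ : AddCommGroup M₁) (_ : Module A M₁) (_ : Module.FinitePresentation A M₁)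
      (lM : M₁ →ₗ[A] M), IsLocalizedModule T lM := by
  classical
  obtain ⟨r, K, eM, hK⟩ := Module.FinitePresentation.exists_fin A' M
  obtain ⟨k, v, hv⟩ := Submodule.fg_iff_exists_fin_generating_family.mp hK
  obtain ⟨q, g, hg⟩ := Submodule.fg_iff_exists_fin_generating_family.mp h𝔞
  choose w c hc hw using fun j : Fin k => fun l : Fin r => hs (v j l)
  let w' : Fin k → Fin r → A := fun j l => (∏ i ∈ Finset.univ.erase l, c j i) * w j l
  have hw' : ∀ j l, algebraMap A A' (w' j l) = algebraMap A A' (∏ i, c j i) * v j l := fun j l => by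
    rw [← Finset.prod_erase_mul _ _ (Finset.mem_univ l), map_mul, map_mul, ← hw]
    ring
  have hcu : ∀ j, IsUnit (algebraMap A A' (∏ i, c j i)) := fun j =>
    hu _ (Submonoid.prod_mem T fun i _ => hc j i)
  let N : Submodule A (Fin r → A) := Submodule.span A
    (Set.range w' ∪ Set.range fun x : Fin q × Fin r => g x.1 • Pi.single x.2 (1 : A))
  let ρ : (Fin r → A) →ₗ[A] (Fin r → A') := LinearMap.compLeft (Algebra.linearMap A A') (Fin r)
  let π : (Fin r → A') →ₗ[A] M := (eM.symm.toLinearMap ∘ₗ K.mkQ).restrictScalars A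
  have hπv : ∀ x ∈ K, π x = 0 := fun x hx => by
    show eM.symm (K.mkQ x) = 0
    rw [show K.mkQ x = 0 from (Submodule.Quotient.mk_eq_zero K).mpr hx, map_zero]
  have hN : N ≤ LinearMap.ker (π ∘ₗ ρ) := by
    refine Submodule.span_le.mpr ?_
    rintro x (⟨j, rfl⟩ | ⟨⟨i, l⟩, rfl⟩)
    · refine hπv _ ?_
      have : ρ (w' j) = algebraMap A A' (∏ i, c j i) • v j := funext fun l => hw' j l
      rw [this]
      exact K.smul_mem _ (hv ▸ Submodule.subset_span ⟨j, rfl⟩)
    · rw [SetLike.mem_coe, LinearMap.mem_ker, map_smul, ← algebraMap_smul A' (g i),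
        h0 _ (hg ▸ Submodule.subset_span ⟨i, rfl⟩), zero_smul]
  have hρN : ∀ a : Fin r → A, ρ a = 0 → ∃ t ∈ T, t • a ∈ N := fun a ha => by
    choose t ht hta using fun l => hk (a l) (congrFun ha l)
    refine ⟨∏ l, t l, Submonoid.prod_mem T fun l _ => ht l, ?_⟩
    rw [pi_eq_sum_univ' a, Finset.smul_sum]
    refine Submodule.sum_mem _ fun l _ => ?_
    have hmem : (∏ i, t i) * a l ∈ 𝔞 := by
      rw [← Finset.prod_erase_mul _ _ (Finset.mem_univ l), mul_assoc]
      exact Ideal.mul_mem_left _ _ (hta l)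
    rw [smul_smul]
    rw [← hg] at hmem
    generalize (∏ i, t i) * a l = z at hmem ⊢
    induction hmem using Submodule.span_induction with
    | mem x hx =>
      obtain ⟨i, rfl⟩ := hx
      exact Submodule.subset_span (Or.inr ⟨(i, l), rfl⟩)
    | zero => simp
    | add x y _ _ hx hy => rw [add_smul]; exact add_mem hx hy
    | smul b x _ hx => rw [smul_assoc]; exact N.smul_mem _ hx
  refine ⟨(Fin r → A) ⧸ N, inferInstance, inferInstance, ?_, N.liftQ _ hN, ?_⟩
  · refine Module.finitePresentation_of_surjective _ N.mkQ_surjective ?_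
    rw [Submodule.ker_mkQ]
    exact Submodule.fg_span ((Set.finite_range _).union (Set.finite_range _))
  refine ⟨fun t => ?_, fun y => ?_, fun {a b} hab => ?_⟩
  · rw [Module.End.isUnit_iff]
    obtain ⟨e, he⟩ := hu _ t.2
    constructor
    · intro x y hxy
      simp only [Module.algebraMap_end_apply] at hxy
      rw [← algebraMap_smul A' (t : A) x, ← algebraMap_smul A' (t : A) y, ← he] at hxy
      exact smul_left_cancel e hxy
    · intro x
      refine ⟨e⁻¹ • x, ?_⟩
      simp only [Module.algebraMap_end_apply]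
      rw [← algebraMap_smul A' (t : A), ← he]
      exact smul_inv_smul e x
  · obtain ⟨x, hx⟩ := (eM.symm.surjective.comp K.mkQ_surjective) y
    choose a t ht hat using fun l => hs (x l)
    refine ⟨⟨Submodule.Quotient.mk fun l => (∏ i ∈ Finset.univ.erase l, t i) * a l,
      ⟨∏ i, t i, Submonoid.prod_mem T fun i _ => ht i⟩⟩, ?_⟩
    show (∏ i, t i) • y = π (ρ _)
    rw [← hx]
    show (∏ i, t i) • π x = _
    rw [← map_smul]
    congr 1
    funext l
    show (∏ i, t i) • x l = algebraMap A A' _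
    rw [Algebra.smul_def, ← Finset.prod_erase_mul _ _ (Finset.mem_univ l), map_mul, map_mul, ← hat]
    ring
  · obtain ⟨x, hx⟩ := Submodule.Quotient.mk_surjective N (a - b)
    have h1 : π (ρ x) = 0 := by
      have : N.liftQ _ hN (a - b) = 0 := by rw [map_sub, hab, sub_self]
      rwa [← hx] at this
    have h2 : ρ x ∈ K := (Submodule.Quotient.mk_eq_zero K).mp
      (eM.symm.injective (h1.trans (map_zero _).symm))
    rw [← hv, Submodule.mem_span_range_iff_exists_fun] at h2
    obtain ⟨y, hy⟩ := h2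
    choose b' t ht hbt using fun j => hs (y j * ((hcu j).unit⁻¹ : A'ˣ))
    let U := ∏ j, t j
    have h3 : ρ (U • x - ∑ j, ((∏ i ∈ Finset.univ.erase j, t i) * b' j) • w' j) = 0 := by
      rw [map_sub, map_sum, map_smul, ← hy, Finset.smul_sum, ← Finset.sum_sub_distrib]
      refine Finset.sum_eq_zero fun j _ => ?_
      rw [sub_eq_zero]
      funext l
      simp only [Pi.smul_apply, map_smul]
      show U • (y j * v j l) = _ • algebraMap A A' (w' j l)
      rw [hw', Algebra.smul_def, Algebra.smul_def, map_mul _ _ (b' j), ← hbt,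
        show U = (∏ i ∈ Finset.univ.erase j, t i) * t j from
          (Finset.prod_erase_mul _ _ (Finset.mem_univ j)).symm, map_mul]
      calc _ = algebraMap A A' (∏ i ∈ Finset.univ.erase j, t i) * algebraMap A A' (t j) * y j * v j l
              * (((hcu j).unit⁻¹ : A'ˣ) * algebraMap A A' (∏ i, c j i)) := by
            rw [IsUnit.val_inv_mul]; ring
        _ = _ := by ring
    obtain ⟨t', ht', h4⟩ := hρN _ h3
    refine ⟨⟨t' * U, T.mul_mem ht' (Submonoid.prod_mem T fun i _ => ht i)⟩, ?_⟩
    rw [← sub_eq_zero, Submonoid.smul_def, Submonoid.smul_def, ← smul_sub, ← hx,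
      ← Submodule.Quotient.mk_smul, Submodule.Quotient.mk_eq_zero, mul_smul]
    rw [smul_sub, N.sub_mem_iff_left] at h4
    · exact h4
    · exact N.smul_mem _ (Submodule.sum_mem _ fun j _ =>
        N.smul_mem _ (Submodule.subset_span (Or.inl ⟨j, rfl⟩)))

variable {R : Type u} [CommRing R] {n : ℕ}

/-- A local algebra essentially of finite presentation, receiving a polynomial algebra, is a
localization at a prime of a finitely presented quotient of a larger polynomial algebra. -/
theorem exists_presentation {S' : Type u} [CommRing S'] [Algebra R S'] [IsLocalRing S']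
    (hS' : CAlgX.IsEssFinitePresentation R S') (φ : MvPolynomial (Fin n) R →ₐ[R] S') :
    ∃ (m : ℕ) (e : Fin n → Fin m) (ψ : MvPolynomial (Fin m) R →ₐ[R] S')
      (𝔞 : Ideal (MvPolynomial (Fin m) R)), ψ.comp (rename e) = φ ∧ 𝔞.FG ∧
      (∀ y : S', ∃ a, ∃ t ∈ ((maximalIdeal S').comap ψ).primeCompl, y * ψ t = ψ a) ∧
      (∀ a ∈ 𝔞, ψ a = 0) ∧
      ∀ a, ψ a = 0 → ∃ t ∈ ((maximalIdeal S').comap ψ).primeCompl, t * a ∈ 𝔞 := by
  classical
  obtain ⟨S₀, _, _, _, _, Mm, hfp, _⟩ := hS'
  obtain ⟨p, π, hπ, hker⟩ := hfp.out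
  choose q hq using fun i => IsLocalization.surj Mm (φ (X i))
  choose a' ha' using fun i => hπ (q i).1
  choose s' hs' using fun i => hπ ((q i).2 : S₀)
  let ψ : MvPolynomial (Fin (p + n)) R →ₐ[R] S' :=
    aeval (Fin.append (fun l => algebraMap S₀ S' (π (X l))) fun i => φ (X i))
  let ez : MvPolynomial (Fin p) R →ₐ[R] MvPolynomial (Fin (p + n)) R := rename (Fin.castAdd n)
  have hez : ∀ a, ψ (ez a) = algebraMap S₀ S' (π a) := fun a => by
    suffices h : ψ.comp ez = (IsScalarTower.toAlgHom R S₀ S').comp π from DFunLike.congr_fun h a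
    ext l
    simp [ψ, ez]
  have hunit : ∀ a, π a ∈ Mm → ez a ∈ ((maximalIdeal S').comap ψ).primeCompl := fun a ha hmem => by
    refine (mem_maximalIdeal _).mp (Ideal.mem_comap.mp hmem) ?_
    rw [hez]
    exact IsLocalization.map_units S' (⟨π a, ha⟩ : Mm)
  obtain ⟨k, g, hg⟩ := Submodule.fg_iff_exists_fin_generating_family.mp hker
  let G : Fin n → MvPolynomial (Fin (p + n)) R := fun i =>
    X (Fin.natAdd p i) * ez (s' i) - ez (a' i)
  let 𝔞 : Ideal (MvPolynomial (Fin (p + n)) R) :=
    Ideal.span (Set.range (ez ∘ g) ∪ Set.range G)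
  have hG : ∀ i, G i ∈ 𝔞 := fun i => Ideal.subset_span (Or.inr ⟨i, rfl⟩)
  -- clearing denominators
  have hred : ∀ x, ∃ t, π t ∈ Mm ∧ ∃ b, ez t * x - ez b ∈ 𝔞 := fun x => by
    induction x using MvPolynomial.induction_on with
    | C r => exact ⟨1, by simp, C r, by simp [ez]⟩
    | add x y hx hy =>
      obtain ⟨t, ht, b, hb⟩ := hx
      obtain ⟨t', ht', b', hb'⟩ := hy
      refine ⟨t * t', by rw [map_mul]; exact Mm.mul_mem ht ht', b * t' + t * b', ?_⟩
      convert add_mem (𝔞.mul_mem_left (ez t') hb) (𝔞.mul_mem_left (ez t) hb') using 1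
      simp only [map_mul, map_add]
      ring
    | mul_X x i hx =>
      obtain ⟨t, ht, b, hb⟩ := hx
      refine Fin.addCases (fun l => ?_) (fun l => ?_) i
      · refine ⟨t, ht, b * X l, ?_⟩
        convert 𝔞.mul_mem_right (X (Fin.castAdd n l)) hb using 1
        simp only [map_mul, ez, rename_X]
        ring
      · refine ⟨t * s' l, by rw [map_mul, hs']; exact Mm.mul_mem ht (q l).2.2, b * a' l, ?_⟩
        convert add_mem (𝔞.mul_mem_right (ez (a' l)) hb) (𝔞.mul_mem_left (ez t * x) (hG l)) using 1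
        simp only [map_mul, G]
        ring
  have h0 : ∀ a ∈ 𝔞, ψ a = 0 := fun a ha => by
    suffices 𝔞 ≤ RingHom.ker ψ.toRingHom from this ha
    refine Ideal.span_le.mpr ?_
    rintro _ (⟨l, rfl⟩ | ⟨i, rfl⟩)
    · show ψ (ez (g l)) = 0
      rw [hez, show π (g l) = 0 from (hg ▸ Submodule.subset_span ⟨l, rfl⟩ : g l ∈ RingHom.ker π.toRingHom),
        map_zero]
    · show ψ (G i) = 0
      simp only [G, map_sub, map_mul, hez, hs', ha']
      rw [show ψ (X (Fin.natAdd p i)) = φ (X i) by simp [ψ], hq, sub_self]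
  refine ⟨p + n, Fin.natAdd p, ψ, 𝔞, ?_, ?_, fun y => ?_, h0, fun x hx => ?_⟩
  · ext i
    simp [ψ]
  · exact Submodule.fg_span ((Set.finite_range _).union (Set.finite_range _))
  · obtain ⟨⟨a, t⟩, hat⟩ := IsLocalization.surj Mm y
    obtain ⟨a₁, rfl⟩ := hπ a
    obtain ⟨t₁, ht₁⟩ := hπ (t : S₀)
    refine ⟨ez a₁, ez t₁, hunit t₁ (by rw [ht₁]; exact t.2), ?_⟩
    rw [hez, hez, ht₁]
    exact hat
  · obtain ⟨t, ht, b, hb⟩ := hred x
    have hb0 : algebraMap S₀ S' (π b) = algebraMap S₀ S' 0 := by
      have := h0 _ hb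
      rw [map_sub, map_mul, hx, mul_zero, zero_sub, neg_eq_zero, hez] at this
      rw [this, map_zero]
    obtain ⟨c, hc⟩ := (IsLocalization.eq_iff_exists Mm S').mp hb0
    obtain ⟨c', hc'⟩ := hπ (c : S₀)
    have hcb : ez (c' * b) ∈ 𝔞 := by
      have hmem : c' * b ∈ RingHom.ker π.toRingHom := by
        show π (c' * b) = 0
        rw [map_mul, hc', hc, mul_zero]
      rw [← hg] at hmem
      generalize c' * b = z at hmem ⊢
      induction hmem using Submodule.span_induction with
      | mem z hz =>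
        obtain ⟨l, rfl⟩ := hz
        exact Ideal.subset_span (Or.inl ⟨l, rfl⟩)
      | zero => simp
      | add z z' _ _ hz hz' => rw [map_add]; exact add_mem hz hz'
      | smul d z _ hz => rw [smul_eq_mul, map_mul]; exact 𝔞.mul_mem_left _ hz
    refine ⟨ez (c' * t), hunit _ (by rw [map_mul, hc']; exact Mm.mul_mem c.2 ht), ?_⟩
    convert add_mem hcb (𝔞.mul_mem_left (ez c') hb) using 1
    simp only [map_mul]
    ring

/-- An algebra essentially of finite presentation is a localization of a quotient of a polynomial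
algebra. -/
theorem exists_generators {S : Type u} [CommRing S] [Algebra R S]
    (hS : CAlgX.IsEssFinitePresentation R S) :
    ∃ (k : ℕ) (φ : MvPolynomial (Fin k) R →ₐ[R] S), ∀ s, ∃ a t, IsUnit (φ t) ∧ s * φ t = φ a := by
  obtain ⟨S₀, _, _, _, _, Mm, hfp, _⟩ := hS
  obtain ⟨k, π, hπ, -⟩ := hfp.out
  refine ⟨k, (IsScalarTower.toAlgHom R S₀ S).comp π, fun s => ?_⟩
  obtain ⟨⟨a, t⟩, hat⟩ := IsLocalization.surj Mm s
  obtain ⟨a₁, rfl⟩ := hπ a
  obtain ⟨t₁, ht₁⟩ := hπ (t : S₀)
  refine ⟨a₁, t₁, ?_, ?_⟩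
  · show IsUnit (algebraMap S₀ S (π t₁))
    rw [ht₁]
    exact IsLocalization.map_units S t
  · show s * algebraMap S₀ S (π t₁) = algebraMap S₀ S (π a₁)
    rw [ht₁]
    exact hat

set_option maxHeartbeats 400000 in
/-- **Fibre criterion of flatness**, non-noetherian: `M` is flat over `S`. `S` need only be a
localization of a quotient of a polynomial algebra (given by `φ`). -/
theorem flat_of_fibre_localized {S S' M : Type u} [CommRing S] [CommRing S'] [IsLocalRing R]
    [IsLocalRing S'] [Algebra R S] [Algebra S S'] [Algebra R S'] [IsScalarTower R S S']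
    [IsLocalHom (algebraMap R S')] (hS' : CAlgX.IsEssFinitePresentation R S')
    (φ : MvPolynomial (Fin n) R →ₐ[R] S) (hφ : ∀ s, ∃ a t, IsUnit (φ t) ∧ s * φ t = φ a)
    [AddCommGroup M] [Module S' M] [Module S M] [Module R M] [IsScalarTower S S' M]
    [IsScalarTower R S' M] [IsScalarTower R S M] [Module.FinitePresentation S' M] [Module.Flat R M]
    (hfib : Module.Flat (S ⧸ (maximalIdeal R).map (algebraMap R S))
      (M ⧸ (maximalIdeal R).map (algebraMap R S) • (⊤ : Submodule S M))) :
    Module.Flat S M := by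
  classical
  obtain ⟨m, e, ψ, 𝔞, he, h𝔞, hs, h0, hk⟩ :=
    exists_presentation hS' ((IsScalarTower.toAlgHom R S S').comp φ)
  set P := (maximalIdeal S').comap ψ with hPdef
  have hP : P.comap C = maximalIdeal R := by
    ext r
    rw [Ideal.mem_comap, hPdef, Ideal.mem_comap, ← MvPolynomial.algebraMap_eq, AlgHom.commutes,
      mem_maximalIdeal, mem_maximalIdeal, mem_nonunits_iff, mem_nonunits_iff, isUnit_map_iff]
  let PX := MvPolynomial (Fin n) R
  let PZ := MvPolynomial (Fin m) R
  letI : Algebra PZ S' := ψ.toRingHom.toAlgebra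
  letI : Module PZ M := Module.compHom M (algebraMap PZ S')
  haveI : IsScalarTower PZ S' M := IsScalarTower.of_algebraMap_smul fun _ _ => rfl
  haveI : IsScalarTower R PZ M := IsScalarTower.of_algebraMap_smul fun r x => by
    show ψ (algebraMap R PZ r) • x = r • x
    rw [ψ.commutes, algebraMap_smul]
  obtain ⟨M₁, _, _, _, lM, _⟩ := exists_fp_localized P.primeCompl
    (fun t ht => by
      by_contra h
      exact ht ((mem_maximalIdeal (ψ t)).mpr h))
    hs 𝔞 h𝔞 h0 hk M
  letI : Algebra PX PZ := (rename e).toRingHom.toAlgebra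
  haveI : IsScalarTower R PX PZ := IsScalarTower.of_algebraMap_eq fun r => ((rename e).commutes r).symm
  letI : Algebra PX S := φ.toRingHom.toAlgebra
  haveI : IsScalarTower R PX S := IsScalarTower.of_algebraMap_eq fun r => (φ.commutes r).symm
  letI : Module PX M := Module.compHom M (algebraMap PX S)
  haveI : IsScalarTower PX S M := IsScalarTower.of_algebraMap_smul fun _ _ => rfl
  haveI : IsScalarTower PX PZ M := IsScalarTower.of_algebraMap_smul fun x y => by
    show ψ (rename e x) • y = φ x • y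
    rw [show ψ (rename e x) = algebraMap S S' (φ x) from DFunLike.congr_fun he x, algebraMap_smul]
  let I : Ideal PX := RingHom.ker φ.toRingHom
  have hI : ∀ a ∈ I, ∀ x : M, a • x = 0 := fun a ha x => by
    show φ a • x = 0
    rw [show φ a = 0 from ha, zero_smul]
  -- the fibre
  let J : Ideal PX := I ⊔ (maximalIdeal R).map C
  let mS : Ideal S := (maximalIdeal R).map (algebraMap R S)
  have hJ : ∀ a ∈ J, φ a ∈ mS := fun a ha => by
    suffices J ≤ mS.comap φ from this ha
    refine sup_le (fun a ha => ?_) (Ideal.map_le_iff_le_comap.mpr fun r hr => ?_)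
    · show φ a ∈ mS
      rw [show φ a = 0 from ha]
      exact zero_mem _
    · show φ (C r) ∈ mS
      rw [← MvPolynomial.algebraMap_eq, AlgHom.commutes]
      exact Ideal.mem_map_of_mem _ hr
  letI : Algebra (PX ⧸ J) (S ⧸ mS) := (Ideal.quotientMap mS φ.toRingHom hJ).toAlgebra
  have hmk : ∀ a, algebraMap (PX ⧸ J) (S ⧸ mS) (Ideal.Quotient.mk J a) = Ideal.Quotient.mk mS (φ a) :=
    fun a => rfl
  let TY : Submonoid (PX ⧸ J) := (IsUnit.submonoid (S ⧸ mS)).comap (algebraMap (PX ⧸ J) (S ⧸ mS))
  haveI : IsLocalization TY (S ⧸ mS) := by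
    refine ⟨fun t => t.2, fun z => ?_, fun {x y} hxy => ?_⟩
    · obtain ⟨z, rfl⟩ := Ideal.Quotient.mk_surjective z
      obtain ⟨a, t, ht, hat⟩ := hφ z
      refine ⟨⟨Ideal.Quotient.mk J a, ⟨Ideal.Quotient.mk J t, ?_⟩⟩, ?_⟩
      · show IsUnit (algebraMap _ _ _)
        rw [hmk]
        exact ht.map _
      · show Ideal.Quotient.mk mS z * Ideal.Quotient.mk mS (φ t) = Ideal.Quotient.mk mS (φ a)
        rw [← map_mul, hat]
    · obtain ⟨a, rfl⟩ := Ideal.Quotient.mk_surjective x
      obtain ⟨b, rfl⟩ := Ideal.Quotient.mk_surjective y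
      rw [hmk, hmk, Ideal.Quotient.eq] at hxy
      have hclear : ∀ z ∈ mS, ∃ c ∈ (maximalIdeal R).map (C : R →+* PX), ∃ t,
          IsUnit (φ t) ∧ z * φ t = φ c := by
        intro z hz
        induction hz using Submodule.span_induction with
        | mem z hz =>
          obtain ⟨r, hr, rfl⟩ := hz
          exact ⟨C r, Ideal.mem_map_of_mem _ hr, 1, by simp, by simp⟩
        | zero => exact ⟨0, zero_mem _, 1, by simp, by simp⟩
        | add z z' _ _ hz hz' =>
          obtain ⟨c, hc, t, ht, e⟩ := hz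
          obtain ⟨c', hc', t', ht', e'⟩ := hz'
          refine ⟨c * t' + c' * t, add_mem (Ideal.mul_mem_right _ _ hc) (Ideal.mul_mem_right _ _ hc'),
            t * t', by rw [map_mul]; exact ht.mul ht', ?_⟩
          rw [map_add, map_mul, map_mul, map_mul, ← e, ← e']
          ring
        | smul s z _ hz =>
          obtain ⟨c, hc, t, ht, e⟩ := hz
          obtain ⟨a, t', ht', e'⟩ := hφ s
          refine ⟨a * c, Ideal.mul_mem_left _ _ hc, t' * t, by rw [map_mul]; exact ht'.mul ht, ?_⟩
          rw [map_mul, map_mul, smul_eq_mul, ← e, ← e']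
          ring
      obtain ⟨c, hc, t, ht, e⟩ := hclear _ hxy
      refine ⟨⟨Ideal.Quotient.mk J t, ?_⟩, ?_⟩
      · show IsUnit (algebraMap _ _ _)
        rw [hmk]
        exact ht.map _
      · show Ideal.Quotient.mk J t * _ = Ideal.Quotient.mk J t * _
        rw [← map_mul, ← map_mul, Ideal.Quotient.eq]
        rw [show t * a - t * b = (t * (a - b) - c) + c by ring]
        refine add_mem (Ideal.mem_sup_left ?_) (Ideal.mem_sup_right hc)
        show φ _ = 0
        rw [map_sub, map_mul, map_sub, ← e]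
        ring
  haveI : Module.Flat (PX ⧸ J) (S ⧸ mS) := IsLocalization.flat (S ⧸ mS) TY
  haveI := hfib
  let Mb := M ⧸ mS • (⊤ : Submodule S M)
  letI : Module (PX ⧸ J) Mb := Module.compHom Mb (algebraMap (PX ⧸ J) (S ⧸ mS))
  haveI : IsScalarTower (PX ⧸ J) (S ⧸ mS) Mb := IsScalarTower.of_algebraMap_smul fun _ _ => rfl
  haveI : Module.Flat (PX ⧸ J) Mb := Module.Flat.trans (PX ⧸ J) (S ⧸ mS) Mb
  have hsub : ((J • (⊤ : Submodule PX M) : Submodule PX M) : Set M) = ((mS • (⊤ : Submodule S M) : Submodule S M) : Set M) := by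
    have h1 : J • (⊤ : Submodule PX M) = (maximalIdeal R).map (algebraMap R PX) • ⊤ := by
      rw [Submodule.sup_smul, show I • (⊤ : Submodule PX M) = ⊥ from
        eq_bot_iff.mpr (Submodule.smul_le.mpr fun a ha x _ => hI a ha x), bot_sup_eq]
      rfl
    haveI : IsScalarTower R PX M := IsScalarTower.of_algebraMap_smul fun r x => by
      show φ (algebraMap R PX r) • x = r • x
      rw [φ.commutes, algebraMap_smul]
    rw [h1, ← Submodule.coe_restrictScalars R (V := (maximalIdeal R).map (algebraMap R PX) • ⊤),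
      ← Submodule.coe_restrictScalars R (V := mS • (⊤ : Submodule S M)), Ideal.smul_restrictScalars,
      Ideal.smul_restrictScalars, Submodule.restrictScalars_top, Submodule.restrictScalars_top]
  have hflat : Module.Flat (PX ⧸ J) ((PX ⧸ J) ⊗[PX] M) := by
    let e₁ : (M ⧸ J • (⊤ : Submodule PX M)) ≃+ Mb := QuotientAddGroup.quotientAddEquivOfEq
      (M := (J • (⊤ : Submodule PX M)).toAddSubgroup) (N := (mS • (⊤ : Submodule S M)).toAddSubgroup)
      (SetLike.coe_injective hsub)
    let e₂ : ((PX ⧸ J) ⊗[PX] M) ≃+ Mb := (quotTensorEquivQuotSMul M J).toAddEquiv.trans e₁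
    refine Module.Flat.of_linearEquiv (AddEquiv.toLinearEquiv e₂ fun y x => ?_)
    obtain ⟨y, rfl⟩ := Ideal.Quotient.mk_surjective y
    obtain ⟨x, rfl⟩ := TensorProduct.mk_surjective PX M (PX ⧸ J) Ideal.Quotient.mk_surjective x
    rw [TensorProduct.mk_apply,
      show Ideal.Quotient.mk J y • ((1 : PX ⧸ J) ⊗ₜ[PX] x) = (1 : PX ⧸ J) ⊗ₜ[PX] (y • x) by
        rw [tmul_smul, ← algebraMap_smul (PX ⧸ J) y]; rfl]
    have he₂ : ∀ z, e₂ ((1 : PX ⧸ J) ⊗ₜ[PX] z) = Submodule.Quotient.mk z := fun z => by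
      show e₁ (quotTensorEquivQuotSMul M J ((Ideal.Quotient.mk J 1) ⊗ₜ[PX] z)) = _
      rw [quotTensorEquivQuotSMul_mk_tmul, one_smul]
      rfl
    rw [he₂, he₂]
    rfl
  have key := flat_core P hP lM I hI hflat
  refine Module.Flat.iff_lTensor_preserves_injective_linearMap.mpr fun N N' _ _ _ _ f hf => ?_
  letI : Module PX N := Module.compHom N (algebraMap PX S)
  letI : Module PX N' := Module.compHom N' (algebraMap PX S)
  haveI : IsScalarTower PX S N := IsScalarTower.of_algebraMap_smul fun _ _ => rfl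
  haveI : IsScalarTower PX S N' := IsScalarTower.of_algebraMap_smul fun _ _ => rfl
  have hcomp : ∀ (A : Type u) [AddCommGroup A] [Module PX A] [Module S A] [IsScalarTower PX S A],
      TensorProduct.CompatibleSMul PX S M A := fun A _ _ _ _ => ⟨fun s x y => by
    obtain ⟨a, t, ht, hat⟩ := hφ s
    obtain ⟨u, hu⟩ := ht
    have hts : ∀ {B : Type u} [AddCommGroup B] [Module PX B] [Module S B] [IsScalarTower PX S B]
        (z : B), t • s • z = a • z := fun {B} _ _ _ _ z => by
      rw [← algebraMap_smul S t, ← algebraMap_smul S a, smul_smul]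
      show (φ t * s) • z = φ a • z
      rw [mul_comm, hat]
    have hx : x = t • ((u⁻¹ : Sˣ) : S) • x := by
      rw [← algebraMap_smul S t, smul_smul]
      show x = (φ t * _) • x
      rw [← hu, Units.mul_inv, one_smul]
    conv_lhs => rw [hx, smul_comm s t, hts, TensorProduct.smul_tmul]
    conv_rhs => rw [hx, TensorProduct.smul_tmul, hts]⟩
  haveI := hcomp N
  haveI := hcomp N'
  let eN := TensorProduct.equivOfCompatibleSMul PX S PX M N
  let eN' := TensorProduct.equivOfCompatibleSMul PX S PX M N'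
  have hinj : Injective ((f.restrictScalars PX).lTensor M) :=
    key N N' (f.restrictScalars PX) (fun x a => by
        show φ a • x = 0
        rw [show φ a = 0 from a.2, zero_smul]) (fun x a => by
        show φ a • x = 0
        rw [show φ a = 0 from a.2, zero_smul]) hf
  intro x y hxy
  have hc : ∀ z, (f.restrictScalars PX).lTensor M (eN z) = eN' (f.lTensor M z) := fun z => by
    induction z using TensorProduct.induction_on with
    | zero => simp
    | add a b ha hb => simp only [map_add, ha, hb]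
    | tmul a b => rfl
  exact eN.injective (hinj (by rw [hc, hc, hxy]))

end GrothLib.FibreFlat
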