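import Groth.Agent.Lib.FibreFlat.Stalk
import Groth.Agent.Lib.FibreFlat.EssFP
import Groth.Agent.Lib.Flatness.Fibre
import Groth.Prelude.Def_MoreMor

/-!
# The fibre criterion of flatness for morphisms of schemes (EGA IV 11.3.10)
-/

universe u

namespace GrothLib.FibreFlat

open AlgebraicGeometry CategoryTheory Limits IsLocalRing TensorProduct

variable {X Y S : Scheme.{u}}

/-- The map induced on quotients by the maximal ideal of the base. -/
noncomputable def fibreRingMap (f : X ⟶ Y) (g : Y ⟶ S) (x : X) :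
    (Y.presheaf.stalk (f x) ⧸ (maximalIdeal (S.presheaf.stalk (g (f x)))).map (g.stalkMap (f x)).hom) →+*
      X.presheaf.stalk x ⧸ (maximalIdeal (S.presheaf.stalk ((f ≫ g) x))).map ((f ≫ g).stalkMap x).hom :=
  Ideal.quotientMap _ (f.stalkMap x).hom (Ideal.map_le_iff_le_comap.mpr fun a ha => by
    refine Ideal.mem_comap.mpr (Ideal.mem_comap.mpr ?_)
    rw [show (f.stalkMap x).hom ((g.stalkMap (f x)).hom a) = ((f ≫ g).stalkMap x).hom a by
      rw [Scheme.Hom.stalkMap_comp]; rfl]
    exact Ideal.mem_map_of_mem _ ha)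

set_option backward.isDefEq.respectTransparency false in
/-- A property of the map of fibres at a point is one of the map of quotients. -/
theorem fiberMap_stalkMap_iff {Q : ∀ {R S : Type u} [CommRing R] [CommRing S], (R →+* S) → Prop}
    (hQ : RingHom.RespectsIso Q) (f : X ⟶ Y) (g : Y ⟶ S) (s : S) (z : (f ≫ g).fiber s) (x : X)
    (hx : (f ≫ g).fiberι s z = x) :
    Q ((MoreMor.fiberMap f g s).stalkMap z).hom ↔ Q (fibreRingMap f g x) := by
  have hfac : MoreMor.fiberMap f g s ≫ g.fiberι s = (f ≫ g).fiberι s ≫ f := pullback.lift_fst ..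
  have hy : g.fiberι s (MoreMor.fiberMap f g s z) = f x := by
    rw [← Scheme.Hom.comp_apply, hfac, Scheme.Hom.comp_apply, hx]
  obtain ⟨hF1, hF2⟩ := fiberι_stalkMap' (f ≫ g) s z x hx
  obtain ⟨hG1, hG2⟩ := fiberι_stalkMap' g s (MoreMor.fiberMap f g s z) (f x) hy
  set πF := (X.presheaf.stalkCongr (.of_eq hx.symm)).hom ≫ ((f ≫ g).fiberι s).stalkMap z with hπF
  set πG := (Y.presheaf.stalkCongr (.of_eq hy.symm)).hom ≫
    (g.fiberι s).stalkMap (MoreMor.fiberMap f g s z) with hπG
  have hsq : πG ≫ (MoreMor.fiberMap f g s).stalkMap z = f.stalkMap x ≫ πF := by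
    subst hx
    have h1 : (X.presheaf.stalkCongr (.of_eq (Eq.symm (Eq.refl ((f ≫ g).fiberι s z))))).hom =
        𝟙 _ := by simp
    rw [hπF, hπG, h1, Category.id_comp, Category.assoc, ← Scheme.Hom.stalkMap_comp,
      Scheme.Hom.stalkMap_congr_hom _ _ hfac z, Scheme.Hom.stalkMap_comp, ← Category.assoc]
    simp
  let eG := (Ideal.quotEquivOfEq hG2.symm).trans (RingHom.quotientKerEquivOfSurjective hG1)
  let eF := (Ideal.quotEquivOfEq hF2.symm).trans (RingHom.quotientKerEquivOfSurjective hF1)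
  have hkey : ((MoreMor.fiberMap f g s).stalkMap z).hom.comp eG.toRingHom =
      eF.toRingHom.comp (fibreRingMap f g x) := by
    refine Ideal.Quotient.ringHom_ext (RingHom.ext fun a => ?_)
    exact congrArg (fun k => k.hom a) hsq
  constructor
  · intro h
    have h1 : Q (eF.toRingHom.comp (fibreRingMap f g x)) :=
      hkey ▸ hQ.2 _ eG h
    have h2 := hQ.1 _ eF.symm h1
    rwa [← RingHom.comp_assoc, show eF.symm.toRingHom.comp eF.toRingHom = RingHom.id _ from
      RingHom.ext eF.symm_apply_apply, RingHom.id_comp] at h2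
  · intro h
    have h1 : Q (((MoreMor.fiberMap f g s).stalkMap z).hom.comp eG.toRingHom) :=
      hkey ▸ hQ.1 _ eF h
    have h2 := hQ.2 _ eG.symm h1
    rwa [RingHom.comp_assoc, show eG.toRingHom.comp eG.symm.toRingHom = RingHom.id _ from
      RingHom.ext eG.apply_symm_apply, RingHom.comp_id] at h2

/-- The map of fibres at a point is flat iff the map of quotients is. -/
theorem flat_fiberMap_stalkMap_iff (f : X ⟶ Y) (g : Y ⟶ S) (s : S) (z : (f ≫ g).fiber s) (x : X)
    (hx : (f ≫ g).fiberι s z = x) :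
    ((MoreMor.fiberMap f g s).stalkMap z).hom.Flat ↔ (fibreRingMap f g x).Flat :=
  fiberMap_stalkMap_iff RingHom.Flat.respectsIso f g s z x hx

set_option maxHeartbeats 400000 in
set_option backward.isDefEq.respectTransparency false in
/-- The pointwise fibre criterion. -/
theorem critere_par_fibres (f : X ⟶ Y) (g : Y ⟶ S) [LocallyOfFinitePresentation (f ≫ g)]
    [LocallyOfFiniteType g] (x : X) :
    (((f ≫ g).stalkMap x).hom.Flat ∧ (fibreRingMap f g x).Flat) ↔
      (g.stalkMap (f x)).hom.Flat ∧ (f.stalkMap x).hom.Flat := by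
  let R := S.presheaf.stalk (g (f x))
  let A := Y.presheaf.stalk (f x)
  let B := X.presheaf.stalk x
  letI : Algebra R A := (g.stalkMap (f x)).hom.toAlgebra
  letI : Algebra A B := (f.stalkMap x).hom.toAlgebra
  letI : Algebra R B := ((f ≫ g).stalkMap x).hom.toAlgebra
  haveI : IsScalarTower R A B := IsScalarTower.of_algebraMap_eq fun r => by
    show ((f ≫ g).stalkMap x).hom r = (f.stalkMap x).hom ((g.stalkMap (f x)).hom r)
    rw [Scheme.Hom.stalkMap_comp]
    rfl
  haveI : IsLocalHom (algebraMap R A) := inferInstanceAs (IsLocalHom (g.stalkMap (f x)).hom)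
  haveI : IsLocalHom (algebraMap A B) := inferInstanceAs (IsLocalHom (f.stalkMap x).hom)
  haveI : IsLocalHom (algebraMap R B) := inferInstanceAs (IsLocalHom ((f ≫ g).stalkMap x).hom)
  let mA := (maximalIdeal R).map (algebraMap R A)
  let mB := (maximalIdeal R).map (algebraMap R B)
  have hmB : ∀ b, b ∈ mB ↔ b ∈ mA • (⊤ : Submodule A B) := fun b => by
    rw [Ideal.smul_top_eq_map, Submodule.restrictScalars_mem, Ideal.map_map,
      ← IsScalarTower.algebraMap_eq]
  letI : Algebra (A ⧸ mA) (B ⧸ mB) := (fibreRingMap f g x).toAlgebra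
  let e : (B ⧸ mA • (⊤ : Submodule A B)) ≃ₗ[A ⧸ mA] (B ⧸ mB) :=
    AddEquiv.toLinearEquiv (QuotientAddGroup.quotientAddEquivOfEq
      (M := (mA • (⊤ : Submodule A B)).toAddSubgroup) (N := mB.toAddSubgroup)
      (by ext b; exact (hmB b).symm)) fun a b => by
        obtain ⟨a, rfl⟩ := Ideal.Quotient.mk_surjective a
        obtain ⟨b, rfl⟩ := Submodule.Quotient.mk_surjective _ b
        rfl
  constructor
  · rintro ⟨h1, h2⟩
    haveI : Module.Flat R B := h1
    haveI : Module.Flat (A ⧸ mA) (B ⧸ mB) := h2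
    have hfib : Module.Flat (A ⧸ mA) (B ⧸ mA • (⊤ : Submodule A B)) := Module.Flat.of_linearEquiv e
    obtain ⟨n, φ, hφ⟩ := exists_generators_stalkMap g (f x)
    haveI : Module.Flat A B := flat_of_fibre_localized (R := R) (S := A) (M := B)
      (isEssFinitePresentation_stalkMap (f ≫ g) x) φ hφ hfib
    haveI : Module.FaithfullyFlat A B :=
      Flatness.faithfullyFlat_of_finite (R := A) (S := B) (M := B)
    exact ⟨Flatness.flat_of_faithfullyFlat (R := R) (S := A) (M := B), ‹Module.Flat A B›⟩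
  · rintro ⟨h1, h2⟩
    haveI : Module.Flat R A := h1
    haveI : Module.Flat A B := h2
    refine ⟨Module.Flat.trans R A B, ?_⟩
    show Module.Flat (A ⧸ mA) (B ⧸ mB)
    let e' : ((A ⧸ mA) ⊗[A] B) ≃ₗ[A ⧸ mA] (B ⧸ mA • (⊤ : Submodule A B)) :=
      AddEquiv.toLinearEquiv (quotTensorEquivQuotSMul B mA).toAddEquiv fun a y => by
        obtain ⟨a, rfl⟩ := Ideal.Quotient.mk_surjective a
        obtain ⟨b, rfl⟩ := TensorProduct.mk_surjective A B (A ⧸ mA) Ideal.Quotient.mk_surjective y
        rw [TensorProduct.mk_apply,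
          show Ideal.Quotient.mk mA a • ((1 : A ⧸ mA) ⊗ₜ[A] b) =
              Ideal.Quotient.mk mA 1 ⊗ₜ[A] (a • b) by
            rw [tmul_smul, ← algebraMap_smul (A ⧸ mA) a]; rfl]
        show quotTensorEquivQuotSMul B mA ((Ideal.Quotient.mk mA 1) ⊗ₜ[A] (a • b)) =
          Ideal.Quotient.mk mA a • quotTensorEquivQuotSMul B mA ((Ideal.Quotient.mk mA 1) ⊗ₜ[A] b)
        rw [quotTensorEquivQuotSMul_mk_tmul, quotTensorEquivQuotSMul_mk_tmul, one_smul, one_smul]
        rfl
    exact Module.Flat.of_linearEquiv (e'.trans e).symm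

end GrothLib.FibreFlat
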