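import Groth.Agent.Lib.FibreFlat.RegularFlat
import Groth.Agent.Lib.FibreFlat.Stalk
import Groth.Agent.Lib.BlowUp.IdealComap
import Groth.Prelude.Def_Mor2
import Mathlib.AlgebraicGeometry.Morphisms.Flat
import Mathlib.AlgebraicGeometry.Morphisms.FinitePresentation

/-!
# Slicing a flat morphism by a fibrewise regular sequence
-/

universe u

namespace GrothLib.FibreFlat

open CategoryTheory Limits AlgebraicGeometry IsLocalRing RingTheory.Sequence MvPolynomial

section algebra

variable {R A : Type u} [CommRing R] [CommRing A] [Algebra R A] {r : ℕ} {a : Fin r → A}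

theorem map_ofFn_aeval (a : Fin r → A) :
    (List.ofFn (X : Fin r → MvPolynomial (Fin r) R)).map (MvPolynomial.aeval (R := R) a) = List.ofFn a := by
  rw [List.map_ofFn]
  exact congrArg _ (funext fun i => by simp)

/-- A sequence is weakly regular if the ring is flat over the polynomial ring through it. -/
theorem weaklyRegular_of_flat_aeval (h : (MvPolynomial.aeval (R := R) a).toRingHom.Flat) :
    IsWeaklyRegular A (List.ofFn a) := by
  letI : Algebra (MvPolynomial (Fin r) R) A := (MvPolynomial.aeval (R := R) a).toRingHom.toAlgebra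
  haveI : Module.Flat (MvPolynomial (Fin r) R) A := h
  have := (isWeaklyRegular_X R r).of_flat (S := A)
  rwa [show (List.ofFn (X : Fin r → MvPolynomial (Fin r) R)).map (algebraMap _ A) = List.ofFn a from
    map_ofFn_aeval a] at this

/-- The quotient is flat over the base. -/
theorem flat_quotient_of_flat_aeval (h : (MvPolynomial.aeval (R := R) a).toRingHom.Flat) :
    ((Ideal.Quotient.mk (Ideal.ofList (List.ofFn a))).comp (algebraMap R A)).Flat := by
  letI : Algebra (MvPolynomial (Fin r) R) A := (MvPolynomial.aeval (R := R) a).toRingHom.toAlgebra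
  haveI : Module.Flat (MvPolynomial (Fin r) R) A := h
  let I := Ideal.ofList (List.ofFn (X : Fin r → MvPolynomial (Fin r) R))
  have hI : Ideal.ofList (List.ofFn a) = I.map (algebraMap (MvPolynomial (Fin r) R) A) := by
    rw [Ideal.map_ofList]
    exact congrArg _ (map_ofFn_aeval a).symm
  rw [hI]
  let J := I.map (algebraMap (MvPolynomial (Fin r) R) A)
  letI : Algebra (MvPolynomial (Fin r) R ⧸ I) (A ⧸ J) :=
    Ideal.Quotient.algebraQuotientOfLEComap Ideal.le_comap_map
  haveI : IsScalarTower (MvPolynomial (Fin r) R) (MvPolynomial (Fin r) R ⧸ I) (A ⧸ J) :=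
    ⟨fun p c y => by
      obtain ⟨c, rfl⟩ := Ideal.Quotient.mk_surjective c
      obtain ⟨y, rfl⟩ := Ideal.Quotient.mk_surjective y
      show Ideal.Quotient.mk J (algebraMap _ A (p * c) * y) =
        Ideal.Quotient.mk J (algebraMap _ A p * (algebraMap _ A c * y))
      simp only [map_mul, mul_assoc]⟩
  haveI : Module.Flat (MvPolynomial (Fin r) R ⧸ I) (A ⧸ J) :=
    Module.Flat.of_linearEquiv
      (LinearEquiv.extendScalarsOfSurjective Ideal.Quotient.mk_surjective
        (TensorProduct.quotTensorEquivQuotSMul A I ≪≫ₗ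
          Submodule.quotEquivOfEq _ (J.restrictScalars (MvPolynomial (Fin r) R)) (Ideal.smul_top_eq_map I) ≪≫ₗ
          Submodule.Quotient.restrictScalarsEquiv (MvPolynomial (Fin r) R) J) :
        TensorProduct (MvPolynomial (Fin r) R) (MvPolynomial (Fin r) R ⧸ I) A ≃ₗ[MvPolynomial (Fin r) R ⧸ I] A ⧸ J).symm
  have hb : Function.Bijective ((Ideal.Quotient.mk I).comp (algebraMap R (MvPolynomial (Fin r) R))) := by
    refine ⟨(injective_iff_map_eq_zero _).mpr fun x hx => ?_, fun y => ?_⟩
    · have hx' : C x ∈ I := Ideal.Quotient.eq_zero_iff_mem.mp hx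
      rw [show I = _ from ofList_X_eq_ker R r, RingHom.mem_ker] at hx'
      simpa using hx'
    · obtain ⟨p, rfl⟩ := Ideal.Quotient.mk_surjective y
      refine ⟨MvPolynomial.aeval (0 : Fin r → R) p, Ideal.Quotient.eq.mpr ?_⟩
      rw [show I = _ from ofList_X_eq_ker R r, RingHom.mem_ker]
      simp
  have := RingHom.Flat.comp (RingHom.Flat.of_bijective hb)
    (g := algebraMap (MvPolynomial (Fin r) R ⧸ I) (A ⧸ J)) (RingHom.flat_algebraMap_iff.mpr inferInstance)
  convert this using 1
  ext x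
  exact congrArg (Ideal.Quotient.mk J) ((MvPolynomial.aeval (R := R) a).commutes x).symm

/-- Weak regularity after any base change. -/
theorem weaklyRegular_pushout (h : (MvPolynomial.aeval (R := R) a).toRingHom.Flat)
    {R' B : Type u} [CommRing R'] [CommRing B] [Algebra R R'] [Algebra R B] [Algebra A B]
    [Algebra R' B] [IsScalarTower R A B] [IsScalarTower R R' B] [Algebra.IsPushout R A R' B] :
    IsWeaklyRegular B ((List.ofFn a).map (algebraMap A B)) := by
  letI : Algebra (MvPolynomial (Fin r) R) A := (MvPolynomial.aeval (R := R) a).toRingHom.toAlgebra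
  haveI : IsScalarTower R (MvPolynomial (Fin r) R) A :=
    IsScalarTower.of_algebraMap_eq fun x => ((MvPolynomial.aeval (R := R) a).commutes x).symm
  letI : Algebra (MvPolynomial (Fin r) R) (MvPolynomial (Fin r) R') :=
    MvPolynomial.algebraMvPolynomial
  letI : Algebra (MvPolynomial (Fin r) R') B :=
    (MvPolynomial.aeval (R := R') fun i => algebraMap A B (a i)).toRingHom.toAlgebra
  letI : Algebra (MvPolynomial (Fin r) R) B :=
    ((algebraMap A B).comp (algebraMap (MvPolynomial (Fin r) R) A)).toAlgebra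
  haveI : IsScalarTower (MvPolynomial (Fin r) R) A B := IsScalarTower.of_algebraMap_eq fun _ => rfl
  haveI : IsScalarTower R' (MvPolynomial (Fin r) R') B :=
    IsScalarTower.of_algebraMap_eq fun x =>
      ((MvPolynomial.aeval (R := R') fun i => algebraMap A B (a i)).commutes x).symm
  haveI : IsScalarTower R (MvPolynomial (Fin r) R) B := IsScalarTower.of_algebraMap_eq fun x => by
    rw [IsScalarTower.algebraMap_apply R A B, IsScalarTower.algebraMap_apply R (MvPolynomial (Fin r) R) A]
    rfl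
  haveI : IsScalarTower (MvPolynomial (Fin r) R) (MvPolynomial (Fin r) R') B := by
    refine IsScalarTower.of_algebraMap_eq' (MvPolynomial.ringHom_ext (fun x => ?_) fun i => ?_)
    · show algebraMap A B (MvPolynomial.aeval (R := R) a (C x)) =
        MvPolynomial.aeval (R := R') (fun i => algebraMap A B (a i)) (MvPolynomial.map (algebraMap R R') (C x))
      rw [MvPolynomial.map_C, MvPolynomial.aeval_C, MvPolynomial.aeval_C,
        ← IsScalarTower.algebraMap_apply, ← IsScalarTower.algebraMap_apply]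
    · show algebraMap A B (MvPolynomial.aeval (R := R) a (X i)) =
        MvPolynomial.aeval (R := R') (fun i => algebraMap A B (a i)) (MvPolynomial.map (algebraMap R R') (X i))
      rw [MvPolynomial.map_X, MvPolynomial.aeval_X, MvPolynomial.aeval_X]
  haveI : IsScalarTower R (MvPolynomial (Fin r) R') B := IsScalarTower.of_algebraMap_eq fun x => by
    rw [IsScalarTower.algebraMap_apply R R' B, IsScalarTower.algebraMap_apply R R' (MvPolynomial (Fin r) R'),
      ← IsScalarTower.algebraMap_apply R' (MvPolynomial (Fin r) R') B]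
  have hflat : (MvPolynomial.aeval (R := R') fun i => algebraMap A B (a i)).toRingHom.Flat := by
    haveI : Module.Flat (MvPolynomial (Fin r) R) A := h
    haveI : Algebra.IsPushout (MvPolynomial (Fin r) R) A (MvPolynomial (Fin r) R') B :=
      (Algebra.IsPushout.comp_iff (R := R) (S := MvPolynomial (Fin r) R) (R' := R')
        (S' := MvPolynomial (Fin r) R') (T := A) (T' := B)).mp inferInstance
    show Module.Flat (MvPolynomial (Fin r) R') B
    exact Module.Flat.isBaseChange (R := MvPolynomial (Fin r) R) (S := MvPolynomial (Fin r) R')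
      (M := A) B (Algebra.IsPushout.symm inferInstance).out
  rw [List.map_ofFn]
  exact weaklyRegular_of_flat_aeval hflat

end algebra

variable {X S : Scheme.{u}}

set_option backward.isDefEq.respectTransparency false in
/-- A fibrewise regular sequence at a point extends to sections on an affine open on which the
morphism is flat over affine space. -/
theorem exists_slice (f : X ⟶ S) [LocallyOfFinitePresentation f] (x : X)
    (hflat : (f.stalkMap x).hom.Flat) {r : ℕ} (h : Fin r → X.presheaf.stalk x)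
    (hreg : IsRegular
      (X.presheaf.stalk x ⧸ (maximalIdeal (S.presheaf.stalk (f x))).map (f.stalkMap x).hom)
      ((List.ofFn h).map (Ideal.Quotient.mk ((maximalIdeal (S.presheaf.stalk (f x))).map (f.stalkMap x).hom)))) :
    ∃ (V : S.Opens) (U : X.Opens) (hU : IsAffineOpen U) (hx : x ∈ U) (hVU : U ≤ f ⁻¹ᵁ V)
      (a : Fin r → Γ(X, U)), IsAffineOpen V ∧
      (∀ i, X.presheaf.germ U x hx (a i) = h i) ∧
      (∀ i, a i ∈ (hU.primeIdealOf ⟨x, hx⟩).asIdeal) ∧
      (letI := (f.appLE V U hVU).hom.toAlgebra;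
        (MvPolynomial.aeval (R := Γ(S, V)) a).toRingHom.Flat) := by
  choose W hW s hs using fun i => X.presheaf.exists_germ_eq (h i)
  obtain ⟨_, ⟨V, hV, rfl⟩, hxV, -⟩ :=
    S.isBasis_affineOpens.exists_subset_of_mem_open (Set.mem_univ (f x)) isOpen_univ
  obtain ⟨_, ⟨U, hU, rfl⟩, hxU, hUW⟩ :=
    X.isBasis_affineOpens.exists_subset_of_mem_open (a := x)
      (u := (f ⁻¹ᵁ V : Set X) ∩ ⋂ i, (W i : Set X)) ⟨hxV, Set.mem_iInter.mpr hW⟩
      ((f ⁻¹ᵁ V).2.inter (isOpen_iInter_of_finite fun i => (W i).2))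
  have hVU : U ≤ f ⁻¹ᵁ V := fun y hy => (hUW hy).1
  have hUi : ∀ i, U ≤ W i := fun i y hy => Set.mem_iInter.mp (hUW hy).2 i
  let a : Fin r → Γ(X, U) := fun i => X.presheaf.map (homOfLE (hUi i)).op (s i)
  have ha : ∀ i, X.presheaf.germ U x hxU (a i) = h i := fun i =>
    (TopCat.Presheaf.germ_res_apply _ _ _ _ _).trans (hs i)
  letI := (f.appLE V U hVU).hom.toAlgebra
  haveI : Algebra.FinitePresentation Γ(S, V) Γ(X, U) := f.finitePresentation_appLE hV hU hVU
  -- the local rings
  letI : Algebra Γ(S, V) (S.presheaf.stalk (f x)) := (S.presheaf.germ V (f x) (hVU hxU)).hom.toAlgebra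
  letI : Algebra Γ(X, U) (X.presheaf.stalk x) := (X.presheaf.germ U x hxU).hom.toAlgebra
  letI : Algebra (S.presheaf.stalk (f x)) (X.presheaf.stalk x) := (f.stalkMap x).hom.toAlgebra
  haveI : IsLocalHom (algebraMap (S.presheaf.stalk (f x)) (X.presheaf.stalk x)) :=
    inferInstanceAs (IsLocalHom (f.stalkMap x).hom)
  haveI : Module.Flat (S.presheaf.stalk (f x)) (X.presheaf.stalk x) := hflat
  letI : Algebra Γ(S, V) (X.presheaf.stalk x) :=
    ((algebraMap Γ(X, U) (X.presheaf.stalk x)).comp (algebraMap Γ(S, V) Γ(X, U))).toAlgebra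
  haveI : IsScalarTower Γ(S, V) Γ(X, U) (X.presheaf.stalk x) := IsScalarTower.of_algebraMap_eq fun _ => rfl
  haveI : IsScalarTower Γ(S, V) (S.presheaf.stalk (f x)) (X.presheaf.stalk x) :=
    IsScalarTower.of_algebraMap_eq fun t => by
      show X.presheaf.germ U x hxU (f.appLE V U hVU t) = f.stalkMap x (S.presheaf.germ V (f x) (hVU hxU) t)
      rw [Scheme.Hom.germ_stalkMap_apply, Scheme.Hom.appLE, CommRingCat.comp_apply,
        TopCat.Presheaf.germ_res_apply]
  haveI hlV : IsLocalization.AtPrime (S.presheaf.stalk (f x)) (hV.primeIdealOf ⟨f x, hVU hxU⟩).asIdeal :=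
    hV.isLocalization_stalk ⟨f x, hVU hxU⟩
  haveI hlU : IsLocalization.AtPrime (X.presheaf.stalk x) (hU.primeIdealOf ⟨x, hxU⟩).asIdeal :=
    hU.isLocalization_stalk ⟨x, hxU⟩
  have hmem : ∀ i, a i ∈ (hU.primeIdealOf ⟨x, hxU⟩).asIdeal := fun i => by
    rw [← IsLocalization.AtPrime.to_map_mem_maximal_iff (X.presheaf.stalk x) (hU.primeIdealOf ⟨x, hxU⟩).asIdeal]
    show X.presheaf.germ U x hxU (a i) ∈ _
    rw [ha, mem_maximalIdeal, mem_nonunits_iff]
    intro hu
    apply hreg.top_ne_smul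
    have hi : Ideal.Quotient.mk ((maximalIdeal (S.presheaf.stalk (f x))).map (f.stalkMap x).hom) (h i) ∈
        Ideal.ofList ((List.ofFn h).map
          (Ideal.Quotient.mk ((maximalIdeal (S.presheaf.stalk (f x))).map (f.stalkMap x).hom))) :=
      Ideal.subset_span (List.mem_map_of_mem (List.mem_ofFn.mpr ⟨i, rfl⟩))
    rw [Ideal.eq_top_of_isUnit_mem _ hi (hu.map _), Submodule.top_smul]
  -- flatness over affine space at `x`
  have hloc := flat_aeval_of_fibre_regular (R := S.presheaf.stalk (f x)) (isEssFinitePresentation_stalkMap f x) h hreg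
  let Q := (hU.primeIdealOf ⟨x, hxU⟩).asIdeal
  letI : Algebra (MvPolynomial (Fin r) Γ(S, V)) (MvPolynomial (Fin r) (S.presheaf.stalk (f x))) :=
    MvPolynomial.algebraMvPolynomial
  haveI : Module.Flat Γ(S, V) (S.presheaf.stalk (f x)) :=
    IsLocalization.flat (S.presheaf.stalk (f x)) (hV.primeIdealOf ⟨f x, hVU hxU⟩).asIdeal.primeCompl
  have hmap : (MvPolynomial.map (algebraMap Γ(S, V) (S.presheaf.stalk (f x))) :
      MvPolynomial (Fin r) Γ(S, V) →+* _).Flat := by
    show Module.Flat (MvPolynomial (Fin r) Γ(S, V)) (MvPolynomial (Fin r) (S.presheaf.stalk (f x)))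
    exact Module.Flat.isBaseChange (R := Γ(S, V)) (S := MvPolynomial (Fin r) Γ(S, V))
      (M := S.presheaf.stalk (f x)) _ (Algebra.IsPushout.symm (R := Γ(S, V))
        (S := S.presheaf.stalk (f x)) (R' := MvPolynomial (Fin r) Γ(S, V)) inferInstance).out
  letI : Algebra (MvPolynomial (Fin r) Γ(S, V)) Γ(X, U) :=
    (MvPolynomial.aeval (R := Γ(S, V)) a).toRingHom.toAlgebra
  haveI : IsScalarTower Γ(S, V) (MvPolynomial (Fin r) Γ(S, V)) Γ(X, U) :=
    IsScalarTower.of_algebraMap_eq fun t => ((MvPolynomial.aeval (R := Γ(S, V)) a).commutes t).symm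
  haveI : Algebra.FinitePresentation (MvPolynomial (Fin r) Γ(S, V)) Γ(X, U) :=
    Algebra.FinitePresentation.of_restrict_scalars_finitePresentation Γ(S, V) _ _
  have hq : Module.Flat (MvPolynomial (Fin r) Γ(S, V)) (LocalizedModule Q.primeCompl Γ(X, U)) := by
    letI : Algebra (MvPolynomial (Fin r) Γ(S, V)) (X.presheaf.stalk x) :=
      ((algebraMap Γ(X, U) (X.presheaf.stalk x)).comp (algebraMap _ Γ(X, U))).toAlgebra
    haveI : IsScalarTower (MvPolynomial (Fin r) Γ(S, V)) Γ(X, U) (X.presheaf.stalk x) :=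
      IsScalarTower.of_algebraMap_eq fun _ => rfl
    haveI : Module.Flat (MvPolynomial (Fin r) Γ(S, V)) (X.presheaf.stalk x) := by
      have : algebraMap (MvPolynomial (Fin r) Γ(S, V)) (X.presheaf.stalk x) =
          (MvPolynomial.aeval (R := S.presheaf.stalk (f x)) h).toRingHom.comp
            (MvPolynomial.map (algebraMap Γ(S, V) (S.presheaf.stalk (f x)))) := by
        refine MvPolynomial.ringHom_ext (fun t => ?_) fun i => ?_
        · show algebraMap Γ(X, U) _ (MvPolynomial.aeval (R := Γ(S, V)) a (C t)) =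
            MvPolynomial.aeval h (MvPolynomial.map _ (C t))
          rw [MvPolynomial.map_C, MvPolynomial.aeval_C, MvPolynomial.aeval_C,
            ← IsScalarTower.algebraMap_apply, ← IsScalarTower.algebraMap_apply]
        · show algebraMap Γ(X, U) _ (MvPolynomial.aeval (R := Γ(S, V)) a (MvPolynomial.X i)) =
            MvPolynomial.aeval h (MvPolynomial.map _ (MvPolynomial.X i))
          rw [MvPolynomial.map_X, MvPolynomial.aeval_X, MvPolynomial.aeval_X]
          exact ha i
      rw [← RingHom.flat_algebraMap_iff, this]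
      exact RingHom.Flat.comp hmap hloc
    exact Module.Flat.of_linearEquiv
      ((IsLocalization.algEquiv Q.primeCompl (X.presheaf.stalk x) (Localization.AtPrime Q)).symm.toLinearEquiv.restrictScalars
        (MvPolynomial (Fin r) Γ(S, V)))
  obtain ⟨g, hg, hgflat⟩ := exists_flat_away Q hq
  -- restrict to `D(g)`
  let U' := X.basicOpen g
  have hxU' : x ∈ U' := by
    rw [Scheme.mem_basicOpen X g x hxU]
    exact (IsLocalization.AtPrime.isUnit_to_map_iff (X.presheaf.stalk x) Q g).mpr hg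
  refine ⟨V, U', hU.basicOpen g, hxU', (X.basicOpen_le g).trans hVU,
    fun i => X.presheaf.map (homOfLE (X.basicOpen_le g)).op (a i), hV,
    fun i => (TopCat.Presheaf.germ_res_apply _ _ _ _ _).trans (ha i), fun i => ?_, ?_⟩
  · haveI := (hU.basicOpen g).isLocalization_stalk ⟨x, hxU'⟩
    letI : Algebra Γ(X, U') (X.presheaf.stalk x) := (X.presheaf.germ U' x hxU').hom.toAlgebra
    rw [← IsLocalization.AtPrime.to_map_mem_maximal_iff (X.presheaf.stalk x)
      ((hU.basicOpen g).primeIdealOf ⟨x, hxU'⟩).asIdeal]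
    show X.presheaf.germ U' x hxU' _ ∈ _
    rw [TopCat.Presheaf.germ_res_apply]
    exact (IsLocalization.AtPrime.to_map_mem_maximal_iff (X.presheaf.stalk x) Q (a i)).mpr (hmem i)
  letI := (f.appLE V U' ((X.basicOpen_le g).trans hVU)).hom.toAlgebra
  haveI hlg : IsLocalization.Away g Γ(X, U') := hU.isLocalization_basicOpen g
  let e := IsLocalization.algEquiv (Submonoid.powers g) (Localization.Away g) Γ(X, U')
  have : (MvPolynomial.aeval (R := Γ(S, V)) fun i =>
      X.presheaf.map (homOfLE (X.basicOpen_le g)).op (a i)).toRingHom =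
      (e : Localization.Away g →+* Γ(X, U')).comp
        (algebraMap (MvPolynomial (Fin r) Γ(S, V)) (Localization.Away g)) := by
    refine MvPolynomial.ringHom_ext (fun t => ?_) fun i => ?_
    · show MvPolynomial.aeval (R := Γ(S, V)) _ (C t) = e (algebraMap Γ(X, U) (Localization.Away g) (MvPolynomial.aeval (R := Γ(S, V)) a (C t)))
      rw [AlgEquiv.commutes, MvPolynomial.aeval_C, MvPolynomial.aeval_C]
      exact (congr($(Scheme.Hom.appLE_map f hVU (homOfLE (X.basicOpen_le g)).op).hom t)).symm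
    · show MvPolynomial.aeval (R := Γ(S, V)) _ (MvPolynomial.X i) = e (algebraMap Γ(X, U) (Localization.Away g) (MvPolynomial.aeval (R := Γ(S, V)) a (MvPolynomial.X i)))
      rw [AlgEquiv.commutes, MvPolynomial.aeval_X, MvPolynomial.aeval_X]
      rfl
  rw [this]
  exact RingHom.Flat.comp (RingHom.flat_algebraMap_iff.mpr hgflat) (RingHom.Flat.of_bijective e.bijective)

/-- The immersion of the closed subscheme cut out by sections on an affine open. -/
theorem ker_ideal_top_cut {U : X.Opens} (hU : IsAffineOpen U) (J : Ideal Γ(X, U))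
    [IsClosedImmersion (Spec.map (CommRingCat.ofHom (Ideal.Quotient.mk J)) ≫ hU.isoSpec.inv)] :
    (Spec.map (CommRingCat.ofHom (Ideal.Quotient.mk J)) ≫ hU.isoSpec.inv).ker.ideal
        ⟨⊤, have : IsAffine U := hU; isAffineOpen_top _⟩ = J.map U.topIso.inv.hom := by
  haveI : IsAffine U := hU
  rw [Scheme.Hom.ker_apply]
  show RingHom.ker (Spec.map (CommRingCat.ofHom (Ideal.Quotient.mk J)) ≫ hU.isoSpec.inv).appTop.hom = _
  have he : (Spec.map (CommRingCat.ofHom (Ideal.Quotient.mk J)) ≫ hU.isoSpec.inv).appTop =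
      U.topIso.hom ≫ CommRingCat.ofHom (Ideal.Quotient.mk J) ≫ (Scheme.ΓSpecIso _).inv := by
    rw [Scheme.Hom.comp_appTop, IsAffineOpen.isoSpec_inv_appTop, Category.assoc]
    congr 1
    exact (Scheme.ΓSpecIso_inv_naturality _).symm
  rw [he]
  ext t
  have hinj : Function.Injective (Scheme.ΓSpecIso (CommRingCat.of (Γ(X, U) ⧸ J))).inv.hom :=
    (ConcreteCategory.bijective_of_isIso (Scheme.ΓSpecIso (CommRingCat.of (Γ(X, U) ⧸ J))).inv).1
  rw [RingHom.mem_ker, CommRingCat.comp_apply, CommRingCat.comp_apply, map_eq_zero_iff _ hinj]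
  show Ideal.Quotient.mk J (U.topIso.hom t) = 0 ↔ _
  rw [Ideal.Quotient.eq_zero_iff_mem]
  constructor
  · intro ht
    have := Ideal.mem_map_of_mem U.topIso.inv.hom ht
    rwa [U.topIso.hom_inv_id_apply] at this
  · intro ht
    have := Ideal.mem_map_of_mem U.topIso.hom.hom ht
    rw [Ideal.map_map, ← CommRingCat.hom_comp, Iso.inv_hom_id, CommRingCat.hom_id, Ideal.map_id] at this
    exact this

variable (f : X ⟶ S) {V : S.Opens} {U : X.Opens} (hU : IsAffineOpen U) (hVU : U ≤ f ⁻¹ᵁ V)
  {r : ℕ} (a : Fin r → Γ(X, U))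

/-- Flatness of the slice. -/
theorem flat_slice (hV : IsAffineOpen V)
    (hflat : letI := (f.appLE V U hVU).hom.toAlgebra;
      (MvPolynomial.aeval (R := Γ(S, V)) a).toRingHom.Flat) :
    Flat (Spec.map (CommRingCat.ofHom (Ideal.Quotient.mk (Ideal.ofList (List.ofFn a)))) ≫ hU.fromSpec ≫ f) := by
  letI := (f.appLE V U hVU).hom.toAlgebra
  rw [← IsAffineOpen.SpecMap_appLE_fromSpec f hV hU hVU, ← Category.assoc, ← Spec.map_comp]
  haveI : Flat (Spec.map (f.appLE V U hVU ≫ CommRingCat.ofHom (Ideal.Quotient.mk (Ideal.ofList (List.ofFn a))))) :=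
    (HasRingHomProperty.Spec_iff (P := @Flat)).mpr (flat_quotient_of_flat_aeval hflat)
  infer_instance

set_option backward.isDefEq.respectTransparency false in
/-- The slice is a regular immersion after any base change. -/
theorem regular_slice (hV : IsAffineOpen V)
    (hflat : letI := (f.appLE V U hVU).hom.toAlgebra;
      (MvPolynomial.aeval (R := Γ(S, V)) a).toRingHom.Flat)
    {T Z' : Scheme.{u}} {S' : Scheme.{u}} (g : S' ⟶ S) (pU : T ⟶ (U : Scheme.{u})) (pS : T ⟶ S')
    (H : IsPullback pU pS (U.ι ≫ f) g) (i' : Z' ⟶ T)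
    (q : Z' ⟶ Spec (CommRingCat.of (Γ(X, U) ⧸ Ideal.ofList (List.ofFn a))))
    (Hi : IsPullback i' q pU
      (Spec.map (CommRingCat.ofHom (Ideal.Quotient.mk (Ideal.ofList (List.ofFn a)))) ≫ hU.isoSpec.inv)) :
    Mor2.IsRegularClosedImmersion i' := by
  haveI : IsAffine U := hU
  let i := Spec.map (CommRingCat.ofHom (Ideal.Quotient.mk (Ideal.ofList (List.ofFn a)))) ≫ hU.isoSpec.inv
  haveI : IsClosedImmersion (Spec.map (CommRingCat.ofHom (Ideal.Quotient.mk (Ideal.ofList (List.ofFn a))))) :=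
    IsClosedImmersion.spec_of_surjective _ Ideal.Quotient.mk_surjective
  haveI : IsClosedImmersion i := inferInstance
  haveI hi' : IsClosedImmersion i' := MorphismProperty.of_isPullback Hi.flip inferInstance
  refine ⟨hi', fun z => ?_⟩
  have hker : i'.ker = i.ker.comap pU := by
    rw [← Scheme.IdealSheafData.ker_fst_of_isClosedImmersion, ← Hi.isoPullback_hom_fst, Scheme.Hom.ker_comp_of_isIso]
  have hpz : pS (i' z) ∈ g ⁻¹ᵁ V := by
    show g (pS (i' z)) ∈ V
    have : g (pS (i' z)) = (U.ι ≫ f) (pU (i' z)) :=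
      (congr($(H.w) (i' z))).symm
    rw [this]
    exact hVU (pU (i' z)).2
  obtain ⟨_, ⟨W', hW', rfl⟩, hzW', hW'V⟩ :=
    S'.isBasis_affineOpens.exists_subset_of_mem_open hpz (g ⁻¹ᵁ V).2
  have hUS : (⊤ : (U : Scheme.{u}).Opens) ≤ (U.ι ≫ f) ⁻¹ᵁ V := fun y _ => hVU y.2
  have hW'V' : W' ≤ g ⁻¹ᵁ V := hW'V
  let UY : T.Opens := pU ⁻¹ᵁ ⊤ ⊓ pS ⁻¹ᵁ W'
  have hUY : IsAffineOpen UY := by
    haveI : IsAffine (V : Scheme.{u}) := hV
    haveI : IsAffine (W' : Scheme.{u}) := hW'
    haveI : IsAffine ((⊤ : (U : Scheme.{u}).Opens) : Scheme.{u}) := isAffineOpen_top _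
    exact .of_isIso (Scheme.Hom.isPullback_resLE H hW'V' hUS (rfl : UY = _)).isoPullback.hom
  have hiso := isIso_pushoutSection_of_isAffineOpen H hW'V' hUS (rfl : UY = _) hV hW' (isAffineOpen_top _)
  have hpo := (isIso_pushoutSection_iff ..).mp hiso
  letI : Algebra Γ(S, V) Γ(X, U) := (f.appLE V U hVU).hom.toAlgebra
  letI : Algebra Γ(S, V) Γ(S', W') := (g.appLE V W' hW'V').hom.toAlgebra
  letI : Algebra Γ((U : Scheme.{u}), ⊤) Γ(T, UY) := (pU.appLE ⊤ UY (by simp [UY])).hom.toAlgebra
  letI : Algebra Γ(S', W') Γ(T, UY) := (pS.appLE W' UY (by simp [UY])).hom.toAlgebra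
  letI : Algebra Γ(S, V) Γ((U : Scheme.{u}), ⊤) := ((U.ι ≫ f).appLE V ⊤ hUS).hom.toAlgebra
  letI : Algebra Γ(S, V) Γ(T, UY) :=
    ((pU.appLE ⊤ UY (by simp [UY])).hom.comp ((U.ι ≫ f).appLE V ⊤ hUS).hom).toAlgebra
  haveI : IsScalarTower Γ(S, V) Γ((U : Scheme.{u}), ⊤) Γ(T, UY) := IsScalarTower.of_algebraMap_eq fun _ => rfl
  haveI : IsScalarTower Γ(S, V) Γ(S', W') Γ(T, UY) :=
    IsScalarTower.of_algebraMap_eq fun t => congr($(hpo.w).hom t)
  haveI : Algebra.IsPushout Γ(S, V) Γ((U : Scheme.{u}), ⊤) Γ(S', W') Γ(T, UY) :=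
    CommRingCat.isPushout_iff_isPushout.mp hpo
  let b : Fin r → Γ((U : Scheme.{u}), ⊤) := fun j => U.topIso.inv (a j)
  have heq : ∀ t : Γ(S, V), algebraMap Γ(S, V) Γ((U : Scheme.{u}), ⊤) t =
      U.topIso.inv (f.appLE V U hVU t) := fun t => by
    have : (U.ι ≫ f).appLE V ⊤ hUS = f.appLE V U hVU ≫ U.topIso.inv := by
      rw [← Scheme.Hom.appLE_comp_appLE U.ι f V U ⊤ hVU (by simp), Scheme.Opens.ι_appLE]
      rfl
    exact congr($(this).hom t)
  have hflat' : (MvPolynomial.aeval (R := Γ(S, V)) b).toRingHom.Flat := by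
    have : (MvPolynomial.aeval (R := Γ(S, V)) b).toRingHom =
        U.topIso.inv.hom.comp (MvPolynomial.aeval (R := Γ(S, V)) a).toRingHom := by
      refine MvPolynomial.ringHom_ext (fun t => ?_) fun j => ?_
      · show MvPolynomial.aeval (R := Γ(S, V)) b (C t) = U.topIso.inv (MvPolynomial.aeval (R := Γ(S, V)) a (C t))
        rw [MvPolynomial.aeval_C, MvPolynomial.aeval_C]
        exact heq t
      · show MvPolynomial.aeval (R := Γ(S, V)) b (MvPolynomial.X j) = U.topIso.inv (MvPolynomial.aeval (R := Γ(S, V)) a (MvPolynomial.X j))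
        rw [MvPolynomial.aeval_X, MvPolynomial.aeval_X]
    rw [this]
    exact RingHom.Flat.comp hflat (RingHom.Flat.of_bijective (ConcreteCategory.bijective_of_isIso U.topIso.inv))
  have hwr := weaklyRegular_pushout (R' := Γ(S', W')) (B := Γ(T, UY)) hflat'
  have hzUY : i' z ∈ UY := ⟨trivial, hzW'⟩
  have hideal : i'.ker.ideal ⟨UY, hUY⟩ =
      Ideal.ofList ((List.ofFn b).map (algebraMap Γ((U : Scheme.{u}), ⊤) Γ(T, UY))) := by
    rw [hker, GrothLib.BlowUp.ideal_comap_eq_map i.ker pU ⟨⊤, isAffineOpen_top _⟩ ⟨UY, hUY⟩ (by simp [UY]),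
      ker_ideal_top_cut hU, Ideal.map_ofList, Ideal.map_ofList, List.map_ofFn]
    rfl
  refine ⟨UY, hUY, hzUY, _, ⟨hwr, ?_⟩, hideal⟩
  intro htop
  rw [smul_eq_mul, Ideal.mul_top, ← hideal] at htop
  have hmem : i' z ∈ i'.ker.support := i'.range_subset_ker_support ⟨z, rfl⟩
  have h1 := (Scheme.IdealSheafData.mem_support_iff_of_mem (I := i'.ker) (U := ⟨UY, hUY⟩) hzUY).mp hmem
  rw [Scheme.mem_zeroLocus_iff] at h1
  exact h1 1 (by rw [← htop]; trivial) (by rw [T.basicOpen_of_isUnit isUnit_one]; exact hzUY)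

end GrothLib.FibreFlat
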