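import Groth.Agent.Lib.FibreFlat.InjCriterion
import Groth.Agent.Lib.FibreFlat.EssFP

/-!
# Injective modulo the maximal ideal, local rings essentially of finite presentation
-/

universe u

namespace GrothLib.FibreFlat

open TensorProduct Function IsLocalRing MvPolynomial

set_option maxHeartbeats 1000000 in
/-- **EGA IV 11.3.7 for local homomorphisms essentially of finite presentation.** -/
theorem injective_flat_coker_local {R S M N : Type u} [CommRing R] [CommRing S] [IsLocalRing R]
    [IsLocalRing S] [Algebra R S] [IsLocalHom (algebraMap R S)]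
    (hS : CAlgX.IsEssFinitePresentation R S)
    [AddCommGroup M] [Module S M] [Module R M] [IsScalarTower R S M] [Module.FinitePresentation S M]
    [AddCommGroup N] [Module S N] [Module R N] [IsScalarTower R S N] [Module.FinitePresentation S N]
    [Module.Flat R N] (u : M →ₗ[S] N)
    (hu : ∀ x : M, u x ∈ (maximalIdeal R).map (algebraMap R S) • (⊤ : Submodule S N) →
      x ∈ (maximalIdeal R).map (algebraMap R S) • (⊤ : Submodule S M)) :
    Injective u ∧ Module.Flat R (N ⧸ LinearMap.range u) := by
  classical
  obtain ⟨m, e, ψ, 𝔞, -, h𝔞, hs, h0, hk⟩ :=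
    exists_presentation hS (MvPolynomial.aeval (R := R) (fun i : Fin 0 => (i.elim0 : S)))
  let P := (maximalIdeal S).comap ψ
  let B := MvPolynomial (Fin m) R
  have hP : P.comap C = maximalIdeal R := by
    ext r
    rw [Ideal.mem_comap, show P = (maximalIdeal S).comap ψ from rfl, Ideal.mem_comap,
      ← MvPolynomial.algebraMap_eq, AlgHom.commutes, mem_maximalIdeal, mem_maximalIdeal,
      mem_nonunits_iff, mem_nonunits_iff, isUnit_map_iff]
  have hunit : ∀ t ∈ P.primeCompl, IsUnit (ψ t) := fun t ht => by
    by_contra h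
    exact ht ((mem_maximalIdeal (ψ t)).mpr h)
  letI : Algebra B S := ψ.toRingHom.toAlgebra
  letI : Module B M := Module.compHom M (algebraMap B S)
  haveI : IsScalarTower B S M := IsScalarTower.of_algebraMap_smul fun _ _ => rfl
  letI : Module B N := Module.compHom N (algebraMap B S)
  haveI : IsScalarTower B S N := IsScalarTower.of_algebraMap_smul fun _ _ => rfl
  haveI : IsScalarTower R B M := IsScalarTower.of_algebraMap_smul fun r x => by
    show ψ (algebraMap R B r) • x = r • x
    rw [ψ.commutes, algebraMap_smul]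
  haveI : IsScalarTower R B N := IsScalarTower.of_algebraMap_smul fun r x => by
    show ψ (algebraMap R B r) • x = r • x
    rw [ψ.commutes, algebraMap_smul]
  obtain ⟨M₁, _, _, _, lM, hlM⟩ := exists_fp_localized P.primeCompl hunit hs 𝔞 h𝔞 h0 hk M
  obtain ⟨N₁, _, _, _, lN, hlN⟩ := exists_fp_localized P.primeCompl hunit hs 𝔞 h𝔞 h0 hk N
  letI : Module R M₁ := Module.compHom M₁ (algebraMap R B)
  haveI : IsScalarTower R B M₁ := IsScalarTower.of_algebraMap_smul fun _ _ => rfl
  letI : Module R N₁ := Module.compHom N₁ (algebraMap R B)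
  haveI : IsScalarTower R B N₁ := IsScalarTower.of_algebraMap_smul fun _ _ => rfl
  obtain ⟨v, c, hv⟩ := Module.FinitePresentation.exists_lift_of_isLocalizedModule P.primeCompl lN
    (u.restrictScalars B ∘ₗ lM)
  have hvl : ∀ x, lN (v x) = ψ (c : B) • u (lM x) := fun x => LinearMap.congr_fun hv x
  have hcu : IsUnit (ψ (c : B)) := hunit c c.2
  haveI : Module.Flat R (LocalizedModule P.primeCompl N₁) := Module.Flat.of_linearEquiv
    ((IsLocalizedModule.linearEquiv P.primeCompl (LocalizedModule.mkLinearMap P.primeCompl N₁)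
      lN).restrictScalars R)
  have hmap : ∀ (x : N₁), x ∈ maximalIdeal R • (⊤ : Submodule R N₁) →
      lN x ∈ (maximalIdeal R).map (algebraMap R S) • (⊤ : Submodule S N) := fun x hx => by
    refine Submodule.smul_induction_on hx (fun r hr y _ => ?_) fun p q hp hq => ?_
    · rw [LinearMap.map_smul_of_tower, ← algebraMap_smul S r]
      exact Submodule.smul_mem_smul (Ideal.mem_map_of_mem _ hr) trivial
    · rw [map_add]
      exact add_mem hp hq
  have hback : ∀ y ∈ (maximalIdeal R).map (algebraMap R S) • (⊤ : Submodule S M),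
      ∃ t ∈ P.primeCompl, ∃ z ∈ maximalIdeal R • (⊤ : Submodule R M₁), t • y = lM z := by
    intro y hy
    have hy' : y ∈ maximalIdeal R • (⊤ : Submodule R M) := by
      rw [← Submodule.restrictScalars_top R S M, ← Ideal.smul_restrictScalars]
      exact hy
    refine Submodule.smul_induction_on hy' (fun r hr w _ => ?_) fun a b ha hb => ?_
    · obtain ⟨⟨z, t⟩, hz⟩ := IsLocalizedModule.surj P.primeCompl lM w
      exact ⟨t, t.2, r • z, Submodule.smul_mem_smul hr trivial, by
        rw [smul_comm, LinearMap.map_smul_of_tower, ← hz]; rfl⟩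
    · obtain ⟨t, ht, z, hz, e⟩ := ha
      obtain ⟨t', ht', z', hz', e'⟩ := hb
      refine ⟨t' * t, mul_mem ht' ht, t' • z + t • z', add_mem ?_ ?_, ?_⟩
      · exact Submodule.smul_top_le_comap_smul_top _ ((LinearMap.lsmul B M₁ t').restrictScalars R) hz
      · exact Submodule.smul_top_le_comap_smul_top _ ((LinearMap.lsmul B M₁ t).restrictScalars R) hz'
      · rw [map_add, map_smul, map_smul, ← e, ← e', smul_add, mul_smul, smul_smul t t',
          mul_comm t t', mul_smul]
  obtain ⟨hinj, hflat⟩ := injective_flat_coker_of_fibre v P hP fun x hx => by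
    have h1 : ψ (c : B) • u (lM x) ∈ (maximalIdeal R).map (algebraMap R S) • (⊤ : Submodule S N) := by
      rw [← hvl]
      exact hmap _ hx
    obtain ⟨w, hw⟩ := hcu.exists_left_inv
    have h2 : u (lM x) ∈ (maximalIdeal R).map (algebraMap R S) • (⊤ : Submodule S N) := by
      rw [← one_smul S (u (lM x)), ← hw, mul_smul]
      exact Submodule.smul_mem _ w h1
    obtain ⟨t, ht, z, hz, e⟩ := hback _ (hu _ h2)
    rw [← map_smul] at e
    obtain ⟨t', ht'⟩ := (IsLocalizedModule.eq_iff_exists P.primeCompl lM).mp e
    refine ⟨(t' : B) * t, mul_mem t'.2 ht, ?_⟩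
    rw [mul_smul, show (t' : B) • t • x = (t' : B) • z from ht']
    exact Submodule.smul_top_le_comap_smul_top _
      ((LinearMap.lsmul B M₁ (t' : B)).restrictScalars R) hz
  constructor
  · rw [injective_iff_map_eq_zero]
    intro y hy
    obtain ⟨⟨x, t⟩, hx⟩ := IsLocalizedModule.surj P.primeCompl lM y
    have h1 : lN (v x) = 0 := by
      rw [hvl, ← hx]
      show ψ (c : B) • u (algebraMap B S (t : B) • y) = 0
      rw [map_smul, hy, smul_zero, smul_zero]
    obtain ⟨s, hs'⟩ := (IsLocalizedModule.eq_zero_iff P.primeCompl lN).mp h1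
    obtain ⟨r, hr, hrx⟩ := hinj ((s : B) • x) (by rw [map_smul]; exact hs')
    have h2 : algebraMap B S (r * ((s : B) * t)) • y = 0 := by
      rw [algebraMap_smul, mul_smul, mul_smul, show (t : B) • y = lM x from hx, ← map_smul,
        ← map_smul, hrx, map_zero]
    exact (IsUnit.smul_eq_zero (hunit _ (mul_mem hr (mul_mem s.2 t.2)))).mp h2
  · let C₁ := N₁ ⧸ LinearMap.range v
    have hle : LinearMap.range v ≤
        LinearMap.ker ((LinearMap.range u).mkQ.restrictScalars B ∘ₗ lN) := by
      rintro _ ⟨x, rfl⟩
      show (LinearMap.range u).mkQ (lN (v x)) = 0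
      rw [hvl, map_smul, show (LinearMap.range u).mkQ (u (lM x)) = 0 from
        (Submodule.Quotient.mk_eq_zero _).mpr ⟨_, rfl⟩, smul_zero]
    let lC : C₁ →ₗ[B] N ⧸ LinearMap.range u := (LinearMap.range v).liftQ _ hle
    haveI : IsLocalizedModule P.primeCompl lC := by
      refine ⟨fun t => ?_, fun y => ?_, fun {a b} hab => ?_⟩
      · rw [Module.End.isUnit_iff]
        refine ⟨fun p q hpq => (hunit t t.2).smul_left_cancel.mp ?_,
          fun p => ⟨(↑(hunit t t.2).unit⁻¹ : S) • p, ?_⟩⟩
        · simp only [Module.algebraMap_end_apply] at hpq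
          rw [← algebraMap_smul S (t : B) p, ← algebraMap_smul S (t : B) q] at hpq
          exact hpq
        · rw [Module.algebraMap_end_apply, ← algebraMap_smul S (t : B), smul_smul]
          show (ψ (t : B) * _) • p = p
          rw [(hunit t t.2).mul_val_inv, one_smul]
      · obtain ⟨y, rfl⟩ := (LinearMap.range u).mkQ_surjective y
        obtain ⟨⟨z, t⟩, hz⟩ := IsLocalizedModule.surj P.primeCompl lN y
        refine ⟨⟨(LinearMap.range v).mkQ z, t⟩, ?_⟩
        show (t : B) • (LinearMap.range u).mkQ y = (LinearMap.range u).mkQ (lN z)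
        rw [← hz]
        rfl
      · obtain ⟨a, rfl⟩ := (LinearMap.range v).mkQ_surjective a
        obtain ⟨b, rfl⟩ := (LinearMap.range v).mkQ_surjective b
        obtain ⟨y, hy⟩ : lN (a - b) ∈ LinearMap.range u := by
          refine (Submodule.Quotient.mk_eq_zero _).mp ?_
          show (LinearMap.range u).mkQ (lN (a - b)) = 0
          rw [map_sub, map_sub, sub_eq_zero]
          exact hab
        obtain ⟨⟨x, t⟩, hx⟩ := IsLocalizedModule.surj P.primeCompl lM y
        have h1 : lN (((c : B) * t) • (a - b)) = lN (v x) := by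
          rw [map_smul, hvl, ← hy, ← hx, ← algebraMap_smul S ((c : B) * t), map_mul, mul_smul]
          congr 1
          exact (map_smul u (algebraMap B S (t : B)) y).symm
        obtain ⟨s, hs'⟩ := (IsLocalizedModule.eq_iff_exists P.primeCompl lN).mp h1
        refine ⟨s * (c * t), ?_⟩
        rw [Submonoid.smul_def, Submonoid.smul_def, ← sub_eq_zero, ← smul_sub, ← map_sub,
          ← map_smul]
        refine (Submodule.Quotient.mk_eq_zero _).mpr ⟨(s : B) • x, ?_⟩
        rw [map_smul, Submonoid.coe_mul, Submonoid.coe_mul, mul_smul]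
        exact hs'.symm
    haveI := hflat
    exact Module.Flat.of_linearEquiv ((IsLocalizedModule.linearEquiv P.primeCompl lC
      (LocalizedModule.mkLinearMap P.primeCompl C₁)).restrictScalars R)

end GrothLib.FibreFlat
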