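import Groth.Agent.Lib.FibreFlat.Stage

/-!
# Base change from a stage

`R[z] ⊗ M₀` is the base change of `S[z] ⊗ M₀` along `S → R`, hence also along `S[x] → R[x]`.
-/

universe u

namespace GrothLib.FibreFlat

open TensorProduct Function MvPolynomial
open Algebra (IsPushout)

/-- Tensoring a base change with a module over the big ring. -/
theorem exists_theta {T T' : Type u} [CommRing T] [CommRing T'] [Algebra T T'] {NS NR : Type u}
    [AddCommGroup NS] [AddCommGroup NR] [Module T NS] [Module T NR] [Module T' NR]
    [IsScalarTower T T' NR] {g : NS →ₗ[T] NR} (hg : IsBaseChange T' g) (A : Type u)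
    [AddCommGroup A] [Module T A] [Module T' A] [IsScalarTower T T' A] :
    ∃ θ : NS ⊗[T] A →+ NR ⊗[T'] A, Bijective θ ∧ ∀ ν a, θ (ν ⊗ₜ a) = g ν ⊗ₜ a := by
  let e : NS ⊗[T] A ≃+ NR ⊗[T'] A :=
    (((TensorProduct.comm T NS A).toAddEquiv.trans
      (AlgebraTensorModule.cancelBaseChange T T' T' A NS).symm.toAddEquiv).trans
      (TensorProduct.congr (LinearEquiv.refl T' A) hg.equiv).toAddEquiv).trans
      (TensorProduct.comm T' A NR).toAddEquiv
  refine ⟨e.toAddMonoidHom, e.bijective, fun ν a => ?_⟩
  simp [e, IsBaseChange.equiv_tmul]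

/-- A base change along `S → R` is one along a pushout `T → T'` of it. -/
theorem isBaseChange_of_isPushout {S R T T' : Type u} [CommRing S] [CommRing R] [CommRing T]
    [CommRing T'] [Algebra S R] [Algebra S T] [Algebra R T'] [Algebra T T'] [Algebra S T']
    [IsScalarTower S R T'] [IsScalarTower S T T'] [IsPushout S R T T']
    {NS NR : Type u} [AddCommGroup NS] [AddCommGroup NR] [Module S NS] [Module T NS]
    [IsScalarTower S T NS] [Module S NR] [Module R NR] [Module T NR] [Module T' NR]
    [IsScalarTower S R NR] [IsScalarTower T T' NR] [IsScalarTower R T' NR] [IsScalarTower S T NR]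
    (g : NS →ₗ[T] NR) (hg : IsBaseChange R (g.restrictScalars S)) : IsBaseChange T' g := by
  have key : ∀ x, g.liftBaseChange T' ((IsPushout.cancelBaseChange S R T T' NS).symm x) =
      hg.equiv x := fun x => by
    induction x using TensorProduct.induction_on with
    | zero => simp
    | add a b ha hb => simp only [map_add, ha, hb]
    | tmul r ν =>
      rw [IsPushout.cancelBaseChange_symm_tmul, LinearMap.liftBaseChange_tmul,
        IsBaseChange.equiv_tmul, algebraMap_smul, LinearMap.restrictScalars_apply]
  have hb : Bijective (g.liftBaseChange T') := by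
    have : ⇑(g.liftBaseChange T') = hg.equiv ∘ IsPushout.cancelBaseChange S R T T' NS := by
      funext x
      rw [comp_apply, ← key, LinearEquiv.symm_apply_apply]
    rw [this]
    exact hg.equiv.bijective.comp (LinearEquiv.bijective _)
  exact IsBaseChange.of_equiv (LinearEquiv.ofBijective _ hb) fun x => by simp

attribute [local instance] MvPolynomial.algebraMvPolynomial

variable {R₀ : Type u} [CommRing R₀] {m : ℕ} (M₀ : Type u) [AddCommGroup M₀]
  [Module (MvPolynomial (Fin m) R₀) M₀] [Module R₀ M₀]
  [IsScalarTower R₀ (MvPolynomial (Fin m) R₀) M₀]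
  (S R : Type u) [CommRing S] [CommRing R] [Algebra R₀ S] [Algebra R₀ R]
  [Algebra S R] [IsScalarTower R₀ S R]

/-- The map on base changes of `M₀`, linear over the smaller ring. -/
noncomputable def modMapS :
    MvPolynomial (Fin m) S ⊗[MvPolynomial (Fin m) R₀] M₀ →ₗ[S]
      MvPolynomial (Fin m) R ⊗[MvPolynomial (Fin m) R₀] M₀ where
  toFun := modMap (m := m) M₀ (IsScalarTower.toAlgHom R₀ S R)
  map_add' := map_add _
  map_smul' s x := by
    rw [RingHom.id_apply, modMap_smul_C]
    exact algebraMap_smul (M := MvPolynomial (Fin m) R ⊗[MvPolynomial (Fin m) R₀] M₀) R s _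

theorem isBaseChange_modMapS : IsBaseChange R (modMapS (m := m) (R₀ := R₀) M₀ S R) := by
  let e := ((TensorProduct.AlgebraTensorModule.congr (LinearEquiv.refl R R) (cancel (m := m) M₀ S)).trans
    (AlgebraTensorModule.cancelBaseChange R₀ S R R M₀)).trans (cancel (m := m) M₀ R).symm
  refine IsBaseChange.of_equiv e fun x => ?_
  apply (cancel (m := m) M₀ R).injective
  simp only [e, LinearEquiv.trans_apply, LinearEquiv.apply_symm_apply,
    AlgebraTensorModule.congr_tmul, LinearEquiv.refl_apply]
  refine Eq.trans ?_ (cancel_modMap M₀ _ x).symm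
  induction cancel (m := m) M₀ S x using TensorProduct.induction_on with
  | zero => simp
  | add a b ha hb => simp only [tmul_add, map_add, ha, hb]
  | tmul s n => simp [Algebra.smul_def]

end GrothLib.FibreFlat
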