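import Groth.Agent.Lib.FibreFlat.StageFlat
import Groth.Agent.Lib.FibreFlat.BaseChange
import Mathlib.RingTheory.Polynomial.Quotient
import Mathlib.RingTheory.Localization.BaseChange

/-!
# The fibre criterion of flatness without noetherian hypotheses (EGA IV 11.3.10)
-/

universe u

namespace GrothLib.FibreFlat

open TensorProduct Function IsLocalRing MvPolynomial GrothLib.Flatness GrothLib.FlatStage

variable {R : Type u} [CommRing R] [IsLocalRing R] {m n : ℕ}

/-- Modulo `𝔪 R[x]` every ideal of `R[x]` is finitely generated. -/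
theorem exists_finite_sup_eq (I : Ideal (MvPolynomial (Fin n) R)) :
    ∃ (k : ℕ) (j : Fin k → MvPolynomial (Fin n) R), (∀ i, j i ∈ I) ∧
      I ⊔ (maximalIdeal R).map C ≤ Ideal.span (Set.range j) ⊔ (maximalIdeal R).map C := by
  set K : Ideal (MvPolynomial (Fin n) R) := (maximalIdeal R).map C
  letI := Ideal.Quotient.field (maximalIdeal R)
  haveI : IsNoetherianRing (MvPolynomial (Fin n) R ⧸ K) :=
    isNoetherianRing_of_ringEquiv _
      (quotientEquivQuotientMvPolynomial (σ := Fin n) (maximalIdeal R)).toRingEquiv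
  obtain ⟨k, g, hg⟩ := Submodule.fg_iff_exists_fin_generating_family.mp
    (IsNoetherian.noetherian (I.map (Ideal.Quotient.mk K)))
  have hmem : ∀ i, ∃ x ∈ I, Ideal.Quotient.mk K x = g i := fun i =>
    (Ideal.mem_map_iff_of_surjective _ Ideal.Quotient.mk_surjective).mp
      (hg ▸ Submodule.subset_span ⟨i, rfl⟩)
  choose j hj hjg using hmem
  refine ⟨k, j, hj, sup_le ?_ le_sup_right⟩
  have h1 : I.map (Ideal.Quotient.mk K) ≤ (Ideal.span (Set.range j)).map (Ideal.Quotient.mk K) := by
    rw [← hg, Submodule.span_le]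
    rintro _ ⟨i, rfl⟩
    rw [← hjg i]
    exact Ideal.mem_map_of_mem _ (Ideal.subset_span ⟨i, rfl⟩)
  refine (Ideal.map_le_iff_le_comap.mp h1).trans ?_
  rw [Ideal.comap_map_of_surjective _ Ideal.Quotient.mk_surjective, ← RingHom.ker_eq_comap_bot,
    Ideal.mk_ker]

attribute [local instance] MvPolynomial.algebraMvPolynomial

/-- `ring hom` of polynomial substitution commutes with a change of coefficients. -/
theorem map_aeval {A B : Type u} [CommRing A] [CommRing B] (f : A →+* B)
    (p : Fin n → MvPolynomial (Fin m) A) (x : MvPolynomial (Fin n) A) :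
    MvPolynomial.map f (aeval p x) =
      aeval (fun i => MvPolynomial.map f (p i)) (MvPolynomial.map f x) := by
  induction x using MvPolynomial.induction_on with
  | C t => simp [MvPolynomial.algebraMap_eq]
  | add a b ha hb => simp only [map_add, ha, hb]
  | mul_X a i ha => simp only [map_mul, map_X, aeval_X, ha]

set_option maxHeartbeats 1000000 in
/-- **Fibre criterion.** `L` a localization at a prime over `𝔪_R` of a finitely presented
`R[z]`-module, flat over `R`, killed by `I ⊆ R[x]`; if `L/𝔪L` is flat over `R[x]/(I + 𝔪)`, then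
tensoring with `L` preserves injections of `R[x]/I`-modules. -/
theorem flat_core {M : Type u} [AddCommGroup M] [Module (MvPolynomial (Fin m) R) M]
    [Module.FinitePresentation (MvPolynomial (Fin m) R) M]
    [Algebra (MvPolynomial (Fin n) R) (MvPolynomial (Fin m) R)]
    [IsScalarTower R (MvPolynomial (Fin n) R) (MvPolynomial (Fin m) R)]
    (P : Ideal (MvPolynomial (Fin m) R)) [P.IsPrime] (hP : P.comap C = maximalIdeal R)
    {L : Type u} [AddCommGroup L] [Module (MvPolynomial (Fin m) R) L] [Module R L]
    [IsScalarTower R (MvPolynomial (Fin m) R) L] [Module (MvPolynomial (Fin n) R) L]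
    [IsScalarTower (MvPolynomial (Fin n) R) (MvPolynomial (Fin m) R) L]
    (lM : M →ₗ[MvPolynomial (Fin m) R] L) [IsLocalizedModule P.primeCompl lM] [Module.Flat R L]
    (I : Ideal (MvPolynomial (Fin n) R)) (hI : ∀ a ∈ I, ∀ x : L, a • x = 0)
    (hfib : Module.Flat (MvPolynomial (Fin n) R ⧸ (I ⊔ (maximalIdeal R).map C))
      ((MvPolynomial (Fin n) R ⧸ (I ⊔ (maximalIdeal R).map C)) ⊗[MvPolynomial (Fin n) R] L))
    (A A' : Type u) [AddCommGroup A] [Module (MvPolynomial (Fin n) R) A] [AddCommGroup A']
    [Module (MvPolynomial (Fin n) R) A'] (f : A →ₗ[MvPolynomial (Fin n) R] A')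
    (hA : Module.IsTorsionBySet (MvPolynomial (Fin n) R) A I)
    (hA' : Module.IsTorsionBySet (MvPolynomial (Fin n) R) A' I) (hf : Injective f) :
    Injective (f.lTensor L) := by
  classical
  haveI : IsScalarTower R (MvPolynomial (Fin n) R) L := IsScalarTower.of_algebraMap_smul fun r x => by
    rw [← algebraMap_smul (MvPolynomial (Fin m) R) (algebraMap R (MvPolynomial (Fin n) R) r) x,
      ← IsScalarTower.algebraMap_apply, algebraMap_smul]
  let pR : Fin n → MvPolynomial (Fin m) R := fun i => 
    algebraMap (MvPolynomial (Fin n) R) (MvPolynomial (Fin m) R) (X i)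
  have hpR : ∀ x, algebraMap (MvPolynomial (Fin n) R) (MvPolynomial (Fin m) R) x = aeval pR x :=
    fun x => DFunLike.congr_fun
      (aeval_unique (IsScalarTower.toAlgHom R (MvPolynomial (Fin n) R) (MvPolynomial (Fin m) R))) x
  have hact : ∀ (x : MvPolynomial (Fin n) R) (y : L), x • y = aeval pR x • y := fun x y => by
    rw [← hpR, algebraMap_smul]
  -- data over a noetherian local ring
  obtain ⟨k, jR, hjI, hjsup⟩ := exists_finite_sup_eq I
  obtain ⟨r, K, eM, hK⟩ :=
    Module.FinitePresentation.exists_fin (MvPolynomial (Fin m) R) M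
  obtain ⟨s, gR, hgR⟩ := Submodule.fg_iff_exists_fin_generating_family.mp hK
  let T : Set R := (⋃ i, ↑(pR i).coeffs) ∪ (⋃ i, ↑(jR i).coeffs) ∪ ⋃ (i) (l), ↑(gR i l).coeffs
  haveI : IsNoetherianRing (ULift.{u} ℤ) := isNoetherianRing_of_ringEquiv ℤ ULift.ringEquiv.symm
  obtain ⟨R₀, _, _, _, -, h₀, -, hinj₀, hloc₀, hT⟩ := exists_stage
    ((Int.castRingHom R).comp (ULift.ringEquiv : ULift.{u} ℤ ≃+* ℤ).toRingHom) (T := T)
    (((Set.finite_iUnion fun _ => Finset.finite_toSet _).union
      (Set.finite_iUnion fun _ => Finset.finite_toSet _)).union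
        (Set.finite_iUnion fun _ => Set.finite_iUnion fun _ => Finset.finite_toSet _))
  letI : Algebra R₀ R := h₀.toAlgebra
  haveI : IsLocalHom (algebraMap R₀ R) := hloc₀
  choose p₀ hp₀ using fun i => exists_map_eq (algebraMap R₀ R) (p := pR i)
    ((Set.subset_iUnion (fun i => ↑(pR i).coeffs) i).trans fun x hx => hT (Or.inl (Or.inl hx)))
  choose j₀ hj₀ using fun i => exists_map_eq (algebraMap R₀ R) (p := jR i)
    ((Set.subset_iUnion (fun i => ↑(jR i).coeffs) i).trans fun x hx => hT (Or.inl (Or.inr hx)))
  choose g₀ hg₀ using fun i l => exists_map_eq (algebraMap R₀ R) (p := gR i l)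
    fun x hx => hT (Or.inr (Set.mem_iUnion_of_mem i (Set.mem_iUnion_of_mem l hx)))
  have hpmap : (fun i => MvPolynomial.map (algebraMap R₀ R) (p₀ i)) = pR := funext hp₀
  let N₀ : Submodule (MvPolynomial (Fin m) R₀) (Fin r → MvPolynomial (Fin m) R₀) :=
    Submodule.span _ (Set.range g₀ ∪
      Set.range fun x : Fin k × Fin r => aeval p₀ (j₀ x.1) • Pi.single x.2 1)
  let M₀ := (Fin r → MvPolynomial (Fin m) R₀) ⧸ N₀
  -- the map to `L`
  letI : Module (MvPolynomial (Fin m) R₀) L :=
    Module.compHom L (algebraMap (MvPolynomial (Fin m) R₀) (MvPolynomial (Fin m) R))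
  haveI : IsScalarTower (MvPolynomial (Fin m) R₀) (MvPolynomial (Fin m) R) L :=
    IsScalarTower.of_algebraMap_smul fun _ _ => rfl
  let πM : (Fin r → MvPolynomial (Fin m) R) →ₗ[MvPolynomial (Fin m) R] M :=
    eM.symm.toLinearMap ∘ₗ K.mkQ
  let ℓ : Fin r → L := fun l => lM (πM (Pi.single l 1))
  have hπ : ∀ v, lM (πM v) = ∑ l, v l • ℓ l := fun v => by
    conv_lhs => rw [pi_eq_sum_univ' v]
    simp [map_sum, map_smul, ℓ]
  have hφ : N₀ ≤ LinearMap.ker (Fintype.linearCombination (MvPolynomial (Fin m) R₀) ℓ) := by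
    refine Submodule.span_le.mpr ?_
    rintro v (⟨i, rfl⟩ | ⟨⟨i, l⟩, rfl⟩)
    · rw [SetLike.mem_coe, LinearMap.mem_ker, Fintype.linearCombination_apply]
      have h0 : πM (gR i) = 0 := by
        have : K.mkQ (gR i) = 0 := (Submodule.Quotient.mk_eq_zero K).mpr
          (hgR ▸ Submodule.subset_span ⟨i, rfl⟩)
        simp [πM, this]
      rw [← map_zero lM, ← h0, hπ]
      refine Finset.sum_congr rfl fun l _ => ?_
      rw [← algebraMap_smul (MvPolynomial (Fin m) R) (g₀ i l), ← hg₀]
      rfl
    · rw [SetLike.mem_coe, LinearMap.mem_ker, map_smul, Fintype.linearCombination_apply_single,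
        one_smul, ← algebraMap_smul (MvPolynomial (Fin m) R) (aeval p₀ (j₀ i))]
      show MvPolynomial.map (algebraMap R₀ R) (aeval p₀ (j₀ i)) • ℓ l = 0
      rw [map_aeval, hpmap, hj₀, ← hact]
      exact hI _ (hjI i) _
  let ι : MvPolynomial (Fin m) R ⊗[MvPolynomial (Fin m) R₀] M₀ →ₗ[MvPolynomial (Fin m) R] L :=
    LinearMap.liftBaseChange _ (N₀.liftQ _ hφ)
  let ε : (Fin r → MvPolynomial (Fin m) R) →ₗ[MvPolynomial (Fin m) R]
      MvPolynomial (Fin m) R ⊗[MvPolynomial (Fin m) R₀] M₀ :=
    Fintype.linearCombination (MvPolynomial (Fin m) R) fun l => 1 ⊗ₜ N₀.mkQ (Pi.single l 1)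
  have hει : ∀ v, ι (ε v) = lM (πM v) := fun v => by
    simp only [ι, ε, hπ, Fintype.linearCombination_apply, map_sum, map_smul,
      LinearMap.liftBaseChange_tmul, one_smul]
    refine Finset.sum_congr rfl fun l _ => ?_
    congr 1
    show Fintype.linearCombination (MvPolynomial (Fin m) R₀) ℓ (Pi.single l 1) = ℓ l
    rw [Fintype.linearCombination_apply_single, one_smul]
  have hεmap : ∀ v : Fin r → MvPolynomial (Fin m) R₀,
      ε (fun l => MvPolynomial.map (algebraMap R₀ R) (v l)) = 1 ⊗ₜ N₀.mkQ v := fun v => by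
    conv_rhs => rw [pi_eq_sum_univ' v, map_sum, tmul_sum]
    simp only [ε, Fintype.linearCombination_apply]
    refine Finset.sum_congr rfl fun l _ => ?_
    rw [map_smul, tmul_smul]
    exact algebraMap_smul (M := MvPolynomial (Fin m) R ⊗[MvPolynomial (Fin m) R₀] M₀)
      (MvPolynomial (Fin m) R) (v l) _
  have hεsurj : Surjective ε := by
    rw [← LinearMap.range_eq_top, eq_top_iff]
    intro y _
    induction y using TensorProduct.induction_on with
    | zero => exact zero_mem _
    | add a b ha hb => exact add_mem (ha trivial) (hb trivial)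
    | tmul q w =>
      obtain ⟨v, rfl⟩ := N₀.mkQ_surjective w
      rw [← mul_one q, ← smul_eq_mul, ← smul_tmul', ← hεmap]
      exact Submodule.smul_mem _ _ ⟨_, rfl⟩
  have hεK : ∀ v ∈ K, ε v = 0 := fun v hv => by
    rw [← hgR] at hv
    induction hv using Submodule.span_induction with
    | mem x hx =>
      obtain ⟨i, rfl⟩ := hx
      rw [show gR i = fun l => MvPolynomial.map (algebraMap R₀ R) (g₀ i l) from
        funext fun l => (hg₀ i l).symm, hεmap,
        show N₀.mkQ (g₀ i) = 0 from (Submodule.Quotient.mk_eq_zero N₀).mpr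
          (Submodule.subset_span (Or.inl ⟨i, rfl⟩)), tmul_zero]
    | zero => exact map_zero ε
    | add a b _ _ ha hb => rw [map_add, ha, hb, add_zero]
    | smul c a _ ha => rw [map_smul, ha, smul_zero]
  haveI : IsLocalizedModule P.primeCompl ι := by
    refine ⟨IsLocalizedModule.map_units lM, fun y => ?_, fun {a b} hab => ?_⟩
    · obtain ⟨⟨x, c⟩, hxc⟩ := IsLocalizedModule.surj P.primeCompl lM y
      obtain ⟨v, rfl⟩ : ∃ v, πM v = x := (eM.symm.surjective.comp K.mkQ_surjective) x
      exact ⟨⟨ε v, c⟩, hxc.trans (hει v).symm⟩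
    · obtain ⟨v, hv⟩ := hεsurj (a - b)
      have : lM (πM v) = lM 0 := by rw [map_zero, ← hει, hv, map_sub, hab, sub_self]
      obtain ⟨c, hc⟩ := (IsLocalizedModule.eq_iff_exists P.primeCompl lM).mp this
      refine ⟨c, ?_⟩
      rw [← sub_eq_zero, Submonoid.smul_def, Submonoid.smul_def, ← smul_sub, ← hv, ← map_smul]
      refine hεK _ ((Submodule.Quotient.mk_eq_zero K).mp (eM.symm.injective ?_))
      rw [map_zero]
      simpa [Submonoid.smul_def, πM] using hc
  -- the stage
  obtain ⟨S, _, _, _, _, h, hloc, -, -, -, hflat⟩ :=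
    exists_flat_stage M₀ P hP ι (∅ : Set R) Set.finite_empty
  letI : Algebra S R := h.toRingHom.toAlgebra
  haveI : IsScalarTower R₀ S R := IsScalarTower.of_algebraMap_eq fun x => (h.commutes x).symm
  haveI : IsLocalHom (algebraMap S R) := hloc
  let pS : Fin n → MvPolynomial (Fin m) S := fun i => MvPolynomial.map (algebraMap R₀ S) (p₀ i)
  have hpS : (fun i => MvPolynomial.map (algebraMap S R) (pS i)) = pR := funext fun i => by
    simp only [pS, MvPolynomial.map_map, ← IsScalarTower.algebraMap_eq R₀ S R, hp₀]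
  let JS : Ideal (MvPolynomial (Fin n) S) :=
    Ideal.span (Set.range fun i => MvPolynomial.map (algebraMap R₀ S) (j₀ i))
  have hJmap : JS.map (MvPolynomial.map (algebraMap S R)) = Ideal.span (Set.range jR) := by
    rw [Ideal.map_span, ← Set.range_comp]
    congr 2
    funext i
    simp only [comp_apply, MvPolynomial.map_map, ← IsScalarTower.algebraMap_eq R₀ S R, hj₀]
  have hJI : ∀ a ∈ JS, MvPolynomial.map (algebraMap S R) a ∈ I := fun a ha =>
    (Ideal.span_le.mpr (Set.range_subset_iff.mpr hjI) : Ideal.span (Set.range jR) ≤ I)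
      (hJmap ▸ Ideal.mem_map_of_mem _ ha)
  have hJN : ∀ j ∈ JS, ∀ x : MvPolynomial (Fin m) S ⊗[MvPolynomial (Fin m) R₀] M₀,
      aeval pS j • x = 0 := by
    have hle : JS ≤ (Module.annihilator (MvPolynomial (Fin m) S)
        (MvPolynomial (Fin m) S ⊗[MvPolynomial (Fin m) R₀] M₀)).comap (aeval pS) := by
      refine Ideal.span_le.mpr ?_
      rintro _ ⟨i, rfl⟩
      rw [SetLike.mem_coe, Ideal.mem_comap, Module.mem_annihilator]
      intro x
      rw [← map_aeval]
      induction x using TensorProduct.induction_on with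
      | zero => exact smul_zero _
      | add a b ha hb => rw [smul_add, ha, hb, add_zero]
      | tmul q w =>
        refine Eq.trans (algebraMap_smul (M := MvPolynomial (Fin m) S ⊗[MvPolynomial (Fin m) R₀] M₀)
          (MvPolynomial (Fin m) S) (aeval p₀ (j₀ i)) _) ?_
        rw [← tmul_smul]
        suffices aeval p₀ (j₀ i) • w = 0 by rw [this, tmul_zero]
        obtain ⟨v, rfl⟩ := N₀.mkQ_surjective w
        rw [← map_smul, Submodule.mkQ_apply, Submodule.Quotient.mk_eq_zero, pi_eq_sum_univ' v,
          Finset.smul_sum]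
        refine Submodule.sum_mem _ fun l _ => ?_
        rw [smul_comm]
        exact Submodule.smul_mem _ _ (Submodule.subset_span (Or.inr ⟨(i, l), rfl⟩))
    exact fun j hj => Module.mem_annihilator.mp (hle hj)
  letI : Algebra (MvPolynomial (Fin n) S) (MvPolynomial (Fin m) S) := (aeval pS).toRingHom.toAlgebra
  haveI : IsScalarTower S (MvPolynomial (Fin n) S) (MvPolynomial (Fin m) S) :=
    IsScalarTower.of_algebraMap_eq fun x => ((aeval pS).commutes x).symm
  set Q := P.comap (MvPolynomial.map h.toRingHom)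
  let NS := MvPolynomial (Fin m) S ⊗[MvPolynomial (Fin m) R₀] M₀
  let NR := MvPolynomial (Fin m) R ⊗[MvPolynomial (Fin m) R₀] M₀
  let LS := LocalizedModule Q.primeCompl NS
  let ιS : NS →ₗ[MvPolynomial (Fin m) S] LS := LocalizedModule.mkLinearMap Q.primeCompl NS
  haveI : IsScalarTower (MvPolynomial (Fin n) S) (MvPolynomial (Fin m) S) LS := inferInstance
  haveI : Module.Flat S LS := hflat LS ιS
  have hmNR : ∀ (c : MvPolynomial (Fin m) R) {t : NR}, t ∈ maximalIdeal R • (⊤ : Submodule R NR) →
      c • t ∈ maximalIdeal R • (⊤ : Submodule R NR) := fun c {t} ht => by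
    refine Submodule.smul_induction_on ht (fun a ha z _ => ?_) fun a b ha hb => ?_
    · rw [smul_comm]
      exact Submodule.smul_mem_smul ha trivial
    · rw [smul_add]
      exact add_mem ha hb
  have hmL : ∀ y ∈ (I ⊔ (maximalIdeal R).map C) • (⊤ : Submodule (MvPolynomial (Fin n) R) L),
      ∃ w : P.primeCompl, ∃ t ∈ maximalIdeal R • (⊤ : Submodule R NR), ι t = w • y := by
    intro y hy
    have hy' : y ∈ maximalIdeal R • (⊤ : Submodule R L) := by
      rw [Submodule.sup_smul, show I • (⊤ : Submodule (MvPolynomial (Fin n) R) L) = ⊥ from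
        eq_bot_iff.mpr (Submodule.smul_le.mpr fun a ha x _ => hI a ha x), bot_sup_eq] at hy
      rw [← Submodule.restrictScalars_top R (MvPolynomial (Fin n) R) L,
        ← Ideal.smul_restrictScalars]
      exact hy
    refine Submodule.smul_induction_on hy' (fun a ha z _ => ?_) fun z₁ z₂ h₁ h₂ => ?_
    · obtain ⟨⟨t, w⟩, ht⟩ := IsLocalizedModule.surj P.primeCompl ι z
      refine ⟨w, a • t, Submodule.smul_mem_smul ha trivial, ?_⟩
      rw [LinearMap.map_smul_of_tower, ← ht, smul_comm]
    · obtain ⟨w₁, t₁, ht₁, e₁⟩ := h₁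
      obtain ⟨w₂, t₂, ht₂, e₂⟩ := h₂
      refine ⟨w₁ * w₂, (w₂ : MvPolynomial (Fin m) R) • t₁ + (w₁ : MvPolynomial (Fin m) R) • t₂,
        add_mem (hmNR _ ht₁) (hmNR _ ht₂), ?_⟩
      rw [map_add, map_smul, map_smul, e₁, e₂]
      simp only [← Submonoid.smul_def, smul_smul, smul_add, mul_comm w₂ w₁]
  have key := lTensor_injective_stage (LS := LS) M₀ pS (fun _ => rfl) P hP JS hJN (fun {l} b ν hb => ?_) ιS
  · -- base change to `R`
    letI : Module (MvPolynomial (Fin n) S) A :=
      Module.compHom A (algebraMap (MvPolynomial (Fin n) S) (MvPolynomial (Fin n) R))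
    letI : Module (MvPolynomial (Fin n) S) A' :=
      Module.compHom A' (algebraMap (MvPolynomial (Fin n) S) (MvPolynomial (Fin n) R))
    haveI : IsScalarTower (MvPolynomial (Fin n) S) (MvPolynomial (Fin n) R) A :=
      IsScalarTower.of_algebraMap_smul fun _ _ => rfl
    haveI : IsScalarTower (MvPolynomial (Fin n) S) (MvPolynomial (Fin n) R) A' :=
      IsScalarTower.of_algebraMap_smul fun _ _ => rfl
    let fS : A →ₗ[MvPolynomial (Fin n) S] A' := f.restrictScalars _
    have kS := key A A' fS (fun x a => @hA x ⟨_, hJI a a.2⟩)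
      (fun x a => @hA' x ⟨_, hJI a a.2⟩) hf
    haveI : IsScalarTower (MvPolynomial (Fin n) S) (MvPolynomial (Fin m) S) NS := inferInstance
    haveI : IsScalarTower S (MvPolynomial (Fin n) S) NS := IsScalarTower.of_algebraMap_smul
      fun a x => by
        rw [← algebraMap_smul (MvPolynomial (Fin m) S)
          (algebraMap S (MvPolynomial (Fin n) S) a) x, ← IsScalarTower.algebraMap_apply,
          algebraMap_smul]
    haveI : IsScalarTower (MvPolynomial (Fin n) R) (MvPolynomial (Fin m) R) NR := inferInstance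
    haveI : IsScalarTower R (MvPolynomial (Fin n) R) NR := IsScalarTower.of_algebraMap_smul
      fun a x => by
        rw [← algebraMap_smul (MvPolynomial (Fin m) R)
          (algebraMap R (MvPolynomial (Fin n) R) a) x, ← IsScalarTower.algebraMap_apply,
          algebraMap_smul]
    letI : Module (MvPolynomial (Fin n) S) NR :=
      Module.compHom NR (algebraMap (MvPolynomial (Fin n) S) (MvPolynomial (Fin n) R))
    haveI : IsScalarTower (MvPolynomial (Fin n) S) (MvPolynomial (Fin n) R) NR :=
      IsScalarTower.of_algebraMap_smul fun _ _ => rfl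
    haveI : IsScalarTower S (MvPolynomial (Fin n) S) NR := IsScalarTower.of_algebraMap_smul
      fun a x => by
        rw [← algebraMap_smul (MvPolynomial (Fin n) R)
          (algebraMap S (MvPolynomial (Fin n) S) a) x, ← IsScalarTower.algebraMap_apply,
          IsScalarTower.algebraMap_apply S R (MvPolynomial (Fin n) R), algebraMap_smul,
          algebraMap_smul]
    let g : NS →ₗ[MvPolynomial (Fin n) S] NR :=
      { toFun := modMap M₀ (IsScalarTower.toAlgHom R₀ S R)
        map_add' := map_add _
        map_smul' := fun c x => by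
          rw [RingHom.id_apply, ← algebraMap_smul (MvPolynomial (Fin m) S) c x,
            ← algebraMap_smul (MvPolynomial (Fin n) R) c,
            ← algebraMap_smul (MvPolynomial (Fin m) R)
              (algebraMap (MvPolynomial (Fin n) S) (MvPolynomial (Fin n) R) c), modMap_smul, hpR]
          congr 1
          show MvPolynomial.map (algebraMap S R) (aeval pS c) =
            aeval pR (MvPolynomial.map (algebraMap S R) c)
          rw [map_aeval, hpS] }
    have hg : IsBaseChange (MvPolynomial (Fin n) R) g :=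
      isBaseChange_of_isPushout (S := S) (R := R) g (isBaseChange_modMapS M₀ S R)
    obtain ⟨θ, hθ, hθt⟩ := exists_theta hg A
    obtain ⟨θ', hθ', hθt'⟩ := exists_theta hg A'
    let PS := MvPolynomial (Fin n) S
    let PR := MvPolynomial (Fin n) R
    let fN : NR ⊗[PR] A →ₗ[MvPolynomial (Fin m) R] NR ⊗[PR] A' :=
      TensorProduct.AlgebraTensorModule.lTensor (MvPolynomial (Fin m) R) NR f
    let fL : L ⊗[PR] A →ₗ[MvPolynomial (Fin m) R] L ⊗[PR] A' :=
      TensorProduct.AlgebraTensorModule.lTensor (MvPolynomial (Fin m) R) L f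
    let ιA := TensorProduct.AlgebraTensorModule.rTensor PR A ι
    let ιA' := TensorProduct.AlgebraTensorModule.rTensor PR A' ι
    let σA := TensorProduct.AlgebraTensorModule.rTensor PS A ιS
    let σA' := TensorProduct.AlgebraTensorModule.rTensor PS A' ιS
    have hcomm : ∀ x, fL (ιA x) = ιA' (fN x) := fun x => by
      induction x using TensorProduct.induction_on with
      | zero => simp
      | add a b ha hb => simp only [map_add, ha, hb]
      | tmul a b => rfl
    have hcommS : ∀ x, fS.lTensor LS (σA x) = σA' (fS.lTensor NS x) := fun x => by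
      induction x using TensorProduct.induction_on with
      | zero => simp
      | add a b ha hb => simp only [map_add, ha, hb]
      | tmul a b => rfl
    have hθf : ∀ x, θ' (fS.lTensor NS x) = fN (θ x) := fun x => by
      induction x using TensorProduct.induction_on with
      | zero => simp
      | add a b ha hb => simp only [map_add, ha, hb]
      | tmul a b => rw [LinearMap.lTensor_tmul, hθt, hθt']; rfl
    have hθs : ∀ (c : MvPolynomial (Fin m) S) (x : NS ⊗[PS] A),
        θ (c • x) = MvPolynomial.map (algebraMap S R) c • θ x := fun c x => by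
      induction x using TensorProduct.induction_on with
      | zero => simp
      | add a b ha hb => simp only [smul_add, map_add, ha, hb]
      | tmul a b =>
        rw [smul_tmul', hθt, hθt, smul_tmul']
        congr 1
        exact modMap_smul M₀ (IsScalarTower.toAlgHom R₀ S R) c a
    rw [injective_iff_map_eq_zero]
    intro t ht
    obtain ⟨⟨t', s⟩, hts⟩ := IsLocalizedModule.surj P.primeCompl ιA t
    have h1 : ιA' (fN t') = ιA' 0 := by
      rw [map_zero, ← hcomm, ← hts, Submonoid.smul_def, map_smul]
      show _ • f.lTensor L t = 0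
      rw [ht, smul_zero]
    obtain ⟨u, hu⟩ := (IsLocalizedModule.eq_iff_exists P.primeCompl ιA').mp h1
    obtain ⟨τ, hτ⟩ := hθ.2 ((u : MvPolynomial (Fin m) R) • t')
    have h2 : fS.lTensor NS τ = 0 := hθ'.1 (by
      rw [hθf, hτ, map_smul, map_zero]
      simpa [Submonoid.smul_def] using hu)
    have h3 : σA τ = σA 0 := kS (by rw [hcommS, h2, map_zero, map_zero, map_zero])
    obtain ⟨s', hs'⟩ := (IsLocalizedModule.eq_iff_exists Q.primeCompl σA).mp h3
    have h4 : MvPolynomial.map (algebraMap S R) (s' : MvPolynomial (Fin m) S) •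
        ((u : MvPolynomial (Fin m) R) • t') = 0 := by
      rw [← hτ, ← hθs]
      rw [smul_zero, Submonoid.smul_def] at hs'
      rw [hs', map_zero]
    let c : P.primeCompl := ⟨MvPolynomial.map (algebraMap S R) (s' : _), s'.2⟩ * u * s
    apply ((Module.End.isUnit_iff _).mp (IsLocalizedModule.map_units (S := P.primeCompl) ιA c)).1
    simp only [Module.algebraMap_end_apply, smul_zero]
    show (_ * _ * (s : MvPolynomial (Fin m) R)) • t = 0
    rw [mul_smul, ← Submonoid.smul_def, hts, ← map_smul, mul_smul, h4, map_zero]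
  · -- relations in the fibre
    let ν' := fun i => modMap M₀ (IsScalarTower.toAlgHom R₀ S R) (ν i)
    have hmem : ∑ i, MvPolynomial.map (algebraMap S R) (b i) • ι (ν' i) ∈
        (I ⊔ (maximalIdeal R).map C) • (⊤ : Submodule (MvPolynomial (Fin n) R) L) := by
      have h1 : ∀ x ∈ maximalIdeal S • (⊤ : Submodule S NS),
          ι (modMap M₀ (IsScalarTower.toAlgHom R₀ S R) x) ∈
            (I ⊔ (maximalIdeal R).map C) • (⊤ : Submodule (MvPolynomial (Fin n) R) L) := by
        intro x hx
        refine Submodule.smul_induction_on hx (fun a ha z _ => ?_) fun a c ha hc => ?_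
        · rw [modMap_smul_C, LinearMap.map_smul_of_tower,
            ← algebraMap_smul (MvPolynomial (Fin n) R) (IsScalarTower.toAlgHom R₀ S R a)]
          exact Submodule.smul_mem_smul (Ideal.mem_sup_right (Ideal.mem_map_of_mem C
            (map_nonunit (algebraMap S R) a ha))) trivial
        · rw [map_add, map_add]
          exact add_mem ha hc
      convert h1 _ hb using 1
      simp only [map_sum, modMap_smul, map_smul, ν']
      refine Finset.sum_congr rfl fun i _ => ?_
      rw [hact, ← hpS, ← map_aeval]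
      rfl
    obtain ⟨κ, a, y, hy, ha⟩ := relations_of_flat_quotient _ hfib _ _ hmem
    choose t ht using fun j => IsLocalizedModule.surj P.primeCompl ι (y j)
    let v : P.primeCompl := ∏ j, (t j).2
    let z : Fin κ → NR := fun j => (∏ i ∈ Finset.univ.erase j, (t i).2 : P.primeCompl) • (t j).1
    have hz : ∀ j, ι (z j) = v • y j := fun j => by
      simp only [z, LinearMap.map_smul_of_tower, ← ht j, smul_smul]
      congr 1
      exact Finset.prod_erase_mul _ _ (Finset.mem_univ j)
    have hex : ∀ i, ∃ W : P.primeCompl, W •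
        ((v : MvPolynomial (Fin m) R) • ν' i - ∑ j, aeval pR (a i j) • z j) ∈
          maximalIdeal R • (⊤ : Submodule R NR) := by
      intro i
      obtain ⟨w, x, hx, hwx⟩ := hmL _ (hy i)
      have e1 : ι ((w : MvPolynomial (Fin m) R) •
          ((v : MvPolynomial (Fin m) R) • ν' i - ∑ j, aeval pR (a i j) • z j)) =
            ι ((v : MvPolynomial (Fin m) R) • x) := by
        rw [map_smul, map_smul, hwx, map_sub, map_smul, map_sum, smul_comm (v : MvPolynomial (Fin m) R)]
        simp only [Submonoid.smul_def]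
        congr 1
        rw [smul_sub, Finset.smul_sum]
        congr 1
        refine Finset.sum_congr rfl fun j _ => ?_
        rw [map_smul, hz, Submonoid.smul_def, hact, smul_comm]
      obtain ⟨w', hw'⟩ := (IsLocalizedModule.eq_iff_exists P.primeCompl ι).mp e1
      refine ⟨w' * w, ?_⟩
      rw [Submonoid.smul_def, Submonoid.coe_mul, mul_smul, ← Submonoid.smul_def, hw',
        Submonoid.smul_def]
      exact hmNR _ (hmNR _ hx)
    choose W hW using hex
    let U : P.primeCompl := ∏ i, W i
    refine ⟨(U : MvPolynomial (Fin m) R) * v, (U * v).2, κ, a,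
      fun j => (U : MvPolynomial (Fin m) R) • z j, fun i => ?_, fun j => ?_⟩
    · obtain ⟨e, he⟩ := Finset.dvd_prod_of_mem W (Finset.mem_univ i)
      convert hmNR (e : MvPolynomial (Fin m) R) (hW i) using 1
      rw [show (fun x => MvPolynomial.map (algebraMap S R) (pS x)) = pR from hpS]
      have hU : (U : MvPolynomial (Fin m) R) = W i * e := congrArg Subtype.val he
      simp only [ν', Submonoid.smul_def, smul_sub, Finset.smul_sum, smul_smul, hU]
      congr 1
      · ring_nf
      · refine Finset.sum_congr rfl fun j _ => ?_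
        ring_nf
    · rw [hJmap]
      exact hjsup (ha j)

end GrothLib.FibreFlat
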