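import Groth.Agent.Lib.FibreFlat.Stage
import Mathlib.RingTheory.LocalRing.Quotient
import Mathlib.LinearAlgebra.FreeModule.Basic

/-!
# Relations in the fibre descend along an extension of the ground field

`S → R` local, `φ : R →ₗ[S] S/𝔪_S` vanishing on `𝔪_R`. Applying `φ` coefficientwise turns an
identity in `R[z] ⊗ M₀` modulo `𝔪_R` into one in `S[z] ⊗ M₀` modulo `𝔪_S`.
-/

universe u

namespace GrothLib.FibreFlat

open TensorProduct Function IsLocalRing MvPolynomial

attribute [local instance] MvPolynomial.algebraMvPolynomial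

section Coefficientwise

variable {S R K : Type u} [CommRing S] [CommRing R] [CommRing K] [Algebra S R] [Algebra S K]
  {n : ℕ}

/-- A linear map applied coefficientwise. -/
noncomputable def cmap (φ : R →ₗ[S] K) : MvPolynomial (Fin n) R →ₗ[S] MvPolynomial (Fin n) K :=
  (AddMonoidAlgebra.coeffLinearEquiv S).symm.toLinearMap ∘ₗ Finsupp.mapRange.linearMap φ ∘ₗ
    (AddMonoidAlgebra.coeffLinearEquiv S).toLinearMap

@[simp]
theorem coeff_cmap (φ : R →ₗ[S] K) (p : MvPolynomial (Fin n) R) (v : Fin n →₀ ℕ) :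
    coeff v (cmap φ p) = φ (coeff v p) := rfl

theorem cmap_mul_map (φ : R →ₗ[S] K) (p : MvPolynomial (Fin n) R) (q : MvPolynomial (Fin n) S) :
    cmap φ (p * MvPolynomial.map (algebraMap S R) q) =
      cmap φ p * MvPolynomial.map (algebraMap S K) q := by
  ext v
  rw [coeff_cmap, coeff_mul, coeff_mul, map_sum]
  refine Finset.sum_congr rfl fun x _ => ?_
  rw [coeff_map, coeff_cmap, coeff_map, mul_comm, ← Algebra.smul_def, map_smul, Algebra.smul_def,
    mul_comm]

theorem cmap_C (φ : R →ₗ[S] K) (r : R) : cmap φ (C r : MvPolynomial (Fin n) R) = C (φ r) := by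
  ext v
  rw [coeff_cmap, coeff_C, coeff_C]
  split_ifs
  · rfl
  · exact map_zero φ

theorem cmap_aeval {m : ℕ} (φ : R →ₗ[S] K) (pS : Fin n → MvPolynomial (Fin m) S)
    (α : MvPolynomial (Fin n) R) :
    cmap φ (aeval (fun i => MvPolynomial.map (algebraMap S R) (pS i)) α) =
      aeval (fun i => MvPolynomial.map (algebraMap S K) (pS i)) (cmap φ α) := by
  induction α using MvPolynomial.induction_on' with
  | add a b ha hb => simp only [map_add, ha, hb]
  | monomial v r =>
    have key : ∀ {T : Type u} [CommRing T] [Algebra S T] (t : T),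
        monomial v t = C t * MvPolynomial.map (algebraMap S T) (monomial v 1) := fun t => by
      rw [map_monomial, map_one, C_mul_monomial, mul_one]
    have hev : ∀ {T : Type u} [CommRing T] [Algebra S T] (q : MvPolynomial (Fin n) S),
        aeval (fun i => MvPolynomial.map (algebraMap S T) (pS i))
            (MvPolynomial.map (algebraMap S T) q) =
          MvPolynomial.map (algebraMap S T) (aeval pS q) := fun {T} _ _ q => by
      induction q using MvPolynomial.induction_on with
      | C t => simp [MvPolynomial.algebraMap_eq]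
      | add a b ha hb => simp only [map_add, ha, hb]
      | mul_X a i ha => simp only [map_mul, map_X, aeval_X, ha]
    rw [key r, cmap_mul_map, cmap_C]
    rw [map_mul (aeval (R := R) _), map_mul (aeval (R := K) _), aeval_C, aeval_C, hev, hev,
      MvPolynomial.algebraMap_eq, MvPolynomial.algebraMap_eq, cmap_mul_map, cmap_C]

theorem cmap_eq_zero {φ : R →ₗ[S] K} {I : Ideal R} (hφ : ∀ a ∈ I, φ a = 0)
    {p : MvPolynomial (Fin n) R} (hp : p ∈ I.map C) : cmap φ p = 0 := by
  ext v
  rw [coeff_cmap, coeff_zero]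
  exact hφ _ (mem_map_C_iff.mp hp v)

end Coefficientwise

section Module

variable {R₀ : Type u} [CommRing R₀] {m : ℕ} (M₀ : Type u) [AddCommGroup M₀]
  [Module (MvPolynomial (Fin m) R₀) M₀] [Module R₀ M₀]
  [IsScalarTower R₀ (MvPolynomial (Fin m) R₀) M₀]
  {S R K : Type u} [CommRing S] [CommRing R] [CommRing K] [Algebra R₀ S] [Algebra R₀ R]
  [Algebra R₀ K] [Algebra S R] [Algebra S K] [IsScalarTower R₀ S R] [IsScalarTower R₀ S K]

/-- `cmap`, linear over the polynomial ring of the ground ring. -/
noncomputable def cmapLin (φ : R →ₗ[S] K) :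
    MvPolynomial (Fin m) R →ₗ[MvPolynomial (Fin m) R₀] MvPolynomial (Fin m) K where
  toFun := cmap φ
  map_add' := map_add _
  map_smul' a p := by
    simp only [Algebra.smul_def, RingHom.id_apply]
    show cmap φ (MvPolynomial.map (algebraMap R₀ R) a * p) =
      MvPolynomial.map (algebraMap R₀ K) a * cmap φ p
    rw [IsScalarTower.algebraMap_eq R₀ S R, IsScalarTower.algebraMap_eq R₀ S K,
      ← MvPolynomial.map_map, ← MvPolynomial.map_map, mul_comm, cmap_mul_map, mul_comm]

/-- `cmap` on base changes of `M₀`. -/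
noncomputable def cmapMod (φ : R →ₗ[S] K) :
    MvPolynomial (Fin m) R ⊗[MvPolynomial (Fin m) R₀] M₀ →ₗ[MvPolynomial (Fin m) R₀]
      MvPolynomial (Fin m) K ⊗[MvPolynomial (Fin m) R₀] M₀ :=
  (cmapLin φ).rTensor M₀

theorem cmapMod_smul_modMap (φ : R →ₗ[S] K) (q : MvPolynomial (Fin m) R)
    (ν : MvPolynomial (Fin m) S ⊗[MvPolynomial (Fin m) R₀] M₀) :
    cmapMod M₀ φ (q • modMap M₀ (IsScalarTower.toAlgHom R₀ S R) ν) =
      cmap φ q • modMap M₀ (IsScalarTower.toAlgHom R₀ S K) ν := by
  induction ν using TensorProduct.induction_on with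
  | zero => simp
  | add a b ha hb => simp only [map_add, smul_add, ha, hb]
  | tmul p x =>
    simp only [modMap, cmapMod, LinearMap.rTensor_tmul, smul_tmul', smul_eq_mul]
    congr 1
    exact cmap_mul_map φ q p

theorem exists_sum_smul_modMap
    (z : MvPolynomial (Fin m) R ⊗[MvPolynomial (Fin m) R₀] M₀) :
    ∃ (l : ℕ) (s : Fin l → R) (ζ : Fin l → MvPolynomial (Fin m) S ⊗[MvPolynomial (Fin m) R₀] M₀),
      z = ∑ t, algebraMap R (MvPolynomial (Fin m) R) (s t) •
        modMap M₀ (IsScalarTower.toAlgHom R₀ S R) (ζ t) := by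
  classical
  obtain ⟨T, hT⟩ := TensorProduct.exists_finset (cancel (m := m) M₀ R z)
  refine ⟨T.card, fun t => (T.equivFin.symm t).1.1, fun t => 1 ⊗ₜ (T.equivFin.symm t).1.2, ?_⟩
  apply (cancel (m := m) M₀ R).injective
  rw [hT, map_sum, ← Finset.sum_coe_sort T, ← T.equivFin.symm.sum_comp]
  refine Finset.sum_congr rfl fun t _ => ?_
  rw [algebraMap_smul, map_smul, modMap_one_tmul]
  simp [cancel, TensorProduct.smul_tmul']

end Module

section Descend

variable {R₀ : Type u} [CommRing R₀] {m n : ℕ} (M₀ : Type u) [AddCommGroup M₀]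
  [Module (MvPolynomial (Fin m) R₀) M₀] [Module R₀ M₀]
  [IsScalarTower R₀ (MvPolynomial (Fin m) R₀) M₀]
  {S R : Type u} [CommRing S] [CommRing R] [Algebra R₀ S] [Algebra R₀ R]
  [Algebra S R] [IsScalarTower R₀ S R] [IsLocalRing S] [IsLocalRing R]
  [IsLocalHom (algebraMap S R)]

omit [IsLocalRing S] in
theorem mem_smul_top_of_modMap_quotient_eq_zero (I : Ideal S)
    (x : MvPolynomial (Fin m) S ⊗[MvPolynomial (Fin m) R₀] M₀)
    (hx : modMap M₀ (IsScalarTower.toAlgHom R₀ S (S ⧸ I)) x = 0) :
    x ∈ I • (⊤ : Submodule S (MvPolynomial (Fin m) S ⊗[MvPolynomial (Fin m) R₀] M₀)) := by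
  obtain ⟨y, rfl⟩ := (cancel (m := m) M₀ S).symm.surjective x
  have h1 : (IsScalarTower.toAlgHom R₀ S (S ⧸ I)).toLinearMap.rTensor M₀ y = 0 := by
    have := congrArg (cancel (m := m) M₀ (S ⧸ I)) hx
    rwa [cancel_modMap, LinearEquiv.apply_symm_apply, map_zero] at this
  have hex : Exact (I.subtype.restrictScalars R₀)
      (IsScalarTower.toAlgHom R₀ S (S ⧸ I)).toLinearMap := fun a =>
    ⟨fun ha => ⟨⟨a, Ideal.Quotient.eq_zero_iff_mem.mp ha⟩, rfl⟩,
      fun ⟨b, hb⟩ => hb ▸ Ideal.Quotient.eq_zero_iff_mem.mpr b.2⟩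
  obtain ⟨w, rfl⟩ := (rTensor_exact M₀ hex Ideal.Quotient.mk_surjective y).mp h1
  clear hx h1
  induction w using TensorProduct.induction_on with
  | zero => simp
  | add a b ha hb =>
    simp only [map_add]
    exact add_mem ha hb
  | tmul a x =>
    rw [LinearMap.rTensor_tmul]
    have : (cancel (m := m) M₀ S).symm ((I.subtype.restrictScalars R₀ a) ⊗ₜ[R₀] x) =
        (a : S) • (1 : MvPolynomial (Fin m) S) ⊗ₜ[MvPolynomial (Fin m) R₀] x := by
      simp [cancel, MvPolynomial.algebraMap_eq, smul_tmul', MvPolynomial.smul_eq_C_mul]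
    rw [this]
    exact Submodule.smul_mem_smul a.2 trivial

/-- Relations modulo the maximal ideal descend from `R` to `S`. -/
theorem relations_descend (P : Ideal (MvPolynomial (Fin m) R)) [P.IsPrime]
    (hP : P.comap C = maximalIdeal R) (pS : Fin n → MvPolynomial (Fin m) S)
    (JS : Ideal (MvPolynomial (Fin n) S)) {l : ℕ} (b : Fin l → MvPolynomial (Fin n) S)
    (ν : Fin l → MvPolynomial (Fin m) S ⊗[MvPolynomial (Fin m) R₀] M₀) {k : ℕ}
    (u : MvPolynomial (Fin m) R) (hu : u ∉ P) (a : Fin l → Fin k → MvPolynomial (Fin n) R)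
    (z : Fin k → MvPolynomial (Fin m) R ⊗[MvPolynomial (Fin m) R₀] M₀)
    (hz : ∀ i, u • modMap M₀ (IsScalarTower.toAlgHom R₀ S R) (ν i) -
        ∑ j, aeval (fun x => MvPolynomial.map (algebraMap S R) (pS x)) (a i j) • z j ∈
      maximalIdeal R • (⊤ : Submodule R (MvPolynomial (Fin m) R ⊗[MvPolynomial (Fin m) R₀] M₀)))
    (ha : ∀ j, ∑ i, MvPolynomial.map (algebraMap S R) (b i) * a i j ∈
      JS.map (MvPolynomial.map (algebraMap S R)) ⊔ (maximalIdeal R).map C) :
    ∃ v ∉ P.comap (MvPolynomial.map (algebraMap S R)), ∃ (κ : Type u) (_ : Fintype κ)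
      (c : Fin l → κ → MvPolynomial (Fin n) S)
      (ζ : κ → MvPolynomial (Fin m) S ⊗[MvPolynomial (Fin m) R₀] M₀),
      (∀ i, v • ν i - ∑ x, aeval pS (c i x) • ζ x ∈
        maximalIdeal S • (⊤ : Submodule S (MvPolynomial (Fin m) S ⊗[MvPolynomial (Fin m) R₀] M₀))) ∧
      ∀ x, ∑ i, b i * c i x ∈ JS ⊔ (maximalIdeal S).map C := by
  classical
  let K := S ⧸ maximalIdeal S
  letI : Field K := Ideal.Quotient.field _
  letI : Algebra K (R ⧸ maximalIdeal R) :=
    (Ideal.quotientMap (maximalIdeal R) (algebraMap S R) (fun x hx => map_nonunit (algebraMap S R) x hx)).toAlgebra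
  haveI : IsScalarTower S K (R ⧸ maximalIdeal R) := IsScalarTower.of_algebraMap_eq fun s => rfl
  let e := Module.Free.chooseBasis K (R ⧸ maximalIdeal R)
  let φ : Module.Free.ChooseBasisIndex K (R ⧸ maximalIdeal R) → R →ₗ[S] K := fun t =>
    (e.coord t).restrictScalars S ∘ₗ (IsScalarTower.toAlgHom S R (R ⧸ maximalIdeal R)).toLinearMap
  have hφ : ∀ t, ∀ r ∈ maximalIdeal R, φ t r = 0 := fun t r hr => by
    show e.coord t (Ideal.Quotient.mk _ r) = 0
    rw [Ideal.Quotient.eq_zero_iff_mem.mpr hr, map_zero]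
  set Q := P.comap (MvPolynomial.map (algebraMap S R)) with hQ
  -- some coordinate of `u` is not in `Q`
  obtain ⟨t, v, hv, hvQ⟩ : ∃ t, ∃ v : MvPolynomial (Fin m) S,
      MvPolynomial.map (algebraMap S K) v = cmap (φ t) u ∧ v ∉ Q := by
    by_contra hcon
    push_neg at hcon
    choose g hg using fun t => MvPolynomial.map_surjective (algebraMap S K)
      Ideal.Quotient.mk_surjective (cmap (φ t) u)
    choose e' he' using fun t => Ideal.Quotient.mk_surjective (e t)
    let Λ := u.support.biUnion fun d => (e.repr (Ideal.Quotient.mk _ (coeff d u))).support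
    have hdiff : u - ∑ t ∈ Λ, C (e' t) * MvPolynomial.map (algebraMap S R) (g t) ∈
        (maximalIdeal R).map C := by
      rw [mem_map_C_iff]
      intro d
      rw [← Ideal.Quotient.eq_zero_iff_mem, coeff_sub, map_sub, coeff_sum, map_sum, sub_eq_zero]
      have hc : ∀ t, Ideal.Quotient.mk (maximalIdeal R)
          (coeff d (C (e' t) * MvPolynomial.map (algebraMap S R) (g t))) =
            (e.repr (Ideal.Quotient.mk _ (coeff d u)) t) • e t := fun t => by
        have h1 := congrArg (coeff d) (hg t)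
        rw [coeff_map, coeff_cmap] at h1
        rw [coeff_C_mul, coeff_map, map_mul, he', mul_comm, Algebra.smul_def,
          show e.repr (Ideal.Quotient.mk _ (coeff d u)) t = φ t (coeff d u) from rfl, ← h1]
        rfl
      simp only [hc]
      conv_lhs => rw [← e.linearCombination_repr (Ideal.Quotient.mk _ (coeff d u))]
      rw [Finsupp.linearCombination_apply]
      refine Finsupp.sum_of_support_subset _ (fun t ht => ?_) _ fun t _ => zero_smul _ _
      refine Finset.mem_biUnion.mpr ⟨d, ?_, ht⟩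
      by_contra hd
      rw [notMem_support_iff.mp hd, map_zero, map_zero] at ht
      exact (Finset.notMem_empty t) ht
    refine hu ?_
    have hsum : ∑ t ∈ Λ, C (e' t) * MvPolynomial.map (algebraMap S R) (g t) ∈ P :=
      Ideal.sum_mem _ fun t _ => Ideal.mul_mem_left _ _ (hcon t (g t) (hg t))
    have := P.add_mem (Ideal.map_le_iff_le_comap.mpr (hP ▸ le_rfl) hdiff) hsum
    rwa [sub_add_cancel] at this
  choose L s ζ hzζ using fun j => exists_sum_smul_modMap M₀ (S := S) (z j)
  choose c hc using fun (i : Fin l) (x : Σ j, Fin (L j)) =>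
    MvPolynomial.map_surjective (algebraMap S K) Ideal.Quotient.mk_surjective
      (cmap (φ t) (C (s x.1 x.2) * a i x.1))
  refine ⟨v, hvQ, ULift.{u} (Σ j, Fin (L j)), inferInstance, fun i x => c i x.down,
    fun x => ζ x.down.1 x.down.2, fun i => ?_, fun x => ?_⟩
  · apply mem_smul_top_of_modMap_quotient_eq_zero
    rw [map_sub, sub_eq_zero, modMap_smul, map_sum]
    have h0 : cmapMod M₀ (φ t) (u • modMap M₀ (IsScalarTower.toAlgHom R₀ S R) (ν i) -
        ∑ j, aeval (fun x => MvPolynomial.map (algebraMap S R) (pS x)) (a i j) • z j) = 0 := by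
      refine Submodule.smul_induction_on (hz i) (fun r hr y _ => ?_) fun p q hp hq => ?_
      · obtain ⟨L', s', ζ', rfl⟩ := exists_sum_smul_modMap M₀ (S := S) y
        rw [Finset.smul_sum, map_sum]
        refine Finset.sum_eq_zero fun w _ => ?_
        rw [← algebraMap_smul (MvPolynomial (Fin m) R) r, smul_smul, ← map_mul,
          cmapMod_smul_modMap, MvPolynomial.algebraMap_eq, cmap_C,
          hφ t _ (Ideal.mul_mem_right _ _ hr), map_zero, zero_smul]
      · rw [map_add, hp, hq, add_zero]
    rw [map_sub, sub_eq_zero, cmapMod_smul_modMap, map_sum] at h0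
    refine Eq.trans (congrArg (· • _) hv) (h0.trans ?_)
    rw [← Equiv.ulift.symm.sum_comp, Fintype.sum_sigma]
    refine Finset.sum_congr rfl fun j _ => ?_
    rw [hzζ j, Finset.smul_sum, map_sum]
    refine Finset.sum_congr rfl fun w _ => ?_
    rw [smul_smul]
    rw [cmapMod_smul_modMap, modMap_smul, MvPolynomial.algebraMap_eq,
      show aeval (fun x => MvPolynomial.map (algebraMap S R) (pS x)) (a i j) * C (s j w) =
        aeval (fun x => MvPolynomial.map (algebraMap S R) (pS x)) (C (s j w) * a i j) by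
        rw [map_mul, aeval_C, MvPolynomial.algebraMap_eq, mul_comm], cmap_aeval]
    congr 1
    show aeval _ _ = MvPolynomial.map (algebraMap S K) (aeval pS (c i ⟨j, w⟩))
    rw [← hc i ⟨j, w⟩]
    clear hc
    induction (c i ⟨j, w⟩) using MvPolynomial.induction_on with
    | C t => simp [MvPolynomial.algebraMap_eq]
    | add p q hp hq => simp only [map_add, hp, hq]
    | mul_X p i hp => simp only [map_mul, map_X, aeval_X, hp]
  · obtain ⟨⟨j, w⟩⟩ := x
    have hmap : MvPolynomial.map (algebraMap S K) (∑ i, b i * c i ⟨j, w⟩) ∈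
        JS.map (MvPolynomial.map (algebraMap S K)) := by
      have h1 : ∑ i, C (s j w) * (MvPolynomial.map (algebraMap S R) (b i) * a i j) ∈
          JS.map (MvPolynomial.map (algebraMap S R)) ⊔ (maximalIdeal R).map C := by
        rw [← Finset.mul_sum]
        exact Ideal.mul_mem_left _ _ (ha j)
      obtain ⟨g₁, hg₁, g₂, hg₂, hg⟩ := Submodule.mem_sup.mp h1
      have heq : MvPolynomial.map (algebraMap S K) (∑ i, b i * c i ⟨j, w⟩) =
          cmap (φ t) (g₁ + g₂) := by
        rw [hg, map_sum, map_sum]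
        refine Finset.sum_congr rfl fun i _ => ?_
        rw [map_mul, hc, mul_comm (MvPolynomial.map (algebraMap S R) (b i)), ← mul_assoc,
          cmap_mul_map, mul_comm]
      rw [heq, map_add, cmap_eq_zero (hφ t) hg₂, add_zero]
      have : ∀ g : MvPolynomial (Fin n) R,
          cmap (φ t) (g * g₁) ∈ JS.map (MvPolynomial.map (algebraMap S K)) := by
        clear heq hg
        rw [Ideal.map] at hg₁
        induction hg₁ using Submodule.span_induction with
        | mem x hx =>
          obtain ⟨q, hq, rfl⟩ := hx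
          intro g
          rw [cmap_mul_map]
          exact Ideal.mul_mem_left _ _ (Ideal.mem_map_of_mem _ hq)
        | zero => simp
        | add p q _ _ hp hq =>
          intro g
          rw [mul_add, map_add]
          exact add_mem (hp g) (hq g)
        | smul r p _ hp =>
          intro g
          rw [smul_eq_mul, ← mul_assoc]
          exact hp _
      simpa using this 1
    have h2 : (maximalIdeal S).map (C : S →+* MvPolynomial (Fin n) S) =
        Ideal.comap (MvPolynomial.map (algebraMap S K)) ⊥ := by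
      rw [← RingHom.ker_eq_comap_bot, MvPolynomial.ker_map]
      congr 1
      exact Ideal.mk_ker.symm
    rw [h2, ← Ideal.comap_map_of_surjective _
      (MvPolynomial.map_surjective (algebraMap S K) Ideal.Quotient.mk_surjective)]
    exact hmap

end Descend

end GrothLib.FibreFlat
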