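import Groth.Agent.Lib.FibreFlat.BaseChange
import Groth.Agent.Lib.FibreFlat.OpenNoetherian

/-!
# Flatness at a prime along a change of stage
-/

universe u

namespace GrothLib.FibreFlat

open TensorProduct Function MvPolynomial

attribute [local instance] MvPolynomial.algebraMvPolynomial

variable {R₀ : Type u} [CommRing R₀] {m : ℕ} (M₀ : Type u) [AddCommGroup M₀]
  [Module (MvPolynomial (Fin m) R₀) M₀] [Module R₀ M₀]
  [IsScalarTower R₀ (MvPolynomial (Fin m) R₀) M₀]
  (S R : Type u) [CommRing S] [CommRing R] [Algebra R₀ S] [Algebra R₀ R]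
  [Algebra S R] [IsScalarTower R₀ S R]

/-- `(S[z] ⊗ M₀) ⊗_S N ≅ (R[z] ⊗ M₀) ⊗_R N` for an `R`-module `N`. -/
theorem exists_theta_stage (N : Type u) [AddCommGroup N] [Module S N] [Module R N]
    [IsScalarTower S R N] :
    ∃ θ : (MvPolynomial (Fin m) S ⊗[MvPolynomial (Fin m) R₀] M₀) ⊗[S] N →+
        (MvPolynomial (Fin m) R ⊗[MvPolynomial (Fin m) R₀] M₀) ⊗[R] N,
      Bijective θ ∧ (∀ ν a, θ (ν ⊗ₜ a) = modMap M₀ (IsScalarTower.toAlgHom R₀ S R) ν ⊗ₜ a) ∧
      ∀ (c : MvPolynomial (Fin m) S) x, θ (c • x) = MvPolynomial.map (algebraMap S R) c • θ x := by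
  obtain ⟨θ, hθ, hθt⟩ := exists_theta (isBaseChange_modMapS (m := m) (R₀ := R₀) M₀ S R) N
  refine ⟨θ, hθ, hθt, fun c x => ?_⟩
  induction x using TensorProduct.induction_on with
  | zero => simp
  | add a b ha hb => simp only [smul_add, map_add, ha, hb]
  | tmul a b =>
    rw [smul_tmul', hθt, hθt, smul_tmul']
    congr 1
    exact modMap_smul M₀ (IsScalarTower.toAlgHom R₀ S R) c a

/-- Flatness at a prime passes to a bigger stage. -/
theorem flat_of_stage (P : Ideal (MvPolynomial (Fin m) R)) [P.IsPrime]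
    {LS : Type u} [AddCommGroup LS] [Module (MvPolynomial (Fin m) S) LS] [Module S LS]
    [IsScalarTower S (MvPolynomial (Fin m) S) LS]
    (ιS : MvPolynomial (Fin m) S ⊗[MvPolynomial (Fin m) R₀] M₀ →ₗ[MvPolynomial (Fin m) S] LS)
    [IsLocalizedModule (P.comap (MvPolynomial.map (algebraMap S R))).primeCompl ιS]
    [Module.Flat S LS]
    {L : Type u} [AddCommGroup L] [Module (MvPolynomial (Fin m) R) L] [Module R L]
    [IsScalarTower R (MvPolynomial (Fin m) R) L]
    (ι : MvPolynomial (Fin m) R ⊗[MvPolynomial (Fin m) R₀] M₀ →ₗ[MvPolynomial (Fin m) R] L)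
    [IsLocalizedModule P.primeCompl ι] : Module.Flat R L := by
  rw [Module.Flat.iff_lTensor_preserves_injective_linearMap]
  intro N N' _ _ _ _ f hf
  letI : Module S N := Module.compHom N (algebraMap S R)
  letI : Module S N' := Module.compHom N' (algebraMap S R)
  haveI : IsScalarTower S R N := IsScalarTower.of_algebraMap_smul fun _ _ => rfl
  haveI : IsScalarTower S R N' := IsScalarTower.of_algebraMap_smul fun _ _ => rfl
  refine lTensor_injective_of_isLocalizedModule P.primeCompl ι f fun x hx => ?_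
  obtain ⟨θ, hθ, hθt, hθs⟩ := exists_theta_stage (m := m) (R₀ := R₀) M₀ S R N
  obtain ⟨θ', hθ', hθt', -⟩ := exists_theta_stage (m := m) (R₀ := R₀) M₀ S R N'
  obtain ⟨τ, rfl⟩ := hθ.2 x
  let fS : N →ₗ[S] N' := f.restrictScalars S
  have hθf : ∀ y, θ' (fS.lTensor _ y) = f.lTensor _ (θ y) := fun y => by
    induction y using TensorProduct.induction_on with
    | zero => simp
    | add a b ha hb => simp only [map_add, ha, hb]
    | tmul a b => rw [LinearMap.lTensor_tmul, hθt, hθt']; rfl
  have h2 : fS.lTensor _ τ = 0 := hθ'.1 (by rw [hθf, hx, map_zero])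
  let σ := TensorProduct.AlgebraTensorModule.rTensor S N ιS
  let σ' := TensorProduct.AlgebraTensorModule.rTensor S N' ιS
  have hc : ∀ y, fS.lTensor LS (σ y) = σ' (fS.lTensor _ y) := fun y => by
    induction y using TensorProduct.induction_on with
    | zero => simp
    | add a b ha hb => simp only [map_add, ha, hb]
    | tmul a b => rfl
  have h3 : σ τ = σ 0 := Module.Flat.lTensor_preserves_injective_linearMap (M := LS) fS hf
    (by rw [hc, h2, map_zero, map_zero, map_zero])
  obtain ⟨t, ht⟩ := (IsLocalizedModule.eq_iff_exists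
    (P.comap (MvPolynomial.map (algebraMap S R))).primeCompl σ).mp h3
  refine ⟨MvPolynomial.map (algebraMap S R) t, t.2, ?_⟩
  rw [smul_zero, Submonoid.smul_def] at ht
  rw [← hθs, ht, map_zero]

/-- Flatness at a prime descends along a localization of the stage. -/
theorem flat_of_localization_stage (W : Submonoid S) [IsLocalization W R]
    (P : Ideal (MvPolynomial (Fin m) R)) [P.IsPrime]
    {L : Type u} [AddCommGroup L] [Module (MvPolynomial (Fin m) R) L] [Module R L]
    [IsScalarTower R (MvPolynomial (Fin m) R) L]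
    (ι : MvPolynomial (Fin m) R ⊗[MvPolynomial (Fin m) R₀] M₀ →ₗ[MvPolynomial (Fin m) R] L)
    [IsLocalizedModule P.primeCompl ι] [Module.Flat R L]
    {LS : Type u} [AddCommGroup LS] [Module (MvPolynomial (Fin m) S) LS] [Module S LS]
    [IsScalarTower S (MvPolynomial (Fin m) S) LS]
    (ιS : MvPolynomial (Fin m) S ⊗[MvPolynomial (Fin m) R₀] M₀ →ₗ[MvPolynomial (Fin m) S] LS)
    [IsLocalizedModule (P.comap (MvPolynomial.map (algebraMap S R))).primeCompl ιS] :
    Module.Flat S LS := by
  rw [Module.Flat.iff_lTensor_preserves_injective_linearMap]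
  intro N N' _ _ _ _ f hf
  refine lTensor_injective_of_isLocalizedModule (P.comap (MvPolynomial.map (algebraMap S R))).primeCompl ιS f fun x hx => ?_
  obtain ⟨θ, hθ, hθt, hθs⟩ := exists_theta_stage (m := m) (R₀ := R₀) M₀ S R (R ⊗[S] N)
  obtain ⟨θ', hθ', hθt', -⟩ := exists_theta_stage (m := m) (R₀ := R₀) M₀ S R (R ⊗[S] N')
  let NS := MvPolynomial (Fin m) S ⊗[MvPolynomial (Fin m) R₀] M₀
  let j : N →ₗ[S] R ⊗[S] N := TensorProduct.mk S R N 1
  let j' : N' →ₗ[S] R ⊗[S] N' := TensorProduct.mk S R N' 1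
  haveI : Module.Flat S R := IsLocalization.flat R W
  let fR : R ⊗[S] N →ₗ[R] R ⊗[S] N' := f.baseChange R
  have hfR : Injective fR := Module.Flat.lTensor_preserves_injective_linearMap (M := R) f hf
  have hθf : ∀ y : NS ⊗[S] (R ⊗[S] N),
      θ' ((fR.restrictScalars S).lTensor NS y) = fR.lTensor _ (θ y) := fun y => by
    induction y using TensorProduct.induction_on with
    | zero => simp
    | add a b ha hb => simp only [map_add, ha, hb]
    | tmul a b => rw [LinearMap.lTensor_tmul, hθt, hθt']; rfl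
  have hj : ∀ y : NS ⊗[S] N, (fR.restrictScalars S).lTensor NS (j.lTensor NS y) =
      j'.lTensor NS (f.lTensor NS y) := fun y => by
    induction y using TensorProduct.induction_on with
    | zero => simp
    | add a b ha hb => simp only [map_add, ha, hb]
    | tmul a b => rfl
  have h1 : fR.lTensor _ (θ (j.lTensor NS x)) = 0 := by
    rw [← hθf, hj, hx, map_zero, map_zero]
  let ιN := TensorProduct.AlgebraTensorModule.rTensor R (R ⊗[S] N) ι
  let ιN' := TensorProduct.AlgebraTensorModule.rTensor R (R ⊗[S] N') ι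
  have hc : ∀ y, fR.lTensor L (ιN y) = ιN' (fR.lTensor _ y) := fun y => by
    induction y using TensorProduct.induction_on with
    | zero => simp
    | add a b ha hb => simp only [map_add, ha, hb]
    | tmul a b => rfl
  have h3 : ιN (θ (j.lTensor NS x)) = ιN 0 :=
    Module.Flat.lTensor_preserves_injective_linearMap (M := L) fR hfR
      (by rw [hc, h1, map_zero, map_zero, map_zero])
  obtain ⟨u, hu⟩ := (IsLocalizedModule.eq_iff_exists P.primeCompl ιN).mp h3
  -- clear denominators
  obtain ⟨w, u', hwu⟩ : ∃ w : W, ∃ u' : MvPolynomial (Fin m) S,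
      C (algebraMap S R w) * (u : MvPolynomial (Fin m) R) = MvPolynomial.map (algebraMap S R) u' := by
    generalize (u : MvPolynomial (Fin m) R) = v
    induction v using MvPolynomial.induction_on with
    | C r =>
      obtain ⟨⟨a, w⟩, ha⟩ := IsLocalization.surj W r
      exact ⟨w, C a, by rw [map_C, ← ha, mul_comm r, map_mul]⟩
    | add a b ha hb =>
      obtain ⟨w, a', ha⟩ := ha
      obtain ⟨w', b', hb⟩ := hb
      refine ⟨w * w', C (w' : S) * a' + C (w : S) * b', ?_⟩
      simp only [map_add, map_mul, map_C, Submonoid.coe_mul, ← ha, ← hb]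
      ring
    | mul_X a i ha =>
      obtain ⟨w, a', ha⟩ := ha
      exact ⟨w, a' * X i, by rw [map_mul, map_X, ← ha, mul_assoc]⟩
  have hwP : ∀ v : W, (C (algebraMap S R v) : MvPolynomial (Fin m) R) ∉ P := fun v hv =>
    Ideal.IsPrime.ne_top inferInstance (P.eq_top_of_isUnit_mem hv ((IsLocalization.map_units R v).map C))
  have hu' : MvPolynomial.map (algebraMap S R) u' ∉ P := fun h => by
    rw [← hwu] at h
    exact (Ideal.IsPrime.mem_or_mem inferInstance h).elim (hwP w) u.2
  have h4 : u' • j.lTensor NS x = 0 := hθ.1 (by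
    rw [smul_zero, Submonoid.smul_def] at hu
    rw [hθs, ← hwu, mul_smul, hu, smul_zero, map_zero])
  have h5 : j.lTensor NS (u' • x) = 0 := by
    have : ∀ y, j.lTensor NS (u' • y) = u' • j.lTensor NS y := fun y => by
      induction y using TensorProduct.induction_on with
      | zero => simp
      | add a b ha hb => simp only [smul_add, map_add, ha, hb]
      | tmul a b => simp only [smul_tmul', LinearMap.lTensor_tmul]
    rw [this, h4]
  -- the kernel of tensoring with a localization
  have h6 : ∃ v : W, (v : S) • (u' • x) = 0 := by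
    let e : NS ⊗[S] (R ⊗[S] N) ≃ₗ[S] R ⊗[S] (NS ⊗[S] N) := TensorProduct.leftComm S NS R N
    have h0 : (1 : R) ⊗ₜ[S] (u' • x) = 0 := by
      rw [← map_zero e, ← h5]
      induction u' • x using TensorProduct.induction_on with
      | zero => simp
      | add a b ha hb => simp only [tmul_add, map_add, ha, hb]
      | tmul a b => simp [e, j]
    let mk : NS ⊗[S] N →ₗ[S] R ⊗[S] (NS ⊗[S] N) := TensorProduct.mk S R _ 1
    haveI : IsLocalizedModule W mk :=
      (isLocalizedModule_iff_isBaseChange W R mk).mpr (TensorProduct.isBaseChange S _ R)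
    obtain ⟨v, hv⟩ := (IsLocalizedModule.eq_zero_iff W mk).mp h0
    exact ⟨v, hv⟩
  obtain ⟨v, hv⟩ := h6
  refine ⟨C (v : S) * u', ?_, ?_⟩
  · show C (v : S) * u' ∉ P.comap (MvPolynomial.map (algebraMap S R))
    intro h
    rw [Ideal.mem_comap, map_mul, map_C] at h
    exact (Ideal.IsPrime.mem_or_mem inferInstance h).elim (hwP v) hu'
  · rw [mul_smul, ← MvPolynomial.algebraMap_eq, algebraMap_smul, hv]

end GrothLib.FibreFlat
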