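import Groth.Agent.Lib.FibreFlat.StageFlat
import Groth.Agent.Lib.FibreFlat.Transfer
import Groth.Agent.Lib.FibreFlat.OpenLocus
import Groth.Agent.Lib.FlatFP.InjCoker
import Groth.Agent.Lib.Flatness.InjMod
import Mathlib.RingTheory.Finiteness.Nakayama

/-!
# Injective modulo the maximal ideal gives injective with flat cokernel (EGA IV 11.3.7)

Non-noetherian version, for modules finitely presented over a polynomial ring, by descent to a
noetherian stage.
-/

universe u

namespace GrothLib.FibreFlat

open TensorProduct Function IsLocalRing MvPolynomial GrothLib.Flatness GrothLib.FlatStage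

attribute [local instance] MvPolynomial.algebraMvPolynomial

/-- Base change of a presentation. -/
theorem baseChange_presentation {C₀ C : Type u} [CommRing C₀] [CommRing C] [Algebra C₀ C] {r : ℕ}
    {κ : Type*} (g₀ : κ → Fin r → C₀) {M : Type u} [AddCommGroup M] [Module C M]
    (π : (Fin r → C) →ₗ[C] M) (hπ : Surjective π)
    (hker : LinearMap.ker π =
      Submodule.span C (Set.range fun k => fun l => algebraMap C₀ C (g₀ k l))) :
    ∃ e : C ⊗[C₀] ((Fin r → C₀) ⧸ Submodule.span C₀ (Set.range g₀)) ≃ₗ[C] M,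
      ∀ v : Fin r → C₀, e (1 ⊗ₜ (Submodule.span C₀ (Set.range g₀)).mkQ v) =
        π (fun l => algebraMap C₀ C (v l)) := by
  classical
  letI : Module C₀ M := Module.compHom M (algebraMap C₀ C)
  haveI : IsScalarTower C₀ C M := IsScalarTower.of_algebraMap_smul fun _ _ => rfl
  let N₀ := Submodule.span C₀ (Set.range g₀)
  let ρ : (Fin r → C₀) →ₗ[C₀] (Fin r → C) := LinearMap.compLeft (Algebra.linearMap C₀ C) (Fin r)
  have hN₀ : N₀ ≤ LinearMap.ker ((π.restrictScalars C₀) ∘ₗ ρ) := by
    refine Submodule.span_le.mpr ?_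
    rintro _ ⟨k, rfl⟩
    show π (ρ (g₀ k)) = 0
    exact LinearMap.mem_ker.mp (hker ▸ Submodule.subset_span ⟨k, rfl⟩)
  let ι : C ⊗[C₀] ((Fin r → C₀) ⧸ N₀) →ₗ[C] M := (N₀.liftQ _ hN₀).liftBaseChange C
  have hι : ∀ v, ι (1 ⊗ₜ N₀.mkQ v) = π (ρ v) := fun v => by
    simp only [ι, LinearMap.liftBaseChange_tmul, one_smul]
    rfl
  let ε : (Fin r → C) →ₗ[C] C ⊗[C₀] ((Fin r → C₀) ⧸ N₀) :=
    Fintype.linearCombination C fun l => 1 ⊗ₜ N₀.mkQ (Pi.single l 1)
  have hερ : ∀ v, ε (ρ v) = 1 ⊗ₜ N₀.mkQ v := fun v => by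
    conv_rhs => rw [pi_eq_sum_univ' v, map_sum, tmul_sum]
    simp only [ε, Fintype.linearCombination_apply]
    refine Finset.sum_congr rfl fun l _ => ?_
    rw [map_smul, tmul_smul]
    exact algebraMap_smul (M := C ⊗[C₀] ((Fin r → C₀) ⧸ N₀)) C (v l) _
  have hιε : ∀ w, ι (ε w) = π w := by
    suffices ι ∘ₗ ε = π from fun w => LinearMap.congr_fun this w
    refine LinearMap.pi_ext' fun l => LinearMap.ext_ring ?_
    simp only [LinearMap.comp_apply, LinearMap.coe_single, ε, Fintype.linearCombination_apply_single,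
      one_smul, hι]
    congr 1
    funext k
    show algebraMap C₀ C ((Pi.single l 1 : Fin r → C₀) k) = (Pi.single l 1 : Fin r → C) k
    rcases eq_or_ne k l with rfl | h
    · rw [Pi.single_eq_same, Pi.single_eq_same, map_one]
    · rw [Pi.single_eq_of_ne h, Pi.single_eq_of_ne h, map_zero]
  have hεsurj : Surjective ε := by
    rw [← LinearMap.range_eq_top, eq_top_iff]
    intro y _
    induction y using TensorProduct.induction_on with
    | zero => exact zero_mem _
    | add a b ha hb => exact add_mem (ha trivial) (hb trivial)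
    | tmul c w =>
      obtain ⟨v, rfl⟩ := N₀.mkQ_surjective w
      rw [← mul_one c, ← smul_eq_mul, ← smul_tmul', ← hερ]
      exact Submodule.smul_mem _ _ ⟨_, rfl⟩
  have hεker : LinearMap.ker π ≤ LinearMap.ker ε := by
    rw [hker, Submodule.span_le]
    rintro _ ⟨k, rfl⟩
    show ε (ρ (g₀ k)) = 0
    rw [hερ, show N₀.mkQ (g₀ k) = 0 from
      (Submodule.Quotient.mk_eq_zero N₀).mpr (Submodule.subset_span ⟨k, rfl⟩), tmul_zero]
  refine ⟨LinearEquiv.ofBijective ι ⟨?_, fun y => ?_⟩, fun v => hι v⟩
  · rw [injective_iff_map_eq_zero]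
    intro x hx
    obtain ⟨w, rfl⟩ := hεsurj x
    exact LinearMap.mem_ker.mp (hεker (LinearMap.mem_ker.mpr ((hιε w).symm.trans hx)))
  · obtain ⟨w, rfl⟩ := hπ y
    exact ⟨ε w, hιε w⟩

section

variable {R₀ : Type u} [CommRing R₀] {m : ℕ} (M₀ : Type u) [AddCommGroup M₀]
  [Module (MvPolynomial (Fin m) R₀) M₀] [Module R₀ M₀]
  [IsScalarTower R₀ (MvPolynomial (Fin m) R₀) M₀]
  {S R : Type u} [CommRing S] [CommRing R] [Algebra R₀ S] [Algebra R₀ R]
  [Algebra S R] [IsScalarTower R₀ S R] [IsLocalRing S] [IsLocalRing R]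
  [IsLocalHom (algebraMap S R)]

/-- Membership in `𝔪 M` near `P` descends along a local extension of the ground ring. -/
theorem exists_smul_mem_descend (P : Ideal (MvPolynomial (Fin m) R)) [P.IsPrime]
    (hP : P.comap C = maximalIdeal R) (x : MvPolynomial (Fin m) S ⊗[MvPolynomial (Fin m) R₀] M₀)
    {u : MvPolynomial (Fin m) R} (hu : u ∉ P)
    (hx : u • modMap M₀ (IsScalarTower.toAlgHom R₀ S R) x ∈
      maximalIdeal R • (⊤ : Submodule R (MvPolynomial (Fin m) R ⊗[MvPolynomial (Fin m) R₀] M₀))) :
    ∃ v ∉ P.comap (MvPolynomial.map (algebraMap S R)), v • x ∈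
      maximalIdeal S • (⊤ : Submodule S (MvPolynomial (Fin m) S ⊗[MvPolynomial (Fin m) R₀] M₀)) := by
  classical
  let K := S ⧸ maximalIdeal S
  letI : Field K := Ideal.Quotient.field _
  letI : Algebra K (R ⧸ maximalIdeal R) :=
    (Ideal.quotientMap (maximalIdeal R) (algebraMap S R)
      (fun x hx => map_nonunit (algebraMap S R) x hx)).toAlgebra
  haveI : IsScalarTower S K (R ⧸ maximalIdeal R) := IsScalarTower.of_algebraMap_eq fun s => rfl
  let e := Module.Free.chooseBasis K (R ⧸ maximalIdeal R)
  let φ : Module.Free.ChooseBasisIndex K (R ⧸ maximalIdeal R) → R →ₗ[S] K := fun t =>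
    (e.coord t).restrictScalars S ∘ₗ (IsScalarTower.toAlgHom S R (R ⧸ maximalIdeal R)).toLinearMap
  have hφ : ∀ t, ∀ r ∈ maximalIdeal R, φ t r = 0 := fun t r hr => by
    show e.coord t (Ideal.Quotient.mk _ r) = 0
    rw [Ideal.Quotient.eq_zero_iff_mem.mpr hr, map_zero]
  set Q := P.comap (MvPolynomial.map (algebraMap S R)) with hQ
  obtain ⟨t, v, hv, hvQ⟩ : ∃ t, ∃ v : MvPolynomial (Fin m) S,
      MvPolynomial.map (algebraMap S K) v = cmap (φ t) u ∧ v ∉ Q := by
    by_contra hcon
    push_neg at hcon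
    choose g hg using fun t => MvPolynomial.map_surjective (algebraMap S K)
      Ideal.Quotient.mk_surjective (cmap (φ t) u)
    choose e' he' using fun t => Ideal.Quotient.mk_surjective (e t)
    let Λ := u.support.biUnion fun d => (e.repr (Ideal.Quotient.mk _ (coeff d u))).support
    have hdiff : u - ∑ t ∈ Λ, C (e' t) * MvPolynomial.map (algebraMap S R) (g t) ∈
        (maximalIdeal R).map C := by
      rw [mem_map_C_iff]
      intro d
      rw [← Ideal.Quotient.eq_zero_iff_mem, coeff_sub, map_sub, coeff_sum, map_sum, sub_eq_zero]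
      have hc : ∀ t, Ideal.Quotient.mk (maximalIdeal R)
          (coeff d (C (e' t) * MvPolynomial.map (algebraMap S R) (g t))) =
            (e.repr (Ideal.Quotient.mk _ (coeff d u)) t) • e t := fun t => by
        have h1 := congrArg (coeff d) (hg t)
        rw [coeff_map, coeff_cmap] at h1
        rw [coeff_C_mul, coeff_map, map_mul, he', mul_comm, Algebra.smul_def,
          show e.repr (Ideal.Quotient.mk _ (coeff d u)) t = φ t (coeff d u) from rfl, ← h1]
        rfl
      simp only [hc]
      conv_lhs => rw [← e.linearCombination_repr (Ideal.Quotient.mk _ (coeff d u))]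
      rw [Finsupp.linearCombination_apply]
      refine Finsupp.sum_of_support_subset _ (fun t ht => ?_) _ fun t _ => zero_smul _ _
      refine Finset.mem_biUnion.mpr ⟨d, ?_, ht⟩
      by_contra hd
      rw [notMem_support_iff.mp hd, map_zero, map_zero] at ht
      exact (Finset.notMem_empty t) ht
    refine hu ?_
    have hsum : ∑ t ∈ Λ, C (e' t) * MvPolynomial.map (algebraMap S R) (g t) ∈ P :=
      Ideal.sum_mem _ fun t _ => Ideal.mul_mem_left _ _ (hcon t (g t) (hg t))
    have := P.add_mem (Ideal.map_le_iff_le_comap.mpr (hP ▸ le_rfl) hdiff) hsum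
    rwa [sub_add_cancel] at this
  refine ⟨v, hvQ, mem_smul_top_of_modMap_quotient_eq_zero M₀ _ _ ?_⟩
  have h0 : cmapMod M₀ (φ t) (u • modMap M₀ (IsScalarTower.toAlgHom R₀ S R) x) = 0 := by
    refine Submodule.smul_induction_on hx (fun r hr y _ => ?_) fun p q hp hq => ?_
    · obtain ⟨L', s', ζ', rfl⟩ := exists_sum_smul_modMap M₀ (S := S) y
      rw [Finset.smul_sum, map_sum]
      refine Finset.sum_eq_zero fun w _ => ?_
      rw [← algebraMap_smul (MvPolynomial (Fin m) R) r, smul_smul, ← map_mul,
        cmapMod_smul_modMap, MvPolynomial.algebraMap_eq, cmap_C,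
        hφ t _ (Ideal.mul_mem_right _ _ hr), map_zero, zero_smul]
    · rw [map_add, hp, hq, add_zero]
  rw [cmapMod_smul_modMap] at h0
  rw [modMap_smul]
  exact (congrArg (· • _) hv).trans h0

end

/-- The noetherian case: cokernel flat near a prime. -/
theorem flat_coker_noetherian {S B : Type u} [CommRing S] [CommRing B] [Algebra S B]
    [IsLocalRing S] [IsNoetherianRing B] (Q : Ideal B) [Q.IsPrime]
    (hQ : Q.comap (algebraMap S B) = maximalIdeal S)
    {M N C : Type u} [AddCommGroup M] [Module B M] [Module S M] [IsScalarTower S B M]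
    [Module.Finite B M] [AddCommGroup N] [Module B N] [Module S N] [IsScalarTower S B N]
    [AddCommGroup C] [Module B C] [Module S C] [IsScalarTower S B C]
    (u : M →ₗ[B] N) (π : N →ₗ[B] C) (hex : Exact u π) (hπ : Surjective π)
    (hflat : Module.Flat S (LocalizedModule Q.primeCompl N))
    (hu : ∀ x, u x ∈ maximalIdeal S • (⊤ : Submodule S N) →
      ∃ v ∉ Q, v • x ∈ maximalIdeal S • (⊤ : Submodule S M)) :
    Module.Flat S (LocalizedModule Q.primeCompl C) := by
  let BQ := Localization.AtPrime Q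
  haveI : IsLocalHom (algebraMap S BQ) := ⟨fun s hs => by
    by_contra h
    have hsQ : algebraMap S B s ∈ Q := by
      have : s ∈ Q.comap (algebraMap S B) := hQ ▸ (mem_maximalIdeal s).mpr h
      exact this
    rw [IsScalarTower.algebraMap_apply S B BQ] at hs
    exact ((IsLocalization.AtPrime.isUnit_to_map_iff BQ Q _).mp hs) hsQ⟩
  haveI : IsNoetherianRing BQ := IsLocalization.isNoetherianRing Q.primeCompl _ inferInstance
  let fM := LocalizedModule.mkLinearMap Q.primeCompl M
  let fN := LocalizedModule.mkLinearMap Q.primeCompl N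
  let fC := LocalizedModule.mkLinearMap Q.primeCompl C
  haveI : Module.Finite BQ (LocalizedModule Q.primeCompl M) :=
    Module.Finite.of_isLocalizedModule Q.primeCompl fM
  let uQ : LocalizedModule Q.primeCompl M →ₗ[B] LocalizedModule Q.primeCompl N :=
    IsLocalizedModule.map Q.primeCompl fM fN u
  let πQ : LocalizedModule Q.primeCompl N →ₗ[B] LocalizedModule Q.primeCompl C :=
    IsLocalizedModule.map Q.primeCompl fN fC π
  let uS := uQ.restrictScalars S
  let πS := πQ.restrictScalars S
  have hexS : Exact uS πS := IsLocalizedModule.map_exact Q.primeCompl fM fN fC u π hex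
  have hπS : Surjective πS := IsLocalizedModule.map_surjective Q.primeCompl fN fC π hπ
  -- localisation of `𝔪 N`
  have key : ∀ y ∈ maximalIdeal S • (⊤ : Submodule S (LocalizedModule Q.primeCompl N)),
      ∃ t ∉ Q, ∃ z ∈ maximalIdeal S • (⊤ : Submodule S N), t • y = fN z := by
    intro y hy
    refine Submodule.smul_induction_on hy (fun s hs w _ => ?_) fun a b ha hb => ?_
    · obtain ⟨⟨z, t⟩, hz⟩ := IsLocalizedModule.surj Q.primeCompl fN w
      exact ⟨t, t.2, s • z, Submodule.smul_mem_smul hs trivial, by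
        rw [smul_comm, LinearMap.map_smul_of_tower, ← hz]; rfl⟩
    · obtain ⟨t, ht, z, hz, e⟩ := ha
      obtain ⟨t', ht', z', hz', e'⟩ := hb
      refine ⟨t' * t, fun h => (Ideal.IsPrime.mem_or_mem inferInstance h).elim ht' ht,
        t' • z + t • z', add_mem ?_ ?_, ?_⟩
      · exact Submodule.smul_top_le_comap_smul_top _ ((LinearMap.lsmul B N t').restrictScalars S) hz
      · exact Submodule.smul_top_le_comap_smul_top _ ((LinearMap.lsmul B N t).restrictScalars S) hz'
      · rw [map_add, map_smul, map_smul, ← e, ← e', smul_add, mul_smul, smul_smul t t',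
          mul_comm t t', mul_smul]
  have hu' : ∀ y, uS y ∈ maximalIdeal S • (⊤ : Submodule S (LocalizedModule Q.primeCompl N)) →
      y ∈ maximalIdeal S • (⊤ : Submodule S (LocalizedModule Q.primeCompl M)) := by
    intro y hy
    obtain ⟨⟨x, t₀⟩, hx⟩ := IsLocalizedModule.surj Q.primeCompl fM y
    obtain ⟨t, ht, z, hz, e⟩ := key _ hy
    have h1 : fN (t • u x) = fN ((t₀ : B) • z) := by
      rw [map_smul, map_smul, ← e, ← IsLocalizedModule.map_apply Q.primeCompl fM fN u x, ← hx,
        smul_comm (t₀ : B) t]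
      show t • uQ ((t₀ : B) • y) = _
      rw [map_smul]
      rfl
    obtain ⟨t₁, ht₁⟩ := (IsLocalizedModule.eq_iff_exists Q.primeCompl fN).mp h1
    have h2 : u (((t₁ : B) * t) • x) ∈ maximalIdeal S • (⊤ : Submodule S N) := by
      rw [map_smul, mul_smul]
      rw [show (t₁ : B) • t • u x = (t₁ : B) • (t₀ : B) • z from ht₁]
      exact Submodule.smul_top_le_comap_smul_top _
        (((LinearMap.lsmul B N (t₁ : B)) ∘ₗ (LinearMap.lsmul B N (t₀ : B))).restrictScalars S) hz
    obtain ⟨v, hv, hvm⟩ := hu _ h2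
    let a : B := v * ((t₁ : B) * t) * t₀
    have ha : a ∉ Q := fun h => (Ideal.IsPrime.mem_or_mem inferInstance h).elim
      (fun h => (Ideal.IsPrime.mem_or_mem inferInstance h).elim hv
        fun h => (Ideal.IsPrime.mem_or_mem inferInstance h).elim t₁.2 ht) t₀.2
    have h3 : a • y ∈ maximalIdeal S • (⊤ : Submodule S (LocalizedModule Q.primeCompl M)) := by
      have h4 := Submodule.smul_top_le_comap_smul_top _ (fM.restrictScalars S) hvm
      rw [Submodule.mem_comap, LinearMap.coe_restrictScalars, map_smul, map_smul, ← hx] at h4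
      rw [show a • y = v • (((t₁ : B) * t) • ((t₀ : B) • y)) by simp only [a, mul_smul]]
      exact h4
    obtain ⟨w, hw⟩ := (IsLocalization.map_units BQ (⟨a, ha⟩ : Q.primeCompl)).exists_left_inv
    have := Submodule.smul_top_le_comap_smul_top _
      ((LinearMap.lsmul BQ (LocalizedModule Q.primeCompl M) w).restrictScalars S) h3
    rw [Submodule.mem_comap, LinearMap.coe_restrictScalars, LinearMap.lsmul_apply,
      ← algebraMap_smul BQ a, smul_smul, hw, one_smul] at this
    exact this
  have hres : Injective (uS.lTensor (ResidueField S)) := by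
    rw [injective_iff_map_eq_zero]
    intro z hz
    obtain ⟨y, rfl⟩ := TensorProduct.mk_surjective S (LocalizedModule Q.primeCompl M)
      (ResidueField S) Ideal.Quotient.mk_surjective z
    rw [TensorProduct.mk_apply] at hz ⊢
    exact (one_tmul_eq_zero_iff (maximalIdeal S) y).mpr
      (hu' y ((one_tmul_eq_zero_iff (maximalIdeal S) (uS y)).mp hz))
  haveI := hflat
  obtain ⟨-, hC, -⟩ := flat_coker_of_forall_mem uS fun J x hx =>
    mem_smul_top_of_map_mem (S := BQ) uS hres J x hx
  haveI := hC
  rw [← hexS.linearMap_ker_eq] at hC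
  haveI := hC
  exact Module.Flat.of_linearEquiv (πS.quotKerEquivOfSurjective hπS).symm

set_option maxHeartbeats 1000000 in
/-- **EGA IV 11.3.7**, non-noetherian, over a polynomial ring. -/
theorem injective_flat_coker_of_fibre {R : Type u} [CommRing R] [IsLocalRing R] {m : ℕ}
    {M N : Type u} [AddCommGroup M] [Module (MvPolynomial (Fin m) R) M] [Module R M]
    [IsScalarTower R (MvPolynomial (Fin m) R) M] [Module.FinitePresentation (MvPolynomial (Fin m) R) M]
    [AddCommGroup N] [Module (MvPolynomial (Fin m) R) N] [Module R N]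
    [IsScalarTower R (MvPolynomial (Fin m) R) N] [Module.FinitePresentation (MvPolynomial (Fin m) R) N]
    (u : M →ₗ[MvPolynomial (Fin m) R] N) (P : Ideal (MvPolynomial (Fin m) R)) [P.IsPrime]
    (hP : P.comap C = maximalIdeal R) [hN : Module.Flat R (LocalizedModule P.primeCompl N)]
    (hu : ∀ x, u x ∈ maximalIdeal R • (⊤ : Submodule R N) →
      ∃ s ∉ P, s • x ∈ maximalIdeal R • (⊤ : Submodule R M)) :
    (∀ x, u x = 0 → ∃ s ∉ P, s • x = 0) ∧
      Module.Flat R (LocalizedModule P.primeCompl (N ⧸ LinearMap.range u)) := by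
  classical
  let B := MvPolynomial (Fin m) R
  -- presentations
  obtain ⟨a, KM, eM, hKM⟩ := Module.FinitePresentation.exists_fin B M
  obtain ⟨sM, l, hl⟩ := Submodule.fg_iff_exists_fin_generating_family.mp hKM
  obtain ⟨r, KN, eN, hKN⟩ := Module.FinitePresentation.exists_fin B N
  obtain ⟨sN, g, hg⟩ := Submodule.fg_iff_exists_fin_generating_family.mp hKN
  let πM : (Fin a → B) →ₗ[B] M := eM.symm.toLinearMap ∘ₗ KM.mkQ
  let πN : (Fin r → B) →ₗ[B] N := eN.symm.toLinearMap ∘ₗ KN.mkQ
  have hπN : Surjective πN := eN.symm.surjective.comp KN.mkQ_surjective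
  have hπM : Surjective πM := eM.symm.surjective.comp KM.mkQ_surjective
  have hkerN : LinearMap.ker πN = KN := by simp [πN, LinearMap.ker_comp, Submodule.ker_mkQ]
  have hkerM : LinearMap.ker πM = KM := by simp [πM, LinearMap.ker_comp, Submodule.ker_mkQ]
  choose U hU using fun i => hπN (u (πM (Pi.single i 1)))
  let T : Set R := (⋃ j, ⋃ i, ↑(l j i).coeffs) ∪ (⋃ j, ⋃ i, ↑(g j i).coeffs) ∪
    ⋃ j, ⋃ i, ↑(U j i).coeffs
  haveI : IsNoetherianRing (ULift.{u} ℤ) := isNoetherianRing_of_ringEquiv ℤ ULift.ringEquiv.symm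
  obtain ⟨R₀, _, _, _, -, h₀, -, -, hloc₀, hT⟩ := exists_stage
    ((Int.castRingHom R).comp (ULift.ringEquiv : ULift.{u} ℤ ≃+* ℤ).toRingHom) (T := T)
    (((Set.finite_iUnion fun _ => Set.finite_iUnion fun _ => Finset.finite_toSet _).union
      (Set.finite_iUnion fun _ => Set.finite_iUnion fun _ => Finset.finite_toSet _)).union
        (Set.finite_iUnion fun _ => Set.finite_iUnion fun _ => Finset.finite_toSet _))
  letI : Algebra R₀ R := h₀.toAlgebra
  haveI : IsLocalHom (algebraMap R₀ R) := hloc₀
  let B₀ := MvPolynomial (Fin m) R₀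
  choose l₀ hl₀ using fun j i => exists_map_eq (algebraMap R₀ R) (p := l j i)
    fun x hx => hT (Or.inl (Or.inl (Set.mem_iUnion_of_mem j (Set.mem_iUnion_of_mem i hx))))
  choose g₀ hg₀ using fun j i => exists_map_eq (algebraMap R₀ R) (p := g j i)
    fun x hx => hT (Or.inl (Or.inr (Set.mem_iUnion_of_mem j (Set.mem_iUnion_of_mem i hx))))
  choose U₀ hU₀ using fun j i => exists_map_eq (algebraMap R₀ R) (p := U j i)
    fun x hx => hT (Or.inr (Set.mem_iUnion_of_mem j (Set.mem_iUnion_of_mem i hx)))
  let Φ₀ : (Fin a → B₀) →ₗ[B₀] (Fin r → B₀) := Fintype.linearCombination B₀ U₀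
  let Φ : (Fin a → B) →ₗ[B] (Fin r → B) := Fintype.linearCombination B U
  have hΦ : ∀ v, πN (Φ v) = u (πM v) := by
    suffices πN ∘ₗ Φ = u ∘ₗ πM from fun v => LinearMap.congr_fun this v
    refine LinearMap.pi_ext' fun i => LinearMap.ext_ring ?_
    simp only [LinearMap.comp_apply, LinearMap.coe_single, Φ,
      Fintype.linearCombination_apply_single, one_smul, hU]
  let ρ : ∀ {n : ℕ}, (Fin n → B₀) → (Fin n → B) := fun v i => algebraMap B₀ B (v i)
  have hρΦ : ∀ v, ρ (Φ₀ v) = Φ (ρ v) := fun v => funext fun i => by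
    simp only [ρ, Φ₀, Φ, Fintype.linearCombination_apply, Finset.sum_apply, Pi.smul_apply,
      smul_eq_mul, map_sum, map_mul]
    exact Finset.sum_congr rfl fun j _ => by rw [← hU₀ j i]; rfl
  let relN : Fin sN ⊕ Fin sM → Fin r → B₀ := Sum.elim g₀ fun j => Φ₀ (l₀ j)
  let relC : (Fin sN ⊕ Fin sM) ⊕ Fin a → Fin r → B₀ := Sum.elim relN U₀
  have hgρ : ∀ j, ρ (g₀ j) = g j := fun j => funext fun i => hg₀ j i
  have hlρ : ∀ j, ρ (l₀ j) = l j := fun j => funext fun i => hl₀ j i
  obtain ⟨eM₀, heM₀⟩ := baseChange_presentation (C := B) l₀ πM hπM (by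
    rw [hkerM, ← hl]
    congr 2
    funext j
    exact (hlρ j).symm)
  have hspanN : Submodule.span B (Set.range fun k => fun i => algebraMap B₀ B (relN k i)) = KN := by
    refine le_antisymm (Submodule.span_le.mpr ?_) ?_
    · rintro _ ⟨(j | j), rfl⟩
      · show ρ (g₀ j) ∈ KN
        rw [hgρ, ← hg]
        exact Submodule.subset_span ⟨j, rfl⟩
      · show ρ (Φ₀ (l₀ j)) ∈ KN
        have h0 : l j ∈ LinearMap.ker πM := by
          rw [hkerM, ← hl]
          exact Submodule.subset_span ⟨j, rfl⟩
        rw [hρΦ, hlρ, ← hkerN, LinearMap.mem_ker, hΦ, LinearMap.mem_ker.mp h0, map_zero]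
    · rw [← hg, Submodule.span_le]
      rintro _ ⟨j, rfl⟩
      exact Submodule.subset_span ⟨Sum.inl j, hgρ j⟩
  obtain ⟨eN₀, heN₀⟩ := baseChange_presentation (C := B) relN πN hπN (hkerN.trans hspanN.symm)
  let qC : N →ₗ[B] N ⧸ LinearMap.range u := (LinearMap.range u).mkQ
  obtain ⟨eC₀, -⟩ := baseChange_presentation (C := B) relC (qC ∘ₗ πN)
    ((LinearMap.range u).mkQ_surjective.comp hπN) (by
      refine le_antisymm (fun v hv => ?_) (Submodule.span_le.mpr ?_)
      · obtain ⟨x, hx⟩ : πN v ∈ LinearMap.range u := (Submodule.Quotient.mk_eq_zero _).mp hv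
        obtain ⟨w, rfl⟩ := hπM x
        have h1 : v - Φ w ∈ KN := by
          rw [← hkerN, LinearMap.mem_ker, map_sub, hΦ, hx, sub_self]
        rw [← sub_add_cancel v (Φ w)]
        refine add_mem ?_ ?_
        · rw [← hspanN] at h1
          refine Submodule.span_mono ?_ h1
          rintro _ ⟨k, rfl⟩
          exact ⟨Sum.inl k, rfl⟩
        · simp only [Φ, Fintype.linearCombination_apply]
          refine Submodule.sum_mem _ fun j _ => Submodule.smul_mem _ _
            (Submodule.subset_span ⟨Sum.inr j, ?_⟩)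
          funext i
          exact hU₀ j i
      · rintro _ ⟨(k | j), rfl⟩
        · have h0 : (fun i => algebraMap B₀ B (relN k i)) ∈ LinearMap.ker πN := by
            rw [hkerN, ← hspanN]
            exact Submodule.subset_span ⟨k, rfl⟩
          show qC (πN fun i => algebraMap B₀ B (relN k i)) = 0
          rw [LinearMap.mem_ker.mp h0, map_zero]
        · show qC (πN (fun i => algebraMap B₀ B (U₀ j i))) = 0
          rw [show (fun i => algebraMap B₀ B (U₀ j i)) = U j from funext fun i => hU₀ j i, hU]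
          exact (Submodule.Quotient.mk_eq_zero _).mpr ⟨_, rfl⟩)
  let LM := Submodule.span B₀ (Set.range l₀)
  let LN := Submodule.span B₀ (Set.range relN)
  let LC := Submodule.span B₀ (Set.range relC)
  let M₀ := (Fin a → B₀) ⧸ LM
  let N₀ := (Fin r → B₀) ⧸ LN
  let C₀ := (Fin r → B₀) ⧸ LC
  let u₀ : M₀ →ₗ[B₀] N₀ := LM.mapQ LN Φ₀ (Submodule.span_le.mpr (by
    rintro _ ⟨j, rfl⟩
    exact Submodule.subset_span ⟨Sum.inr j, rfl⟩))
  let π₀ : N₀ →ₗ[B₀] C₀ := LN.mapQ LC LinearMap.id (Submodule.span_mono (by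
    rintro _ ⟨k, rfl⟩
    exact ⟨Sum.inl k, rfl⟩))
  have hπ₀ : Surjective π₀ := fun y => by
    obtain ⟨v, rfl⟩ := LC.mkQ_surjective y
    exact ⟨LN.mkQ v, rfl⟩
  have hex₀ : Exact u₀ π₀ := by
    intro y
    obtain ⟨v, rfl⟩ := LN.mkQ_surjective y
    constructor
    · intro hv
      have hv' : v ∈ LC := (Submodule.Quotient.mk_eq_zero LC).mp hv
      rw [show LC = LN ⊔ Submodule.span B₀ (Set.range U₀) by
        simp only [LC, LN, relC, Set.Sum.elim_range, Submodule.span_union]] at hv'
      obtain ⟨p, hp, q, hq, rfl⟩ := Submodule.mem_sup.mp hv'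
      obtain ⟨w, hw⟩ := (Submodule.mem_span_range_iff_exists_fun _).mp hq
      refine ⟨LM.mkQ w, ?_⟩
      show LN.mkQ (Φ₀ w) = LN.mkQ (p + q)
      rw [map_add, show LN.mkQ p = 0 from (Submodule.Quotient.mk_eq_zero LN).mpr hp, zero_add,
        ← hw, Fintype.linearCombination_apply]
    · rintro ⟨x, hx⟩
      obtain ⟨w, rfl⟩ := LM.mkQ_surjective x
      rw [← hx]
      show LC.mkQ (Φ₀ w) = 0
      refine (Submodule.Quotient.mk_eq_zero LC).mpr ?_
      simp only [Φ₀, Fintype.linearCombination_apply]
      exact Submodule.sum_mem _ fun j _ => Submodule.smul_mem _ _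
        (Submodule.subset_span ⟨Sum.inr j, rfl⟩)
  -- the stage
  let ι : B ⊗[B₀] N₀ →ₗ[B] LocalizedModule P.primeCompl N :=
    LocalizedModule.mkLinearMap P.primeCompl N ∘ₗ eN₀.toLinearMap
  haveI : IsLocalizedModule P.primeCompl ι :=
    IsLocalizedModule.of_linearEquiv_right P.primeCompl (LocalizedModule.mkLinearMap P.primeCompl N) eN₀
  obtain ⟨S, _, _, _, _, h, hloc, -, -, -, hflat⟩ :=
    exists_flat_stage N₀ P hP ι (∅ : Set R) Set.finite_empty
  letI : Algebra S R := h.toRingHom.toAlgebra
  haveI : IsScalarTower R₀ S R := IsScalarTower.of_algebraMap_eq fun x => (h.commutes x).symm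
  haveI : IsLocalHom (algebraMap S R) := hloc
  let BS := MvPolynomial (Fin m) S
  let Q := P.comap (MvPolynomial.map (algebraMap S R))
  have hQ : Q.comap (algebraMap S BS) = maximalIdeal S := by
    rw [Ideal.comap_comap, MvPolynomial.algebraMap_eq,
      show (MvPolynomial.map (algebraMap S R)).comp C = (C : R →+* B).comp (algebraMap S R) from
        RingHom.ext fun x => MvPolynomial.map_C _ x, ← Ideal.comap_comap, hP]
    exact ((local_hom_TFAE (algebraMap S R)).out 0 4).mp hloc
  let uS : BS ⊗[B₀] M₀ →ₗ[BS] BS ⊗[B₀] N₀ := u₀.baseChange BS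
  let πS : BS ⊗[B₀] N₀ →ₗ[BS] BS ⊗[B₀] C₀ := π₀.baseChange BS
  have hexS : Exact uS πS := lTensor_exact BS hex₀ hπ₀
  have hπS : Surjective πS := LinearMap.lTensor_surjective BS hπ₀
  have hcompat : ∀ x, eN₀ (modMap N₀ (IsScalarTower.toAlgHom R₀ S R) (uS x)) =
      u (eM₀ (modMap M₀ (IsScalarTower.toAlgHom R₀ S R) x)) := by
    intro x
    induction x using TensorProduct.induction_on with
    | zero => simp
    | add p q hp hq => simp only [map_add, hp, hq]
    | tmul p x =>
      obtain ⟨v, rfl⟩ := LM.mkQ_surjective x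
      simp only [uS, modMap, LinearMap.baseChange_tmul, LinearMap.rTensor_tmul]
      show eN₀ (_ ⊗ₜ LN.mkQ (Φ₀ v)) = u (eM₀ (_ ⊗ₜ LM.mkQ v))
      rw [← mul_one (polyMap (IsScalarTower.toAlgHom R₀ S R) p), ← smul_eq_mul,
        ← smul_tmul', ← smul_tmul', map_smul, map_smul, map_smul, heN₀, heM₀]
      congr 1
      show πN (ρ (Φ₀ v)) = u (πM (ρ v))
      rw [hρΦ, hΦ]
  have huS : ∀ x, uS x ∈ maximalIdeal S • (⊤ : Submodule S (BS ⊗[B₀] N₀)) →
      ∃ v ∉ Q, v • x ∈ maximalIdeal S • (⊤ : Submodule S (BS ⊗[B₀] M₀)) := by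
    intro x hx
    have h1 : u (eM₀ (modMap M₀ (IsScalarTower.toAlgHom R₀ S R) x)) ∈
        maximalIdeal R • (⊤ : Submodule R N) := by
      rw [← hcompat]
      refine Submodule.smul_induction_on hx (fun s hs y _ => ?_) fun p q hp hq => ?_
      · rw [show modMap N₀ (IsScalarTower.toAlgHom R₀ S R) (s • y) =
            algebraMap S R s • modMap N₀ (IsScalarTower.toAlgHom R₀ S R) y from
          ((modMapS (m := m) (R₀ := R₀) N₀ S R).map_smul s y).trans
            (algebraMap_smul R s (modMapS (m := m) (R₀ := R₀) N₀ S R y)).symm]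
        rw [← algebraMap_smul B (algebraMap S R s) (modMap N₀ (IsScalarTower.toAlgHom R₀ S R) y),
          map_smul, algebraMap_smul]
        exact Submodule.smul_mem_smul (map_nonunit (algebraMap S R) s hs) trivial
      · rw [map_add, map_add]
        exact add_mem hp hq
    obtain ⟨s, hs, hsm⟩ := hu _ h1
    refine exists_smul_mem_descend M₀ P hP x hs ?_
    have h2 := Submodule.smul_top_le_comap_smul_top _
      (eM₀.symm.toLinearMap.restrictScalars R) hsm
    rw [Submodule.mem_comap, LinearMap.coe_restrictScalars, LinearEquiv.coe_coe, map_smul,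
      LinearEquiv.symm_apply_apply] at h2
    exact h2
  haveI : Module.Finite BS (BS ⊗[B₀] M₀) := Module.Finite.base_change _ _ _
  have hCS : Module.Flat S (LocalizedModule Q.primeCompl (BS ⊗[B₀] C₀)) :=
    flat_coker_noetherian Q hQ uS πS hexS hπS
      (hflat (LocalizedModule Q.primeCompl (BS ⊗[B₀] N₀)) (LocalizedModule.mkLinearMap _ _)) huS
  haveI := hCS
  let ιC : B ⊗[B₀] C₀ →ₗ[B] LocalizedModule P.primeCompl (N ⧸ LinearMap.range u) :=
    LocalizedModule.mkLinearMap P.primeCompl _ ∘ₗ eC₀.toLinearMap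
  haveI : IsLocalizedModule P.primeCompl ιC :=
    IsLocalizedModule.of_linearEquiv_right P.primeCompl (LocalizedModule.mkLinearMap P.primeCompl _) eC₀
  have hCR : Module.Flat R (LocalizedModule P.primeCompl (N ⧸ LinearMap.range u)) :=
    flat_of_stage (LS := LocalizedModule Q.primeCompl (BS ⊗[B₀] C₀))
      (L := LocalizedModule P.primeCompl (N ⧸ LinearMap.range u)) C₀ S R P
      (LocalizedModule.mkLinearMap _ _) ιC
  refine ⟨?_, hCR⟩
  -- injectivity
  haveI : Module.FinitePresentation B (N ⧸ LinearMap.range u) :=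
    Module.finitePresentation_of_surjective qC (LinearMap.range u).mkQ_surjective (by
      rw [Submodule.ker_mkQ, LinearMap.range_eq_map]
      exact Module.Finite.fg_top.map _)
  obtain ⟨_, ⟨g', rfl⟩, hg'P, hg'⟩ :=
    PrimeSpectrum.isTopologicalBasis_basic_opens.exists_subset_of_mem_open
      (show (⟨P, inferInstance⟩ : PrimeSpectrum B) ∈ {q : PrimeSpectrum B |
        Module.Flat R (LocalizedModule q.asIdeal.primeCompl (N ⧸ LinearMap.range u))} from hCR)
      isOpen_flat_locus
  obtain ⟨k, hk0, hk⟩ := FlatFP.exists_fg_ker_away (A := R) u qC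
    (LinearMap.exact_map_mkQ_range u) (LinearMap.range u).mkQ_surjective g'
    fun q hq hgq => hg' (a := ⟨q, hq⟩) hgq
  let fM := LocalizedModule.mkLinearMap P.primeCompl M
  let fN := LocalizedModule.mkLinearMap P.primeCompl N
  let fC := LocalizedModule.mkLinearMap P.primeCompl (N ⧸ LinearMap.range u)
  let uP := IsLocalizedModule.map P.primeCompl fM fN u
  let qP := IsLocalizedModule.map P.primeCompl fN fC qC
  let BP := Localization.AtPrime P
  let K : Submodule BP (LocalizedModule P.primeCompl M) :=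
    Submodule.span BP (fM '' (k : Set M))
  have hqP : Surjective qP :=
    IsLocalizedModule.map_surjective P.primeCompl fN fC qC (LinearMap.range u).mkQ_surjective
  have hexP : Exact uP qP :=
    IsLocalizedModule.map_exact P.primeCompl fM fN fC u qC (LinearMap.exact_map_mkQ_range u)
  have hkerK : ∀ y, uP y = 0 → y ∈ K := by
    intro y hy
    obtain ⟨⟨x, t⟩, hx⟩ := IsLocalizedModule.surj P.primeCompl fM y
    have h1 : fN (u x) = 0 := by
      rw [← IsLocalizedModule.map_apply P.primeCompl fM fN u x, ← hx]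
      show uP ((t : B) • y) = 0
      rw [map_smul, hy, smul_zero]
    obtain ⟨c, hc⟩ := (IsLocalizedModule.eq_zero_iff P.primeCompl fN).mp h1
    obtain ⟨n, hn⟩ := hk ((c : B) • x) (by rw [map_smul]; exact hc)
    have hunit : IsUnit (algebraMap B BP (g' ^ n * ((c : B) * t))) := by
      refine IsLocalization.map_units BP (⟨g' ^ n * ((c : B) * t), fun h => ?_⟩ : P.primeCompl)
      exact (Ideal.IsPrime.mem_or_mem inferInstance h).elim
        (fun h => hg'P (Ideal.IsPrime.mem_of_pow_mem inferInstance n h))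
        fun h => (Ideal.IsPrime.mem_or_mem inferInstance h).elim c.2 t.2
    obtain ⟨w, hw⟩ := hunit.exists_left_inv
    rw [← one_smul BP y, ← hw, mul_smul, algebraMap_smul]
    refine K.smul_mem _ ?_
    rw [mul_smul, mul_smul, show (t : B) • y = fM x from hx, ← map_smul, ← map_smul]
    generalize g' ^ n • (c : B) • x = z at hn
    induction hn using Submodule.span_induction with
    | mem z hz => exact Submodule.subset_span ⟨z, hz, rfl⟩
    | zero => rw [map_zero]; exact zero_mem _
    | add p q _ _ hp hq => rw [map_add]; exact add_mem hp hq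
    | smul b z _ hz => rw [map_smul, ← algebraMap_smul BP b]; exact K.smul_mem _ hz
  have hK0 : ∀ y ∈ K, uP y = 0 := by
    intro y hy
    induction hy using Submodule.span_induction with
    | mem z hz =>
      obtain ⟨z, hz', rfl⟩ := hz
      rw [IsLocalizedModule.map_apply, hk0 z hz', map_zero]
    | zero => exact map_zero _
    | add p q _ _ hp hq => rw [map_add, hp, hq, add_zero]
    | smul b z _ hz =>
      obtain ⟨⟨b₁, b₂⟩, hb⟩ := IsLocalization.surj P.primeCompl b
      apply ((Module.End.isUnit_iff _).mp (IsLocalizedModule.map_units (S := P.primeCompl) fN b₂)).1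
      show (b₂ : B) • uP (b • z) = (b₂ : B) • (0 : LocalizedModule P.primeCompl N)
      rw [smul_zero, ← map_smul, ← algebraMap_smul BP (b₂ : B), smul_smul, mul_comm, hb,
        algebraMap_smul, map_smul, hz, smul_zero]
  let uR := uP.restrictScalars R
  let qR := qP.restrictScalars R
  haveI : Module.Flat R (LocalizedModule P.primeCompl N) := hN
  let I := LinearMap.range uR
  haveI : Module.Flat R I := by
    rw [show I = LinearMap.ker qR from (show Exact uR qR from hexP).linearMap_ker_eq.symm]
    haveI := hCR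
    exact FlatFP.flat_ker qR hqP
  have hsat : ∀ y ∈ K, y ∈ maximalIdeal R • (K.restrictScalars R) := by
    intro y hy
    obtain ⟨⟨x, t⟩, hx⟩ := IsLocalizedModule.surj P.primeCompl fM y
    obtain ⟨c, hc⟩ := (IsLocalizedModule.eq_zero_iff P.primeCompl fN).mp (show fN (u x) = 0 by
      rw [← IsLocalizedModule.map_apply P.primeCompl fM fN u x, ← hx]
      show uP ((t : B) • y) = 0
      rw [map_smul, hK0 y hy, smul_zero])
    obtain ⟨s, hs, hsm⟩ := hu ((c : B) • x) (by
      rw [map_smul, show (c : B) • u x = 0 from hc]; exact zero_mem _)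
    have hym : y ∈ maximalIdeal R • (⊤ : Submodule R (LocalizedModule P.primeCompl M)) := by
      have h4 := Submodule.smul_top_le_comap_smul_top _ (fM.restrictScalars R) hsm
      rw [Submodule.mem_comap, LinearMap.coe_restrictScalars, map_smul, map_smul, ← hx] at h4
      have hunit : IsUnit (algebraMap B BP (s * ((c : B) * t))) := by
        refine IsLocalization.map_units BP (⟨s * ((c : B) * t), fun h => ?_⟩ : P.primeCompl)
        exact (Ideal.IsPrime.mem_or_mem inferInstance h).elim hs
          fun h => (Ideal.IsPrime.mem_or_mem inferInstance h).elim c.2 t.2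
      obtain ⟨w, hw⟩ := hunit.exists_left_inv
      have := Submodule.smul_top_le_comap_smul_top _
        ((LinearMap.lsmul BP (LocalizedModule P.primeCompl M) w).restrictScalars R) h4
      rw [Submodule.mem_comap, LinearMap.coe_restrictScalars, LinearMap.lsmul_apply,
        show s • (c : B) • t • y = (s * ((c : B) * t)) • y by
          rw [mul_smul, mul_smul]; rfl,
        ← algebraMap_smul BP (s * ((c : B) * t)), smul_smul, hw, one_smul] at this
      exact this
    obtain ⟨z, hz⟩ := exists_rid_lTensor_eq (maximalIdeal R) hym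
    have h2 : uR.rangeRestrict.rTensor (maximalIdeal R) z = 0 := by
      apply Module.Flat.lTensor_preserves_injective_linearMap (M := I) (maximalIdeal R).subtype
        (maximalIdeal R).injective_subtype
      apply (TensorProduct.rid R I).injective
      rw [map_zero, map_zero]
      have : ∀ z, TensorProduct.rid R I ((maximalIdeal R).subtype.lTensor I
          (uR.rangeRestrict.rTensor (maximalIdeal R) z)) = uR.rangeRestrict
            (TensorProduct.rid R _ ((maximalIdeal R).subtype.lTensor _ z)) := fun z => by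
        induction z using TensorProduct.induction_on with
        | zero => simp
        | add p q hp hq => simp only [map_add, hp, hq]
        | tmul p q => simp
      rw [this, hz]
      exact Subtype.ext (hK0 y hy)
    obtain ⟨z', rfl⟩ := (rTensor_exact (maximalIdeal R)
      (f := (K.restrictScalars R).subtype) (g := uR.rangeRestrict) (fun b =>
        ⟨fun hb => ⟨⟨b, hkerK b (congrArg Subtype.val hb)⟩, rfl⟩,
          fun ⟨b', hb'⟩ => hb' ▸ Subtype.ext (hK0 b'.1 b'.2)⟩)
      uR.surjective_rangeRestrict z).mp h2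
    rw [← hz]
    clear hz h2
    induction z' using TensorProduct.induction_on with
    | zero => simp
    | add p q hp hq => simp only [map_add]; exact add_mem hp hq
    | tmul p q => simpa using Submodule.smul_mem_smul q.2 p.2
  have hKbot : K = ⊥ := by
    refine Submodule.eq_bot_of_le_smul_of_le_jacobson_bot ((maximalIdeal R).map (algebraMap R BP)) K
      (Submodule.fg_span (k.finite_toSet.image _)) (fun y hy => ?_) ?_
    · have h1 := hsat y hy
      rw [← Ideal.smul_restrictScalars] at h1
      exact h1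
    · refine le_trans ?_ (IsLocalRing.maximalIdeal_le_jacobson _)
      rw [IsScalarTower.algebraMap_eq R B BP, ← Ideal.map_map,
        ← Localization.AtPrime.map_eq_maximalIdeal]
      exact Ideal.map_mono (Ideal.map_le_iff_le_comap.mpr
        (by rw [MvPolynomial.algebraMap_eq, hP]))
  intro x hx
  have h1 : fM x ∈ K := hkerK _ (by rw [IsLocalizedModule.map_apply, hx, map_zero])
  rw [hKbot, Submodule.mem_bot] at h1
  obtain ⟨c, hc⟩ := (IsLocalizedModule.eq_zero_iff P.primeCompl fM).mp h1
  exact ⟨c, c.2, hc⟩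

end GrothLib.FibreFlat
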