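import Groth.Agent.Lib.FibreFlat.Descend
import Groth.Agent.Lib.FibreFlat.Quotient
import Groth.Agent.Lib.Flatness.Fibre

/-! # The fibre criterion at a noetherian stage, relative to the top -/

universe u

namespace GrothLib.FibreFlat

open TensorProduct Function IsLocalRing MvPolynomial GrothLib.Flatness

attribute [local instance] MvPolynomial.algebraMvPolynomial

variable {R₀ : Type u} [CommRing R₀] {m n : ℕ} (M₀ : Type u) [AddCommGroup M₀]
  [Module (MvPolynomial (Fin m) R₀) M₀] [Module R₀ M₀]
  [IsScalarTower R₀ (MvPolynomial (Fin m) R₀) M₀]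
  {S R : Type u} [CommRing S] [CommRing R] [Algebra R₀ S] [Algebra R₀ R]
  [Algebra S R] [IsScalarTower R₀ S R] [IsLocalRing S] [IsLocalRing R]
  [IsLocalHom (algebraMap S R)]

/-- At a noetherian stage, `LS` is exact on injections of modules killed by `JS`. -/
theorem lTensor_injective_stage [IsNoetherianRing S] [Module.Finite (MvPolynomial (Fin m) R₀) M₀]
    [Algebra (MvPolynomial (Fin n) S) (MvPolynomial (Fin m) S)]
    [IsScalarTower S (MvPolynomial (Fin n) S) (MvPolynomial (Fin m) S)]
    (pS : Fin n → MvPolynomial (Fin m) S)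
    (hpS : ∀ x, algebraMap (MvPolynomial (Fin n) S) (MvPolynomial (Fin m) S) x = aeval pS x)
    (P : Ideal (MvPolynomial (Fin m) R)) [P.IsPrime] (hP : P.comap C = maximalIdeal R)
    (JS : Ideal (MvPolynomial (Fin n) S))
    (hJ : ∀ j ∈ JS, ∀ x : MvPolynomial (Fin m) S ⊗[MvPolynomial (Fin m) R₀] M₀, aeval pS j • x = 0)
    (hrel : ∀ {l : ℕ} (b : Fin l → MvPolynomial (Fin n) S)
      (ν : Fin l → MvPolynomial (Fin m) S ⊗[MvPolynomial (Fin m) R₀] M₀),
      ∑ i, aeval pS (b i) • ν i ∈
        maximalIdeal S • (⊤ : Submodule S (MvPolynomial (Fin m) S ⊗[MvPolynomial (Fin m) R₀] M₀)) →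
      ∃ u ∉ P, ∃ (k : ℕ) (a : Fin l → Fin k → MvPolynomial (Fin n) R)
        (z : Fin k → MvPolynomial (Fin m) R ⊗[MvPolynomial (Fin m) R₀] M₀),
        (∀ i, u • modMap M₀ (IsScalarTower.toAlgHom R₀ S R) (ν i) -
            ∑ j, aeval (fun x => MvPolynomial.map (algebraMap S R) (pS x)) (a i j) • z j ∈
          maximalIdeal R •
            (⊤ : Submodule R (MvPolynomial (Fin m) R ⊗[MvPolynomial (Fin m) R₀] M₀))) ∧
        ∀ j, ∑ i, MvPolynomial.map (algebraMap S R) (b i) * a i j ∈
          JS.map (MvPolynomial.map (algebraMap S R)) ⊔ (maximalIdeal R).map C)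
    {LS : Type u} [AddCommGroup LS] [Module (MvPolynomial (Fin m) S) LS] [Module S LS]
    [IsScalarTower S (MvPolynomial (Fin m) S) LS]
    [Module (Localization.AtPrime (P.comap (MvPolynomial.map (algebraMap S R)))) LS]
    [IsScalarTower (MvPolynomial (Fin m) S)
      (Localization.AtPrime (P.comap (MvPolynomial.map (algebraMap S R)))) LS]
    [Module (MvPolynomial (Fin n) S) LS]
    [IsScalarTower (MvPolynomial (Fin n) S) (MvPolynomial (Fin m) S) LS]
    (ιS : MvPolynomial (Fin m) S ⊗[MvPolynomial (Fin m) R₀] M₀ →ₗ[MvPolynomial (Fin m) S] LS)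
    [IsLocalizedModule (P.comap (MvPolynomial.map (algebraMap S R))).primeCompl ιS]
    [Module.Flat S LS]
    (A A' : Type u) [AddCommGroup A] [Module (MvPolynomial (Fin n) S) A] [AddCommGroup A']
    [Module (MvPolynomial (Fin n) S) A'] (f : A →ₗ[MvPolynomial (Fin n) S] A')
    (hA : Module.IsTorsionBySet (MvPolynomial (Fin n) S) A JS)
    (hA' : Module.IsTorsionBySet (MvPolynomial (Fin n) S) A' JS) (hf : Injective f) :
    Injective (f.lTensor LS) := by
  classical
  set Q := P.comap (MvPolynomial.map (algebraMap S R)) with hQdef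
  let PX := MvPolynomial (Fin n) S
  let PZ := MvPolynomial (Fin m) S
  let NS := MvPolynomial (Fin m) S ⊗[MvPolynomial (Fin m) R₀] M₀
  haveI : IsScalarTower S PX LS := IsScalarTower.of_algebraMap_smul fun s x => by
    rw [← algebraMap_smul PZ (algebraMap S PX s) x, ← IsScalarTower.algebraMap_apply,
      algebraMap_smul]
  have hact : ∀ (x : PX) (y : LS), x • y = aeval pS x • y := fun x y => by
    rw [← hpS, algebraMap_smul]
  have hQ : ∀ s ∈ maximalIdeal S, (C s : PZ) ∈ Q := fun s hs => by
    show MvPolynomial.map (algebraMap S R) (C s) ∈ P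
    rw [map_C]
    exact (hP.symm ▸ map_nonunit (algebraMap S R) s hs : algebraMap S R s ∈ P.comap C)
  -- every element is a fraction
  have hfrac : ∀ {l : ℕ} (x : Fin l → LS), ∃ (v : Q.primeCompl) (ν : Fin l → NS),
      ∀ i, ιS (ν i) = v • x i := fun {l} x => by
    choose t ht using fun i => IsLocalizedModule.surj Q.primeCompl ιS (x i)
    refine ⟨∏ i, (t i).2, fun i => (∏ j ∈ Finset.univ.erase i, (t j).2 : Q.primeCompl) • (t i).1,
      fun i => ?_⟩
    simp only [LinearMap.map_smul_of_tower, ← ht i, smul_smul]
    congr 1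
    exact Finset.prod_erase_mul _ _ (Finset.mem_univ i)
  -- the quotient rings
  let KB := JS.map (algebraMap PX PZ)
  let K := KB.map (algebraMap PZ (Localization.AtPrime Q))
  let B := PX ⧸ JS
  let D := Localization.AtPrime Q ⧸ K
  haveI : IsScalarTower PX (Localization.AtPrime Q) LS :=
    IsScalarTower.of_algebraMap_smul fun a x => by
      rw [IsScalarTower.algebraMap_apply PX PZ (Localization.AtPrime Q), algebraMap_smul,
        algebraMap_smul]
  have hJL : ∀ j ∈ JS, ∀ x : LS, aeval pS j • x = 0 := fun j hj x => by
    obtain ⟨v, ν, hν⟩ := hfrac (fun _ : Fin 1 => x)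
    apply ((Module.End.isUnit_iff _).mp (IsLocalizedModule.map_units (S := Q.primeCompl) ιS v)).1
    simp only [Module.algebraMap_end_apply, smul_zero]
    rw [smul_comm, ← Submonoid.smul_def, ← hν 0, ← map_smul, hJ j hj, map_zero]
  have hB : Module.IsTorsionBySet PX LS JS := fun x a => by rw [hact]; exact hJL a a.2 x
  have hD : Module.IsTorsionBySet (Localization.AtPrime Q) LS K := by
    intro x a
    have hle : K ≤ Module.annihilator (Localization.AtPrime Q) LS := by
      rw [Ideal.map_le_iff_le_comap, Ideal.map_le_iff_le_comap]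
      intro j hj
      simp only [Ideal.mem_comap, Module.mem_annihilator, algebraMap_smul]
      intro y
      rw [hpS]
      exact hJL j hj y
    exact Module.mem_annihilator.mp (hle a.2) x
  letI : Module B LS := hB.module
  haveI : IsScalarTower PX B LS := hB.isScalarTower
  letI : Module D LS := hD.module
  haveI : IsScalarTower (Localization.AtPrime Q) D LS := hD.isScalarTower
  let φBD : B →+* D := (Ideal.Quotient.lift JS
    ((Ideal.Quotient.mk K).comp (algebraMap PX (Localization.AtPrime Q))) fun j hj => by
      refine Ideal.Quotient.eq_zero_iff_mem.mpr ?_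
      rw [IsScalarTower.algebraMap_apply PX PZ (Localization.AtPrime Q)]
      exact Ideal.mem_map_of_mem _ (Ideal.mem_map_of_mem _ hj))
  letI : Algebra B D := RingHom.toAlgebra (R := B) (S := D) φBD
  haveI : IsScalarTower B D LS := IsScalarTower.of_algebraMap_smul fun b x => by
    obtain ⟨b, rfl⟩ := Ideal.Quotient.mk_surjective b
    show algebraMap (Localization.AtPrime Q) D (algebraMap PX (Localization.AtPrime Q) b) • x =
      algebraMap PX B b • x
    rw [algebraMap_smul, algebraMap_smul, algebraMap_smul]
  haveI : IsScalarTower S B LS := IsScalarTower.of_algebraMap_smul fun s x => by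
    rw [IsScalarTower.algebraMap_apply S PX B]
    refine (algebraMap_smul (M := LS) B (algebraMap S PX s) x).trans ?_
    exact algebraMap_smul (M := LS) PX s x
  haveI : Module.Finite (Localization.AtPrime Q) LS :=
    Module.Finite.of_isLocalizedModule Q.primeCompl ιS
  haveI : Module.Finite D LS :=
    Module.Finite.of_restrictScalars_finite (Localization.AtPrime Q) D LS
  haveI : IsNoetherianRing (Localization.AtPrime Q) :=
    IsLocalization.isNoetherianRing Q.primeCompl _ inferInstance
  haveI : IsNoetherianRing D :=
    isNoetherianRing_of_surjective _ _ (Ideal.Quotient.mk K) Ideal.Quotient.mk_surjective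
  haveI : IsNoetherianRing PX := inferInstance
  haveI : IsNoetherianRing B :=
    isNoetherianRing_of_surjective _ _ (Ideal.Quotient.mk JS) Ideal.Quotient.mk_surjective
  have hflat : Module.Flat B LS := by
    refine flat_of_localCriterion (S := D) ((maximalIdeal S).map (algebraMap S B)) ?_
      (lTensor_map_injective _) ?_
    · rw [Ideal.map_map]
      have : (algebraMap B D).comp (algebraMap S B) =
          (Ideal.Quotient.mk K).comp ((algebraMap PX (Localization.AtPrime Q)).comp (algebraMap S PX)) :=
        rfl
      rw [this, ← Ideal.map_map]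
      refine map_le_jacobson_bot K _ ?_
      rw [← Localization.AtPrime.map_eq_maximalIdeal,
        IsScalarTower.algebraMap_eq PX PZ (Localization.AtPrime Q), RingHom.comp_assoc,
        ← IsScalarTower.algebraMap_eq S PX PZ, ← Ideal.map_map]
      exact Ideal.map_mono (Ideal.map_le_iff_le_comap.mpr fun s hs => hQ s hs)
    · refine flat_quotient_of_relations _ fun {l} b x hbx => ?_
      choose bh hbh using fun i => Ideal.Quotient.mk_surjective (b i)
      obtain ⟨v, ν, hν⟩ := hfrac x
      -- `Σ bh ν` lies in `𝔪 NS` after multiplication by some unit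
      have hsub : ∀ y ∈ (maximalIdeal S).map (algebraMap S B) • (⊤ : Submodule B LS),
          ∃ w : Q.primeCompl, ∃ t ∈ maximalIdeal S • (⊤ : Submodule S NS), ιS t = w • y := by
        intro y hy
        have hy' : y ∈ maximalIdeal S • (⊤ : Submodule S LS) := by
          rw [← Submodule.restrictScalars_top S B LS, ← Ideal.smul_restrictScalars]
          exact hy
        refine Submodule.smul_induction_on hy' (fun s hs z _ => ?_) fun z₁ z₂ h₁ h₂ => ?_
        · obtain ⟨⟨t, w⟩, ht⟩ := IsLocalizedModule.surj Q.primeCompl ιS z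
          refine ⟨w, s • t, Submodule.smul_mem_smul hs trivial, ?_⟩
          rw [LinearMap.map_smul_of_tower, ← ht, smul_comm]
        · obtain ⟨w₁, t₁, ht₁, e₁⟩ := h₁
          obtain ⟨w₂, t₂, ht₂, e₂⟩ := h₂
          have hstab : ∀ (c : PZ) {t : NS}, t ∈ maximalIdeal S • (⊤ : Submodule S NS) →
              c • t ∈ maximalIdeal S • (⊤ : Submodule S NS) := fun c {t} ht => by
            refine Submodule.smul_induction_on ht (fun s hs z _ => ?_) fun a b ha hb => ?_
            · rw [smul_comm]
              exact Submodule.smul_mem_smul hs trivial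
            · rw [smul_add]
              exact add_mem ha hb
          refine ⟨w₁ * w₂, (w₂ : PZ) • t₁ + (w₁ : PZ) • t₂,
            add_mem (hstab _ ht₁) (hstab _ ht₂), ?_⟩
          rw [map_add, map_smul, map_smul, e₁, e₂]
          simp only [← Submonoid.smul_def, smul_smul, smul_add, mul_comm w₂ w₁]
      have hstab : ∀ (c : PZ) {t : NS}, t ∈ maximalIdeal S • (⊤ : Submodule S NS) →
          c • t ∈ maximalIdeal S • (⊤ : Submodule S NS) := fun c {t} ht => by
        refine Submodule.smul_induction_on ht (fun s hs z _ => ?_) fun a b ha hb => ?_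
        · rw [smul_comm]
          exact Submodule.smul_mem_smul hs trivial
        · rw [smul_add]
          exact add_mem ha hb
      obtain ⟨w, t, ht, hwt⟩ := hsub _ hbx
      have he : ιS (w • ∑ i, aeval pS (bh i) • ν i) = ιS (v • t) := by
        rw [LinearMap.map_smul_of_tower, LinearMap.map_smul_of_tower ιS v t, hwt, map_sum,
          smul_comm v w]
        congr 1
        rw [Finset.smul_sum]
        refine Finset.sum_congr rfl fun i _ => ?_
        rw [map_smul, hν, Submonoid.smul_def, Submonoid.smul_def,
          smul_comm (aeval pS (bh i)), ← hact, ← algebraMap_smul B (bh i),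
          Ideal.Quotient.algebraMap_eq, hbh]
      obtain ⟨w', hw'⟩ := (IsLocalizedModule.eq_iff_exists Q.primeCompl ιS).mp he
      let W : Q.primeCompl := w' * w
      have hrelS : ∑ i, aeval pS (bh i) • (W : PZ) • ν i ∈
          maximalIdeal S • (⊤ : Submodule S NS) := by
        have : ∑ i, aeval pS (bh i) • (W : PZ) • ν i = (w' : PZ) • (v : PZ) • t := by
          rw [← show w' • v • t = (w' : PZ) • (v : PZ) • t from rfl, ← hw', Submonoid.smul_def,
            Submonoid.smul_def, Finset.smul_sum, Finset.smul_sum]
          refine Finset.sum_congr rfl fun i _ => ?_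
          simp only [W, Submonoid.coe_mul, smul_smul]
          ring_nf
        rw [this]
        exact hstab _ (hstab _ ht)
      obtain ⟨u, hu, k, a, z, hz, ha⟩ := hrel bh (fun i => (W : PZ) • ν i) hrelS
      obtain ⟨u', hu', κ, _, c, ζ, hcζ, hbc⟩ :=
        relations_descend M₀ P hP pS JS bh (fun i => (W : PZ) • ν i) u hu a z hz ha
      let U : Q.primeCompl := ⟨u', hu'⟩ * W * v
      obtain ⟨inv, hinv⟩ := (IsLocalizedModule.map_units (S := Q.primeCompl) ιS U).exists_left_inv
      refine ⟨κ, inferInstance, fun i j => Ideal.Quotient.mk JS (c i j), fun j => inv (ιS (ζ j)),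
        fun i => ?_, fun j => ?_⟩
      · have h1 : inv (ιS (u' • (W : PZ) • ν i - ∑ x, aeval pS (c i x) • ζ x)) ∈
            maximalIdeal S • (⊤ : Submodule S LS) := by
          refine Submodule.smul_induction_on (hcζ i) (fun s hs z _ => ?_) fun a b ha hb => ?_
          · rw [LinearMap.map_smul_of_tower, LinearMap.map_smul_of_tower]
            exact Submodule.smul_mem_smul hs trivial
          · rw [map_add, map_add]
            exact add_mem ha hb
        have h2 : inv (ιS (u' • (W : PZ) • ν i - ∑ x, aeval pS (c i x) • ζ x)) =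
            x i - ∑ j, Ideal.Quotient.mk JS (c i j) • inv (ιS (ζ j)) := by
          rw [map_sub, map_sub, map_sum, map_sum]
          congr 1
          · have hU : ιS (u' • (W : PZ) • ν i) = (U : PZ) • x i := by
              rw [map_smul, map_smul, hν]
              simp only [U, Submonoid.coe_mul, Submonoid.smul_def, smul_smul, mul_assoc]
            rw [hU]
            have := LinearMap.congr_fun hinv (x i)
            simpa using this
          · refine Finset.sum_congr rfl fun j _ => ?_
            rw [map_smul, map_smul, ← hact, ← algebraMap_smul B (c i j)]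
            rfl
        rw [h2] at h1
        rw [← Submodule.restrictScalars_top S B LS, ← Ideal.smul_restrictScalars] at h1
        exact h1
      · have h1 := Ideal.mem_map_of_mem (Ideal.Quotient.mk JS) (hbc j)
        rw [Ideal.map_sup, Ideal.map_quotient_self, bot_sup_eq, Ideal.map_map, map_sum] at h1
        simp only [map_mul, hbh] at h1
        exact h1
  exact lTensor_injective_of_flat_of_torsion JS A A' f hA hA' hf

end GrothLib.FibreFlat
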