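import Mathlib.RingTheory.Flat.Basic
import Mathlib.RingTheory.Ideal.Colon
import Mathlib.LinearAlgebra.TensorProduct.Tower
import Groth.Agent.Lib.Flatness.InjMod

/-!
# Universal injectivity of `N → S' ⊗ N` for flat `S'`
-/

set_option autoImplicit false
universe u

namespace GrothLib.FibreFlat

open TensorProduct

/-- An element vanishing after a flat base change has annihilator generating the unit ideal. -/
theorem map_colon_eq_top {S S' P : Type u} [CommRing S] [CommRing S'] [Algebra S S']
    [Module.Flat S S'] [AddCommGroup P] [Module S P] (z : P) (h : (1 : S') ⊗ₜ[S] z = 0) :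
    ((⊥ : Submodule S P).colon {z}).map (algebraMap S S') = ⊤ := by
  let a := (⊥ : Submodule S P).colon {z}
  let φ : S ⧸ a →ₗ[S] P := Submodule.liftQ a (LinearMap.toSpanSingleton S P z) fun x hx => by
    rw [LinearMap.mem_ker, LinearMap.toSpanSingleton_apply]
    exact (Submodule.mem_bot _).mp (Submodule.mem_colon_singleton.mp hx)
  have hφ : Function.Injective φ := by
    rw [injective_iff_map_eq_zero]
    intro x hx
    obtain ⟨x, rfl⟩ := Submodule.mkQ_surjective a x
    exact (Submodule.Quotient.mk_eq_zero _).mpr
      (Submodule.mem_colon_singleton.mpr ((Submodule.mem_bot _).mpr hx))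
  have h0 : φ (Submodule.Quotient.mk 1) = z := (one_smul S z)
  have h1 : (1 : S') ⊗ₜ[S] (1 : S ⧸ a) = 0 := by
    apply Module.Flat.lTensor_preserves_injective_linearMap (M := S') φ hφ
    rw [map_zero, LinearMap.lTensor_tmul]
    exact (congrArg _ h0).trans h
  have h2 : (1 : S ⧸ a) ⊗ₜ[S] (1 : S') = 0 := by
    rw [← TensorProduct.comm_tmul, h1, map_zero]
  rw [GrothLib.Flatness.one_tmul_eq_zero_iff] at h2
  rw [Ideal.eq_top_iff_one]
  have h3 : (1 : S') ∈ ((a.map (algebraMap S S')).restrictScalars S) := by
    rw [← Ideal.smul_top_eq_map]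
    exact h2
  exact h3

/-- Universal injectivity over `R` of `N → S' ⊗ N` from torsion freeness of all `N ⊗ Q`. -/
theorem univInj_mk {R S S' N : Type u} [CommRing R] [CommRing S] [CommRing S'] [Algebra R S]
    [Algebra S S'] [Algebra R S'] [IsScalarTower R S S'] [AddCommGroup N] [Module S N] [Module R N]
    [IsScalarTower R S N] (Q : Type u) [AddCommGroup Q] [Module R Q]
    (h : ∀ z : N ⊗[R] Q, (1 : S') ⊗ₜ[S] z = 0 → z = 0) :
    Function.Injective (((TensorProduct.mk S S' N 1).restrictScalars R).lTensor Q) := by
  rw [LinearMap.lTensor_inj_iff_rTensor_inj, injective_iff_map_eq_zero]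
  intro z hz
  refine h z ((AlgebraTensorModule.assoc R S S S' N Q).symm.injective ?_)
  rw [map_zero]
  refine Eq.trans ?_ hz
  clear hz
  induction z using TensorProduct.induction_on with
  | zero => simp
  | add a b ha hb => simp only [tmul_add, map_add, ha, hb]
  | tmul n q => rfl

end GrothLib.FibreFlat
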